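import Cfsg.Agent.Recognition.MathieuEleven.Basic
import Cfsg.Agent.S0426
import Cfsg.Agent.S0411

/-!
A sharply four-fold transitive simple group on eleven points with one involution over each triple preserves
an `S(4, 5, 11)`.
-/

set_option autoImplicit false

namespace Cfsg.Lib.MathieuEleven

open MulAction Cfsg.Lib.Small
open scoped Pointwise

variable {G : Type*} [Group G] [Finite G] [IsSimpleGroup G]
variable {Ω : Type*} [Fintype Ω] [DecidableEq Ω] [MulAction G Ω]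

/-- The properties used to build the Steiner system. -/
structure Sharp (G : Type*) [Group G] (Ω : Type*) [MulAction G Ω] : Prop where
  hnc : ¬ ∀ a b : G, a * b = b * a
  card : Nat.card Ω = 11
  trans : IsMultiplyPretransitive G Ω 4
  four : ∀ a b c d : Ω, a ≠ b → a ≠ c → b ≠ c → a ≠ d → b ≠ d → c ≠ d → ∀ g : G,
    g • a = a → g • b = b → g • c = c → g • d = d → g = 1
  triple : ∀ a b c : Ω, a ≠ b → a ≠ c → b ≠ c →
    ∃! i : G, (i * i = 1 ∧ i ≠ 1) ∧ i • a = a ∧ i • b = b ∧ i • c = c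

omit [Finite G] [IsSimpleGroup G] [Fintype Ω] [DecidableEq Ω] in
theorem Sharp.move (S : Sharp G Ω) {a b c d a' b' c' d' : Ω}
    (h : a ≠ b ∧ a ≠ c ∧ a ≠ d ∧ b ≠ c ∧ b ≠ d ∧ c ≠ d)
    (h' : a' ≠ b' ∧ a' ≠ c' ∧ a' ≠ d' ∧ b' ≠ c' ∧ b' ≠ d' ∧ c' ≠ d') :
    ∃ g : G, g • a = a' ∧ g • b = b' ∧ g • c = c' ∧ g • d = d' := by
  have inj : ∀ {p q r s : Ω}, (p ≠ q ∧ p ≠ r ∧ p ≠ s ∧ q ≠ r ∧ q ≠ s ∧ r ≠ s) → Function.Injective ![p, q, r, s] := by
    intro p q r s hh i j
    obtain ⟨h1, h2, h3, h4, h5, h6⟩ := hh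
    fin_cases i <;> fin_cases j <;> simp [h1, h2, h3, h4, h5, h6, h1.symm, h2.symm, h3.symm, h4.symm, h5.symm, h6.symm]
  obtain ⟨g, hg⟩ := S.trans.exists_smul_eq (⟨_, inj h⟩ : Fin 4 ↪ Ω) ⟨_, inj h'⟩
  have e : ∀ i, g • (![a, b, c, d] i) = ![a', b', c', d'] i := fun i => congrArg (fun y : Fin 4 ↪ Ω => y i) hg
  exact ⟨g, e 0, e 1, e 2, e 3⟩

omit [Finite G] [IsSimpleGroup G] [Fintype Ω] [DecidableEq Ω] in
theorem Sharp.eq_of_four (S : Sharp G Ω) {a b c d : Ω} (h : a ≠ b ∧ a ≠ c ∧ a ≠ d ∧ b ≠ c ∧ b ≠ d ∧ c ≠ d)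
    {g g' : G} (ha : g • a = g' • a) (hb : g • b = g' • b) (hc : g • c = g' • c) (hd : g • d = g' • d) : g = g' := by
  obtain ⟨h1, h2, h3, h4, h5, h6⟩ := h
  have := S.four a b c d h1 h2 h4 h3 h5 h6 (g'⁻¹ * g) (by rw [mul_smul, ha, inv_smul_smul])
    (by rw [mul_smul, hb, inv_smul_smul]) (by rw [mul_smul, hc, inv_smul_smul]) (by rw [mul_smul, hd, inv_smul_smul])
  exact (inv_mul_eq_one.1 this).symm

theorem Sharp.fixed_le (S : Sharp G Ω) {g : G} (hg : g ≠ 1) : {x : Ω | g • x = x}.ncard ≤ 3 := by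
  by_contra! h
  obtain ⟨T, hT, hTc⟩ := Finset.exists_subset_card_eq (n := 4)
    (s := (Finset.univ.filter fun x : Ω => g • x = x)) (by
      rw [← Set.ncard_coe_finset, Finset.coe_filter]; simp only [Finset.mem_univ, true_and]; omega)
  obtain ⟨a, b, c, d, h1, h2, h3, h4, h5, h6, rfl⟩ := Finset.card_eq_four.1 hTc
  refine hg (S.four a b c d h1 h2 h4 h3 h5 h6 g ?_ ?_ ?_ ?_) <;>
    exact (Finset.mem_filter.1 (hT (by simp))).2

theorem Sharp.involution_fixed (S : Sharp G Ω) {i : G} (h2 : i * i = 1) (h1 : i ≠ 1) :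
    {x : Ω | i • x = x}.ncard = 3 := by
  have h4 := four_dvd_moved S.hnc (α := Ω) h2
  have hle := S.fixed_le h1
  have hsum : {x : Ω | i • x = x}.ncard + {x : Ω | i • x ≠ x}.ncard = 11 := by
    rw [← S.card, ← Set.ncard_univ, ← Set.ncard_union_eq (s := {x : Ω | i • x = x}) (t := {x : Ω | i • x ≠ x})
      (Set.disjoint_left.2 fun x hx hx' => hx' hx)
      (Set.toFinite _) (Set.toFinite _)]
    congr 1
    ext x
    simpa using em _
  omega

/-- The lifts of the double transpositions of `Q`. -/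
def IsFlip (Q : Finset Ω) (g : G) : Prop := g * g = 1 ∧ ∀ p ∈ Q, g • p ∈ Q ∧ g • p ≠ p

theorem Sharp.exists_center (S : Sharp G Ω) {Q : Finset Ω} (hQ : Q.card = 4) :
    ∃! x, x ∉ Q ∧ ∀ g : G, IsFlip Q g → g • x = x := by
  obtain ⟨a, b, c, d, hab, hac, had, hbc, hbd, hcd, rfl⟩ := Finset.card_eq_four.1 hQ
  have hd4 : a ≠ b ∧ a ≠ c ∧ a ≠ d ∧ b ≠ c ∧ b ≠ d ∧ c ≠ d := ⟨hab, hac, had, hbc, hbd, hcd⟩
  obtain ⟨g₁, p1, p2, p3, p4⟩ := S.move hd4 (show b ≠ a ∧ b ≠ d ∧ b ≠ c ∧ a ≠ d ∧ a ≠ c ∧ d ≠ c from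
    ⟨hab.symm, hbd, hbc, had, hac, hcd.symm⟩)
  obtain ⟨g₂, q1, q2, q3, q4⟩ := S.move hd4 (show c ≠ d ∧ c ≠ a ∧ c ≠ b ∧ d ≠ a ∧ d ≠ b ∧ a ≠ b from
    ⟨hcd, hac.symm, hbc.symm, had.symm, hbd.symm, hab⟩)
  have h11 : g₁ * g₁ = 1 := S.eq_of_four hd4 (by rw [mul_smul, p1, p2, one_smul]) (by rw [mul_smul, p2, p1, one_smul])
    (by rw [mul_smul, p3, p4, one_smul]) (by rw [mul_smul, p4, p3, one_smul])
  have h22 : g₂ * g₂ = 1 := S.eq_of_four hd4 (by rw [mul_smul, q1, q3, one_smul]) (by rw [mul_smul, q2, q4, one_smul])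
    (by rw [mul_smul, q3, q1, one_smul]) (by rw [mul_smul, q4, q2, one_smul])
  have hcomm : g₁ * g₂ = g₂ * g₁ := S.eq_of_four hd4 (by rw [mul_smul, mul_smul, q1, p1, p3, q2])
    (by rw [mul_smul, mul_smul, q2, p2, p4, q1]) (by rw [mul_smul, mul_smul, q3, p3, p1, q4])
    (by rw [mul_smul, mul_smul, q4, p4, p2, q3])
  have h1ne : g₁ ≠ 1 := fun e => hab (by rw [← p1, e, one_smul])
  have h2ne : g₂ ≠ 1 := fun e => hac (by rw [← q1, e, one_smul])
  have hflip : ∀ g : G, IsFlip {a, b, c, d} g → g = g₁ ∨ g = g₂ ∨ g = g₁ * g₂ := by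
    rintro g ⟨hg, hgQ⟩
    have hgg : ∀ x : Ω, g • g • x = x := fun x => by rw [← mul_smul, hg, one_smul]
    obtain ⟨ha1, ha2⟩ := hgQ a (by simp)
    simp only [Finset.mem_insert, Finset.mem_singleton] at ha1
    rcases ha1.resolve_left ha2 with e | e | e
    · refine Or.inl ?_
      have eb : g • b = a := by rw [← e, hgg]
      obtain ⟨hc1, hc2⟩ := hgQ c (by simp)
      simp only [Finset.mem_insert, Finset.mem_singleton] at hc1
      rcases hc1 with f | f | f | f
      · exact absurd (by rw [← e, ← f, hgg]) hbc.symm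
      · exact absurd (by rw [← eb, ← f, hgg]) hac
      · exact absurd f hc2
      · exact S.eq_of_four hd4 (e.trans p1.symm) (eb.trans p2.symm) (f.trans p3.symm)
          ((show g • d = c by rw [← f, hgg]).trans p4.symm)
    · refine Or.inr (Or.inl ?_)
      have ec : g • c = a := by rw [← e, hgg]
      obtain ⟨hb1, hb2⟩ := hgQ b (by simp)
      simp only [Finset.mem_insert, Finset.mem_singleton] at hb1
      rcases hb1 with f | f | f | f
      · exact absurd (by rw [← e, ← f, hgg]) hbc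
      · exact absurd f hb2
      · exact absurd (by rw [← ec, ← f, hgg]) hab
      · exact S.eq_of_four hd4 (e.trans q1.symm) (f.trans q2.symm) (ec.trans q3.symm)
          ((show g • d = b by rw [← f, hgg]).trans q4.symm)
    · refine Or.inr (Or.inr ?_)
      have ed : g • d = a := by rw [← e, hgg]
      obtain ⟨hb1, hb2⟩ := hgQ b (by simp)
      simp only [Finset.mem_insert, Finset.mem_singleton] at hb1
      rcases hb1 with f | f | f | f
      · exact absurd (by rw [← e, ← f, hgg]) hbd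
      · exact absurd f hb2
      · exact S.eq_of_four hd4 (by rw [mul_smul, q1, p3, e]) (by rw [mul_smul, q2, p4, f])
          (by rw [mul_smul, q3, p1, ← f, hgg]) (by rw [mul_smul, q4, p2, ed])
      · exact absurd (by rw [← ed, ← f, hgg]) hab
  set F := {x : Ω | g₁ • x = x} with hF
  have hF3 : F.ncard = 3 := S.involution_fixed h11 h1ne
  have hinv : ∀ x ∈ F, g₂ • x ∈ F := fun x hx => by
    show g₁ • g₂ • x = g₂ • x
    rw [← mul_smul, hcomm, mul_smul, hx]
  have hmod := ncard_fixed_mod (p := 2) (k := 1) (x := g₂) (by rw [pow_one, pow_two, h22]) hinv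
  have hle := Set.ncard_le_ncard (s := {x ∈ F | g₂ • x = x}) (t := F) (fun x hx => hx.1) (Set.toFinite _)
  have hne3 : {x ∈ F | g₂ • x = x}.ncard ≠ 3 := fun h3 => by
    have he := Set.eq_of_subset_of_ncard_le (s := {x ∈ F | g₂ • x = x}) (t := F) (fun x hx => hx.1) (by omega)
      (Set.toFinite _)
    obtain ⟨u, v, w, huv, huw, hvw, hFe⟩ := Set.ncard_eq_three.1 hF3
    have hm : ∀ x ∈ ({u, v, w} : Set Ω), g₁ • x = x ∧ g₂ • x = x := fun x hx => by
      rw [← hFe] at hx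
      refine ⟨hx, ?_⟩
      rw [← he] at hx
      exact hx.2
    obtain ⟨i, -, hu⟩ := S.triple u v w huv huw hvw
    have e1 := hu g₁ ⟨⟨h11, h1ne⟩, (hm u (by simp)).1, (hm v (by simp)).1, (hm w (by simp)).1⟩
    have e2 := hu g₂ ⟨⟨h22, h2ne⟩, (hm u (by simp)).2, (hm v (by simp)).2, (hm w (by simp)).2⟩
    exact hbc (by rw [← p1, ← q1, e1, e2])
  obtain ⟨e, he⟩ := Set.ncard_eq_one.1 (show {x ∈ F | g₂ • x = x}.ncard = 1 by omega)
  have heF : g₁ • e = e ∧ g₂ • e = e := (Set.ext_iff.1 he e).2 rfl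
  refine ⟨e, ⟨?_, ?_⟩, ?_⟩
  · simp only [Finset.mem_insert, Finset.mem_singleton, not_or]
    exact ⟨fun h => hab (by rw [← p1, ← h, heF.1, h]), fun h => hab (by rw [← p2, ← h, heF.1, h]),
      fun h => hcd (by rw [← p3, ← h, heF.1, h]), fun h => hcd (by rw [← p4, ← h, heF.1, h])⟩
  · intro g hg
    rcases hflip g hg with rfl | rfl | rfl
    · exact heF.1
    · exact heF.2
    · rw [mul_smul, heF.2, heF.1]
  · rintro x ⟨-, hx⟩
    have f1 : IsFlip {a, b, c, d} g₁ := ⟨h11, by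
      intro p hp
      simp only [Finset.mem_insert, Finset.mem_singleton] at hp ⊢
      rcases hp with rfl | rfl | rfl | rfl
      · rw [p1]; exact ⟨Or.inr (Or.inl rfl), hab.symm⟩
      · rw [p2]; exact ⟨Or.inl rfl, hab⟩
      · rw [p3]; exact ⟨Or.inr (Or.inr (Or.inr rfl)), hcd.symm⟩
      · rw [p4]; exact ⟨Or.inr (Or.inr (Or.inl rfl)), hcd⟩⟩
    have f2 : IsFlip {a, b, c, d} g₂ := ⟨h22, by
      intro p hp
      simp only [Finset.mem_insert, Finset.mem_singleton] at hp ⊢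
      rcases hp with rfl | rfl | rfl | rfl
      · rw [q1]; exact ⟨Or.inr (Or.inr (Or.inl rfl)), hac.symm⟩
      · rw [q2]; exact ⟨Or.inr (Or.inr (Or.inr rfl)), hbd.symm⟩
      · rw [q3]; exact ⟨Or.inl rfl, hac⟩
      · rw [q4]; exact ⟨Or.inr (Or.inl rfl), hbd⟩⟩
    exact (Set.ext_iff.1 he x).1 ⟨hx g₁ f1, hx g₂ f2⟩

omit [Finite G] [IsSimpleGroup G] [Fintype Ω] in
theorem IsFlip.conj {Q : Finset Ω} {g : G} (hg : IsFlip Q g) (h : G) : IsFlip (h • Q) (h * g * h⁻¹) := by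
  refine ⟨by rw [show h * g * h⁻¹ * (h * g * h⁻¹) = h * (g * g) * h⁻¹ by group, hg.1]; group, ?_⟩
  intro p hp
  obtain ⟨q, hq, rfl⟩ := Finset.mem_smul_finset.1 hp
  rw [mul_smul, mul_smul, inv_smul_smul]
  exact ⟨Finset.smul_mem_smul_finset (hg.2 q hq).1, fun e => (hg.2 q hq).2 (smul_left_cancel h e)⟩

/-- The fifth point on the block through four points. -/
noncomputable def Sharp.center (S : Sharp G Ω) {Q : Finset Ω} (hQ : Q.card = 4) : Ω :=
  (S.exists_center hQ).choose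

theorem Sharp.center_spec (S : Sharp G Ω) {Q : Finset Ω} (hQ : Q.card = 4) :
    S.center hQ ∉ Q ∧ ∀ g : G, IsFlip Q g → g • S.center hQ = S.center hQ :=
  (S.exists_center hQ).choose_spec.1

theorem Sharp.center_smul (S : Sharp G Ω) {Q Q' : Finset Ω} (hQ : Q.card = 4) (hQ' : Q'.card = 4) {h : G}
    (he : h • Q = Q') : S.center hQ' = h • S.center hQ := by
  subst he
  refine ((S.exists_center hQ').choose_spec.2 _ ⟨?_, ?_⟩).symm
  · rw [Finset.smul_mem_smul_finset_iff]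
    exact (S.center_spec hQ).1
  · intro g hg
    have h' := hg.conj h⁻¹
    rw [inv_smul_smul] at h'
    have := (S.center_spec hQ).2 _ h'
    rwa [mul_smul, mul_smul, inv_inv, inv_smul_eq_iff] at this

theorem Sharp.exchange (S : Sharp G Ω) {Q : Finset Ω} (hQ : Q.card = 4) {d : Ω} (hd : d ∈ Q)
    (hQ' : (insert (S.center hQ) (Q.erase d)).card = 4) : S.center hQ' = d := by
  obtain ⟨a, b, c, hab, hac, hbc, he⟩ := Finset.card_eq_three.1 (show (Q.erase d).card = 3 by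
    rw [Finset.card_erase_of_mem hd, hQ])
  have hmem : ∀ p ∈ ({a, b, c} : Finset Ω), p ≠ d := fun p hp => (Finset.mem_erase.1 (he ▸ hp)).1
  have had := hmem a (by simp)
  have hbd := hmem b (by simp)
  have hcd := hmem c (by simp)
  have hd4 : a ≠ b ∧ a ≠ c ∧ a ≠ d ∧ b ≠ c ∧ b ≠ d ∧ c ≠ d := ⟨hab, hac, had, hbc, hbd, hcd⟩
  obtain ⟨h, e1, e2, e3, e4⟩ := S.move hd4 (show b ≠ c ∧ b ≠ a ∧ b ≠ d ∧ c ≠ a ∧ c ≠ d ∧ a ≠ d from
    ⟨hbc, hab.symm, hbd, hac.symm, hcd, had⟩)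
  have h3 : h ^ 3 ^ 1 = 1 := by
    rw [pow_one, pow_succ, pow_two]
    exact S.eq_of_four hd4 (by rw [mul_smul, mul_smul, e1, e2, e3, one_smul])
      (by rw [mul_smul, mul_smul, e2, e3, e1, one_smul]) (by rw [mul_smul, mul_smul, e3, e1, e2, one_smul])
      (by rw [mul_smul, mul_smul, e4, e4, e4, one_smul])
  have h1 : h ≠ 1 := fun e => hab (by rw [← e1, e, one_smul])
  have habc : h • (Q.erase d) = Q.erase d := by
    rw [he, Finset.smul_finset_insert, Finset.smul_finset_insert, Finset.smul_finset_singleton, e1, e2, e3]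
    ext p
    simp only [Finset.mem_insert, Finset.mem_singleton]
    tauto
  have hQh : h • Q = Q := by
    rw [← Finset.insert_erase hd, Finset.smul_finset_insert, e4, habc]
  have hxfix : h • S.center hQ = S.center hQ := (S.center_smul hQ hQ hQh).symm
  have hQ'h : h • insert (S.center hQ) (Q.erase d) = insert (S.center hQ) (Q.erase d) := by
    rw [Finset.smul_finset_insert, hxfix, habc]
  have hyfix : h • S.center hQ' = S.center hQ' := (S.center_smul hQ' hQ' hQ'h).symm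
  have hyne : S.center hQ' ≠ S.center hQ := fun e =>
    (S.center_spec hQ').1 (e.symm ▸ Finset.mem_insert_self _ _)
  have hxd : S.center hQ ≠ d := fun e => (S.center_spec hQ).1 (e.symm ▸ hd)
  have hmod := ncard_fixed_mod (p := 3) (k := 1) (x := h) h3 (s := (Set.univ : Set Ω)) fun a _ => Set.mem_univ _
  have hle := S.fixed_le h1
  rw [Set.ncard_univ, S.card] at hmod
  simp only [Set.mem_univ, true_and] at hmod
  have hFeq : ({d, S.center hQ} : Set Ω) = {x : Ω | h • x = x} := by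
    refine Set.eq_of_subset_of_ncard_le (by rintro x (rfl | rfl); exacts [e4, hxfix]) ?_ (Set.toFinite _)
    rw [Set.ncard_pair hxd.symm]
    omega
  have hy : S.center hQ' ∈ ({d, S.center hQ} : Set Ω) := hFeq ▸ hyfix
  exact hy.resolve_right hyne

/-- The blocks. -/
def Sharp.blocks (S : Sharp G Ω) : Set (Finset Ω) :=
  {b | ∃ (Q : Finset Ω) (hQ : Q.card = 4), b = insert (S.center hQ) Q}

theorem Sharp.isSteinerSystem (S : Sharp G Ω) : Cfsg.IsSteinerSystem 4 5 S.blocks := by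
  refine ⟨?_, fun s hs => ⟨insert (S.center hs) s, ⟨⟨s, hs, rfl⟩, Finset.subset_insert _ _⟩, ?_⟩⟩
  · rintro b ⟨Q, hQ, rfl⟩
    rw [Finset.card_insert_of_notMem (S.center_spec hQ).1, hQ]
  rintro b ⟨⟨Q, hQ, rfl⟩, hsb⟩
  have hxQ := (S.center_spec hQ).1
  by_cases hx : S.center hQ ∈ s
  · have hsub : s.erase (S.center hQ) ⊆ Q := fun p hp => by
      obtain ⟨h1, h2⟩ := Finset.mem_erase.1 hp
      exact (Finset.mem_insert.1 (hsb h2)).resolve_left h1
    obtain ⟨d, hd⟩ := Finset.card_eq_one.1 (show (Q \ s.erase (S.center hQ)).card = 1 by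
      rw [Finset.card_sdiff_of_subset hsub, Finset.card_erase_of_mem hx, hs, hQ])
    have hdQ : d ∈ Q ∧ d ∉ s.erase (S.center hQ) := Finset.mem_sdiff.1 (hd ▸ Finset.mem_singleton_self d)
    have hse : s = insert (S.center hQ) (Q.erase d) := by
      refine Finset.eq_of_subset_of_card_le (fun p hp => ?_) ?_
      · rcases Finset.mem_insert.1 (hsb hp) with e | e
        · exact Finset.mem_insert.2 (Or.inl e)
        · refine Finset.mem_insert_of_mem (Finset.mem_erase.2 ⟨fun epd => hdQ.2 ?_, e⟩)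
          rw [← epd]
          exact Finset.mem_erase.2 ⟨fun e' => hxQ (e' ▸ e), hp⟩
      · rw [hs, Finset.card_insert_of_notMem (fun h => hxQ (Finset.mem_erase.1 h).2),
          Finset.card_erase_of_mem hdQ.1, hQ]
    subst hse
    rw [S.exchange hQ hdQ.1 hs, Finset.insert_comm, Finset.insert_erase hdQ.1]
  · have hse : s = Q := Finset.eq_of_subset_of_card_le
      (fun p hp => (Finset.mem_insert.1 (hsb hp)).resolve_left fun e => hx (e ▸ hp)) (by rw [hs, hQ])
    subst hse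
    rfl

theorem Sharp.smul_block (S : Sharp G Ω) (g : G) {b : Finset Ω} (hb : b ∈ S.blocks) : g • b ∈ S.blocks := by
  obtain ⟨Q, hQ, rfl⟩ := hb
  have hc : (g • Q).card = 4 := by rw [Finset.card_smul_finset, hQ]
  exact ⟨g • Q, hc, by rw [Finset.smul_finset_insert, ← S.center_smul hQ hc rfl]⟩

/-- The group is the full automorphism group of any `S(4, 5, 11)`. -/
theorem Sharp.equiv_aut (S : Sharp G Ω) (hG : Nat.card G = 7920) {β : Type*} [Fintype β] [DecidableEq β]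
    (hβ : Fintype.card β = 11) {B : Set (Finset β)} (hB : Cfsg.IsSteinerSystem 4 5 B) :
    Nonempty (G ≃* Cfsg.setSystemAut B) := by
  have hΩ : Fintype.card Ω = 11 := Nat.card_eq_fintype_card.symm.trans S.card
  obtain ⟨e, he⟩ := Cfsg.Agent.S0411.result hΩ hβ S.isSteinerSystem hB
  let f : G →* Equiv.Perm β := e.permCongrHom.toMonoidHom.comp (MulAction.toPermHom G Ω)
  have hfe : ∀ (g : G) (y : β), f g y = e (g • e.symm y) := fun g y => rfl
  have hmem : ∀ g, f g ∈ Cfsg.setSystemAut B := fun g => by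
    rw [MulAction.mem_stabilizer_iff]
    refine Set.eq_of_subset_of_ncard_le ?_ (le_of_eq (Set.ncard_image_of_injective _ (MulAction.injective (f g))).symm)
      (Set.toFinite _)
    rintro _ ⟨b, hb, rfl⟩
    rw [← he] at hb ⊢
    obtain ⟨b₀, hb₀, rfl⟩ := hb
    refine ⟨g • b₀, S.smul_block g hb₀, ?_⟩
    ext y
    simp only [Finset.mem_image, Finset.mem_smul_finset, Equiv.Perm.smul_def, hfe]
    constructor
    · rintro ⟨_, ⟨x, hx, rfl⟩, rfl⟩
      exact ⟨e x, ⟨x, hx, rfl⟩, by rw [e.symm_apply_apply]⟩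
    · rintro ⟨_, ⟨x, hx, rfl⟩, rfl⟩
      exact ⟨g • x, ⟨x, hx, rfl⟩, by rw [e.symm_apply_apply]⟩
  have hinj : Function.Injective f := by
    rw [injective_iff_map_eq_one]
    intro g hg
    have hfix : ∀ x : Ω, g • x = x := fun x => by
      have := congrArg (fun σ : Equiv.Perm β => σ (e x)) hg
      simpa [hfe] using this
    by_contra h1
    have := S.fixed_le h1
    simp only [hfix, Set.ofPred_true, Set.ncard_univ, S.card] at this
    omega
  have hbij : Function.Bijective (f.codRestrict _ hmem) :=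
    (Nat.bijective_iff_injective_and_card _).2 ⟨fun a b h => hinj (congrArg Subtype.val h),
      by rw [hG, (Cfsg.Agent.S0426.result hβ hB).1.2]⟩
  exact ⟨MulEquiv.ofBijective _ hbij⟩

end Cfsg.Lib.MathieuEleven
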