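import Cfsg.Agent.Recognition.MathieuEleven.Lines
import Cfsg.Agent.Recognition.MathieuEleven.Steiner
import Cfsg.Agent.Golay.Conj
import Cfsg.Agent.Golay.Subgroups

/-!
A simple group of order 7920 is isomorphic to the Mathieu group of degree eleven.
-/

set_option autoImplicit false

namespace Cfsg.Lib.MathieuEleven

open MulAction Cfsg.Lib.Small
open scoped Pointwise

variable {G : Type*} [Group G] [Finite G] [IsSimpleGroup G]

theorem sharp_line (hG : Nat.card G = 7920) : Sharp G (Line G) :=
  ⟨hnc hG, card_line hG, line_fourTransitive hG,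
    fun _ _ _ _ hab hac hbc had hbd hcd _ ha hb hc hd => eq_one_of_four hG hab hac hbc had hbd hcd ha hb hc hd,
    fun _ _ _ hab hac hbc => exists_unique_involution hG hab hac hbc⟩

theorem nonempty_equiv {H : Type*} [Group H] [Finite H] [IsSimpleGroup H] (hG : Nat.card G = 7920)
    (hH : Nat.card H = 7920) : Nonempty (G ≃* H) := by
  classical
  have := Fintype.ofFinite (Line G)
  have := Fintype.ofFinite (Line H)
  have hc : Fintype.card (Line G) = 11 := Nat.card_eq_fintype_card.symm.trans (card_line hG)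
  have hB := (sharp_line hG).isSteinerSystem
  obtain ⟨e⟩ := (sharp_line hG).equiv_aut hG hc hB
  obtain ⟨e'⟩ := (sharp_line hH).equiv_aut hH hc hB
  exact ⟨e.trans e'.symm⟩

/-- Recognition from the order. -/
theorem equiv_M11 (hG : Nat.card G = 7920) : Nonempty (G ≃* Cfsg.Spor.M11) := by
  have := Cfsg.Lib.Golay.isSimple_M11
  exact nonempty_equiv hG Cfsg.Lib.Golay.card_M11

theorem exists_inverts_of_involution (hG : Nat.card G = 7920) {i : G} (h2 : i * i = 1) (h1 : i ≠ 1) :
    ∃ P, Inverts i P := by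
  classical
  have := Fintype.ofFinite (Line G)
  obtain ⟨a, b, c, hab, hac, hbc, he⟩ := Set.ncard_eq_three.1 ((sharp_line hG).involution_fixed h2 h1)
  have hfix : ∀ L ∈ ({a, b, c} : Set (Line G)), i • L = L := fun L hL => by rw [← he] at hL; exact hL
  obtain ⟨P, Q, S, z, B, ⟨hPa, hPb⟩, ⟨hQa, hQc⟩, -⟩ := triple_base hG hab hac hbc
  refine ⟨P, ?_⟩
  rw [involution_inf_nrm hG B.hvR B.hz B.hv
    ⟨mem_nrm.2 (meet_fixed hG hab hPa hPb (hfix a (by simp)) (hfix b (by simp))),
      mem_nrm.2 (meet_fixed hG hac hQa hQc (hfix a (by simp)) (hfix c (by simp)))⟩ h2 h1]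
  exact B.hz

theorem card_centralizer_involution (hG : Nat.card G = 7920) {i : G} (hi : orderOf i = 2) :
    Nat.card ↥(Subgroup.centralizer ({i} : Set G)) = 48 := by
  obtain ⟨P, hP⟩ := exists_inverts_of_involution hG (i := i)
    (by rw [← pow_two, ← hi, pow_orderOf_eq_one]) (fun e => by rw [e, orderOf_one] at hi; omega)
  exact card_centralizer_inverts hG hP

end Cfsg.Lib.MathieuEleven
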