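import Cfsg.Agent.Small.Toolkit
import Cfsg.Agent.Small.Orders
import Cfsg.Agent.Small.Order504
import Cfsg.Agent.Transfer.ThompsonTransfer

/-!
Elementary lemmas used in the recognition of the simple group of order 7920: invariant sets,
conjugation orbits, and the two transfer arguments.
-/

set_option autoImplicit false

namespace Cfsg.Lib.MathieuEleven

open MulAction Cfsg.Lib.Small
open scoped Pointwise IsMulCommutative

variable {G : Type*} [Group G]

/-! ## Invariant sets -/

/-- An element of order dividing `p ^ k` without fixed points on an invariant finite set. -/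
theorem dvd_ncard_of_moved {α : Type*} [MulAction G α] [Finite α] {p : ℕ} [Fact p.Prime] {x : G} {k : ℕ}
    (hx : x ^ p ^ k = 1) {s : Set α} (hs : ∀ a ∈ s, x • a ∈ s) (hmv : ∀ a ∈ s, x • a ≠ a) :
    p ∣ s.ncard := by
  have hpow : ∀ (n : ℕ), ∀ a ∈ s, x ^ n • a ∈ s := fun n => by
    induction n with
    | zero => simp
    | succ n ih => intro a ha; rw [pow_succ', mul_smul]; exact hs _ (ih a ha)
  have hfin : IsOfFinOrder x := isOfFinOrder_iff_pow_eq_one.2 ⟨p ^ k, pow_pos (Fact.out : p.Prime).pos k, hx⟩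
  let S : SubMulAction ↥(Subgroup.zpowers x) α :=
    { carrier := s
      smul_mem' := fun ⟨g, hg⟩ a ha => by
        obtain ⟨n, rfl⟩ := hfin.mem_powers_iff_mem_zpowers.2 hg
        exact hpow n a ha }
  have hP : IsPGroup p ↥(Subgroup.zpowers x) := by
    rintro ⟨g, hg⟩
    obtain ⟨n, rfl⟩ := Subgroup.mem_zpowers_iff.1 hg
    refine ⟨k, Subtype.ext ?_⟩
    push_cast
    rw [← zpow_natCast, ← zpow_mul, mul_comm, zpow_mul, zpow_natCast, hx, one_zpow]
  have h := hP.card_modEq_card_fixedPoints ↥S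
  have he : fixedPoints ↥(Subgroup.zpowers x) ↥S = ∅ := by
    rw [Set.eq_empty_iff_forall_notMem]
    intro a ha
    exact hmv a.1 a.2 (congrArg Subtype.val (ha ⟨x, Subgroup.mem_zpowers x⟩))
  rw [he, Nat.card_coe_set_eq (∅ : Set ↥S), Set.ncard_empty] at h
  rw [← Nat.card_coe_set_eq]
  exact Nat.modEq_zero_iff_dvd.1 (show Nat.card ↥S ≡ 0 [MOD p] from h)

/-- The number of points of an invariant set fixed by a `p`-element is congruent to the size of the set. -/
theorem ncard_fixed_mod {α : Type*} [MulAction G α] [Finite α] {p : ℕ} [Fact p.Prime] {x : G} {k : ℕ}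
    (hx : x ^ p ^ k = 1) {s : Set α} (hs : ∀ a ∈ s, x • a ∈ s) :
    s.ncard % p = {a ∈ s | x • a = a}.ncard % p := by
  have h1 : p ∣ {a ∈ s | x • a ≠ a}.ncard :=
    dvd_ncard_of_moved hx (fun a ⟨ha, hne⟩ => ⟨hs a ha, fun h => hne (smul_left_cancel x h)⟩) fun a ha => ha.2
  have h2 : {a ∈ s | x • a = a}.ncard + {a ∈ s | x • a ≠ a}.ncard = s.ncard := by
    rw [← Set.ncard_union_eq (Set.disjoint_left.2 fun a ha hb => hb.2 ha.2) (Set.toFinite _) (Set.toFinite _)]
    congr 1
    ext a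
    constructor
    · rintro (h | h) <;> exact h.1
    · intro h
      by_cases hh : x • a = a
      · exact Or.inl ⟨h, hh⟩
      · exact Or.inr ⟨h, hh⟩
  obtain ⟨c, hc⟩ := h1
  rw [← h2, hc, Nat.add_mul_mod_self_left]

/-- Conjugation form of `dvd_ncard_of_moved`. -/
theorem dvd_ncard_conj [Finite G] {p : ℕ} [Fact p.Prime] {x : G} {k : ℕ} (hx : x ^ p ^ k = 1) {s : Set G}
    (hs : ∀ a ∈ s, x * a * x⁻¹ ∈ s) (hmv : ∀ a ∈ s, x * a ≠ a * x) : p ∣ s.ncard := by
  have he : ∀ a : G, ConjAct.toConjAct x • a = x * a * x⁻¹ := fun a => ConjAct.toConjAct_smul x a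
  refine dvd_ncard_of_moved (x := ConjAct.toConjAct x) (k := k) ?_ (fun a ha => ?_) (fun a ha h => ?_)
  · rw [← map_pow, hx, map_one]
  · rw [he]; exact hs a ha
  · rw [he, mul_inv_eq_iff_eq_mul] at h
    exact hmv a ha h

/-- Conjugation form of `ncard_fixed_mod`. -/
theorem ncard_conj_mod [Finite G] {p : ℕ} [Fact p.Prime] {x : G} {k : ℕ} (hx : x ^ p ^ k = 1) {s : Set G}
    (hs : ∀ a ∈ s, x * a * x⁻¹ ∈ s) : s.ncard % p = {a ∈ s | x * a = a * x}.ncard % p := by
  have he : ∀ a : G, ConjAct.toConjAct x • a = x * a * x⁻¹ := fun a => ConjAct.toConjAct_smul x a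
  rw [ncard_fixed_mod (x := ConjAct.toConjAct x) (k := k) (by rw [← map_pow, hx, map_one])
    (fun a ha => (he a).symm ▸ hs a ha)]
  simp only [he, mul_inv_eq_iff_eq_mul]

/-- The size of a conjugation orbit under a subgroup. -/
theorem ncard_conj_orbit [Finite G] (K : Subgroup G) (x : G) :
    (Set.range fun k : K => (k : G) * x * (k : G)⁻¹).ncard *
      Nat.card ↥(K ⊓ Subgroup.centralizer ({x} : Set G)) = Nat.card ↥K := by
  let _ : MulAction ↥K G := MulAction.compHom G ((ConjAct.toConjAct : G ≃* ConjAct G).toMonoidHom.comp K.subtype)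
  have hs : ∀ (k : K) (a : G), k • a = (k : G) * a * (k : G)⁻¹ := fun k a => ConjAct.toConjAct_smul _ a
  have ho : orbit ↥K x = Set.range fun k : K => (k : G) * x * (k : G)⁻¹ := by
    ext a
    simp only [mem_orbit_iff, hs, Set.mem_range]
  have hst : stabilizer ↥K x = (K ⊓ Subgroup.centralizer ({x} : Set G)).subgroupOf K := by
    ext k
    simp only [mem_stabilizer_iff, hs, Subgroup.mem_subgroupOf, Subgroup.mem_inf, SetLike.coe_mem,
      true_and, Subgroup.mem_centralizer_singleton_iff, mul_inv_eq_iff_eq_mul]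
  have h := (stabilizer ↥K x).index_mul_card
  rw [index_stabilizer, ho, hst,
    Nat.card_congr (Subgroup.subgroupOfEquivOfLe (inf_le_left : K ⊓ _ ≤ K)).toEquiv] at h
  exact h

/-- An element normalising a subgroup with fewer than `p + 1` non-trivial elements centralises it. -/
theorem commute_of_small [Finite G] {p : ℕ} [Fact p.Prime] {x : G} (hx : orderOf x = p) {X : Subgroup G}
    (hn : x ∈ Subgroup.normalizer (X : Set G)) (hX : Nat.card ↥X ≤ p) :
    ∀ a ∈ X, x * a = a * x := by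
  intro a ha
  by_contra hne
  have h1 : p ∣ {b ∈ (X : Set G) | x * b ≠ b * x}.ncard := by
    refine dvd_ncard_conj (k := 1) (by rw [pow_one, ← hx, pow_orderOf_eq_one]) ?_ fun b hb => hb.2
    rintro b ⟨hb, hb'⟩
    refine ⟨(Subgroup.mem_normalizer_iff.1 hn b).1 hb, fun h => hb' ?_⟩
    have h' := congrArg (fun t => x⁻¹ * t * x) h
    simpa [mul_assoc] using h'
  have h2 : {b ∈ (X : Set G) | x * b ≠ b * x}.ncard < Nat.card ↥X := by
    refine lt_of_lt_of_eq ?_ (Nat.card_coe_set_eq (X : Set G)).symm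
    exact Set.ncard_lt_ncard
      ⟨fun b hb => hb.1, fun h => (h X.one_mem).2 (by simp)⟩ (Set.toFinite _)
  have h3 : 0 < {b ∈ (X : Set G) | x * b ≠ b * x}.ncard :=
    (Set.ncard_pos (Set.toFinite _)).2 ⟨a, ha, hne⟩
  have := Nat.le_of_dvd h3 h1
  omega

variable [Finite G]

/-- Burnside's normal complement: a Sylow subgroup centralised by its normaliser. -/
theorem exists_complement {p : ℕ} [Fact p.Prime] (P : Sylow p G)
    (h : Subgroup.normalizer ((P : Subgroup G) : Set G) ≤ Subgroup.centralizer ((P : Subgroup G) : Set G)) :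
    ∃ K : Subgroup G, K.Normal ∧ Nat.card ↥K * Nat.card ↥(P : Subgroup G) = Nat.card G ∧
      ∀ g : G, (orderOf g).Coprime p → g ∈ K := by
  refine ⟨(MonoidHom.transferSylow P h).ker, inferInstance,
    (MonoidHom.ker_transferSylow_isComplement' P h).card_mul_card, fun g hg => ?_⟩
  rw [MonoidHom.mem_ker]
  refine orderOf_eq_one_iff.1 (Nat.eq_one_of_dvd_coprimes ?_ (orderOf_map_dvd _ g) (orderOf_dvd_natCard _))
  obtain ⟨n, hn⟩ := P.2.exists_card_eq
  rw [hn]
  exact hg.pow_right n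

/-- Thompson's transfer lemma in a simple group. -/
theorem exists_conj_mem [IsSimpleGroup G] (hnc : ¬ ∀ a b : G, a * b = b * a) (T : Subgroup G) {m : ℕ}
    (hm : Odd m) (hT : T.index = 2 * m) {u : G} (hu : orderOf u = 2) : ∃ g : G, g⁻¹ * u * g ∈ T := by
  by_contra! hno
  obtain ⟨M, hM, hidx, hu'⟩ := Cfsg.Lib.Transfer.exists_index_two_not_mem T hm hT hu hno
  rcases hM.eq_bot_or_eq_top with h | h
  · rw [h, Subgroup.index_bot] at hidx
    exact hnc fun a b => by
      have : Fact (Nat.Prime 2) := ⟨Nat.prime_two⟩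
      exact (isCyclic_of_prime_card hidx).commutative.is_comm.comm a b
  · exact hu' (h ▸ Subgroup.mem_top u)

omit [Finite G] in
/-- An involution in a simple group moves a number of points divisible by four. -/
theorem four_dvd_moved [Finite G] [IsSimpleGroup G] (hnc : ¬ ∀ a b : G, a * b = b * a) {α : Type*} [MulAction G α]
    [Finite α] {u : G} (hu : u * u = 1) : 4 ∣ {a : α | u • a ≠ a}.ncard := by
  classical
  have := Fintype.ofFinite α
  set σ := MulAction.toPermHom G α u with hσ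
  have hset : {a : α | u • a ≠ a}.ncard = σ.support.card := by
    rw [← Set.ncard_coe_finset]
    congr 1
    ext a
    simp [hσ]
  rw [hset]
  by_cases h1 : σ = 1
  · rw [h1, Equiv.Perm.support_one, Finset.card_empty]; exact dvd_zero 4
  have ho : orderOf σ = 2 := by
    refine orderOf_eq_prime ?_ h1
    rw [hσ, ← map_pow, sq, hu, map_one]
  obtain ⟨n, hn⟩ := Equiv.Perm.cycleType_prime_order (σ := σ) (ho ▸ Nat.prime_two)
  have hs := Equiv.Perm.sum_cycleType σ
  rw [hn, ho, Multiset.sum_replicate, smul_eq_mul] at hs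
  have h := sign_toPerm hnc α u
  rw [← hσ, Equiv.Perm.sign_of_cycleType, hn, ho, Multiset.sum_replicate, Multiset.card_replicate,
    smul_eq_mul, neg_one_pow_eq_one_iff_even (by decide)] at h
  rw [← hs]
  obtain ⟨c, hc⟩ := (Nat.even_add.1 h).1 (Even.mul_left even_two _)
  exact ⟨c, by omega⟩

/-- A proper subgroup of a simple group of order divisible by the prime `p` has index at least `p`. -/
theorem le_index [IsSimpleGroup G] (hnc : ¬ ∀ a b : G, a * b = b * a) {p : ℕ} (hp : p.Prime)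
    (hd : p ∣ Nat.card G) {H : Subgroup G} (hH : H ≠ ⊤) : p ≤ H.index :=
  hp.dvd_factorial.1 (hd.trans ((dvd_mul_left _ _).trans (two_mul_card_dvd_index_factorial hnc H hH)))

/-- The normaliser of a non-trivial proper subgroup of a simple group is proper. -/
theorem normalizer_ne_top [IsSimpleGroup G] {X : Subgroup G} (h1 : X ≠ ⊥) (h2 : X ≠ ⊤) :
    Subgroup.normalizer (X : Set G) ≠ ⊤ := fun h => by
  have : X.Normal := Subgroup.normalizer_eq_top_iff.1 h
  rcases this.eq_bot_or_eq_top with e | e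
  · exact h1 e
  · exact h2 e

/-- A subgroup of full `p`-power order inside a subgroup is one of its Sylow subgroups. -/
theorem exists_sylow_in {p : ℕ} [Fact p.Prime] (K : Subgroup G) {A : Subgroup G} (hA : A ≤ K) {n : ℕ}
    (hc : Nat.card ↥A = p ^ n) (hv : ¬ p ^ (n + 1) ∣ Nat.card ↥K) :
    ∃ S : Sylow p ↥K, (S : Subgroup ↥K) = A.subgroupOf K := by
  have h1 : Nat.card ↥(A.subgroupOf K) = p ^ n := by
    rw [Nat.card_congr (Subgroup.subgroupOfEquivOfLe hA).toEquiv, hc]
  have h2 : p ^ n ∣ Nat.card ↥K := hc ▸ Subgroup.card_dvd_of_le hA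
  have hp : p.Prime := Fact.out
  have h3 : (Nat.card ↥K).factorization p = n := by
    have hK : Nat.card ↥K ≠ 0 := Nat.card_ne_zero.2 ⟨inferInstance, inferInstance⟩
    rw [hp.pow_dvd_iff_le_factorization hK] at h2 hv
    omega
  exact ⟨Sylow.ofCard _ (by rw [h1, h3]), Sylow.coe_ofCard _ _⟩

/-- Sylow conjugacy inside a subgroup. -/
theorem exists_conj_in {p : ℕ} [Fact p.Prime] (K : Subgroup G) {A B : Subgroup G} (hA : A ≤ K) (hB : B ≤ K) {n : ℕ}
    (hcA : Nat.card ↥A = p ^ n) (hcB : Nat.card ↥B = p ^ n) (hv : ¬ p ^ (n + 1) ∣ Nat.card ↥K) :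
    ∃ c ∈ K, ∀ a, a ∈ A ↔ c * a * c⁻¹ ∈ B := by
  obtain ⟨S, hS⟩ := exists_sylow_in K hA hcA hv
  obtain ⟨T, hT⟩ := exists_sylow_in K hB hcB hv
  obtain ⟨⟨c, hc⟩, hcT⟩ := exists_smul_eq ↥K S T
  have key : ∀ a : ↥K, (a ∈ A.subgroupOf K ↔ (⟨c, hc⟩ : ↥K) * a * (⟨c, hc⟩ : ↥K)⁻¹ ∈ B.subgroupOf K) := by
    intro a
    rw [← hS, ← hT, ← hcT]
    constructor
    · intro ha
      exact Subgroup.smul_mem_pointwise_smul a (MulAut.conj (⟨c, hc⟩ : ↥K)) _ ha
    · intro ha
      rw [show ((⟨c, hc⟩ : ↥K) • S : Sylow p ↥K) = MulAut.conj (⟨c, hc⟩ : ↥K) • S from rfl] at ha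
      exact Subgroup.smul_mem_pointwise_smul_iff.1 (show MulAut.conj (⟨c, hc⟩ : ↥K) • a ∈ _ from ha)
  refine ⟨c, hc, fun a => ⟨fun ha => ?_, fun ha => ?_⟩⟩
  · exact (key ⟨a, hA ha⟩).1 ha
  · have : a ∈ K := by
      have h := K.mul_mem (K.mul_mem (K.inv_mem hc) (hB ha)) hc
      simpa [mul_assoc] using h
    exact (key ⟨a, this⟩).2 ha

/-- The number of Sylow subgroups of a subgroup containing a Sylow subgroup of the whole group. -/
theorem sylow_count {p : ℕ} [Fact p.Prime] (K : Subgroup G) {A : Subgroup G} (hA : A ≤ K) {n : ℕ}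
    (hc : Nat.card ↥A = p ^ n) (hv : ¬ p ^ (n + 1) ∣ Nat.card ↥K) :
    Nat.card (Sylow p ↥K) * Nat.card ↥(K ⊓ Subgroup.normalizer (A : Set G)) = Nat.card ↥K ∧
      Nat.card (Sylow p ↥K) % p = 1 := by
  obtain ⟨S, hS⟩ := exists_sylow_in K hA hc hv
  refine ⟨?_, ?_⟩
  · have h := card_normalizer_mul S
    rw [hS, ← Subgroup.subgroupOf_normalizer_eq hA,
      ← Subgroup.inf_subgroupOf_left (Subgroup.normalizer (A : Set G)) K,
      Nat.card_congr (Subgroup.subgroupOfEquivOfLe inf_le_left).toEquiv, mul_comm] at h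
    exact h
  · have h1 : Nat.card (Sylow p ↥K) % p = 1 % p := card_sylow_modEq_one p ↥K
    rwa [Nat.mod_eq_of_lt (Fact.out : p.Prime).one_lt] at h1

/-- A finite criterion for normalising a cyclic subgroup. -/
theorem mem_normalizer_zpowers {g y : G} (h : g * y * g⁻¹ ∈ Subgroup.zpowers y) :
    g ∈ Subgroup.normalizer (Subgroup.zpowers y : Set G) := by
  set X := Subgroup.zpowers y
  have hle : X.map (MulAut.conj g).toMonoidHom ≤ X := by
    rw [MonoidHom.map_zpowers, Subgroup.zpowers_le]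
    exact h
  have he : X.map (MulAut.conj g).toMonoidHom = X := Subgroup.eq_of_le_of_card_ge hle
    (Subgroup.card_map_of_injective (MulAut.conj g).injective).ge
  rw [Subgroup.mem_normalizer_iff]
  intro a
  constructor
  · exact fun ha => hle ⟨a, ha, rfl⟩
  · intro ha
    rw [← he] at ha
    obtain ⟨b, hb, hbe⟩ := ha
    have : b = a := (MulAut.conj g).injective hbe
    exact this ▸ hb

/-- Two subgroups of a subgroup give equal relative indices when the smaller subgroup covers. -/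
theorem relIndex_eq_of_cover {M C N : Subgroup G} (hCN : C ≤ N) (hcov : ∀ n ∈ N, ∃ c ∈ C, c⁻¹ * n ∈ M) :
    M.relIndex C = M.relIndex N := by
  refine Nat.card_congr (Equiv.ofBijective (Subgroup.quotientSubgroupOfEmbeddingOfLE M hCN)
    ⟨(Subgroup.quotientSubgroupOfEmbeddingOfLE M hCN).injective, fun x => ?_⟩)
  obtain ⟨⟨n, hn⟩, rfl⟩ := QuotientGroup.mk_surjective x
  obtain ⟨c, hc, hcn⟩ := hcov n hn
  refine ⟨QuotientGroup.mk ⟨c, hc⟩, ?_⟩
  rw [Subgroup.quotientSubgroupOfEmbeddingOfLE_apply_mk, QuotientGroup.eq]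
  exact hcn

omit [Finite G] in
/-- The order of a subgroup times its relative index. -/
theorem card_inf_mul_relIndex (K L : Subgroup G) :
    Nat.card ↥(L ⊓ K) * K.relIndex L = Nat.card ↥L := by
  rw [← Subgroup.inf_relIndex_left, ← Nat.card_congr
    (Subgroup.subgroupOfEquivOfLe (inf_le_left : L ⊓ K ≤ L)).toEquiv]
  exact Subgroup.card_mul_index _

/-- An element of order five commutes with all elements of a group of order nine which it normalises. -/
theorem commute_nine {x : G} (hx : orderOf x = 5) {X : Subgroup G} (hX : Nat.card ↥X = 9)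
    (hn : x ∈ Subgroup.normalizer (X : Set G)) : ∀ a ∈ X, x * a = a * x := by
  have : Fact (Nat.Prime 5) := ⟨by norm_num⟩
  set F := X ⊓ Subgroup.centralizer ({x} : Set G) with hF
  have h1 : (X : Set G).ncard % 5 = {a ∈ (X : Set G) | x * a = a * x}.ncard % 5 :=
    ncard_conj_mod (k := 1) (by rw [pow_one, ← hx, pow_orderOf_eq_one])
      fun a ha => (Subgroup.mem_normalizer_iff.1 hn a).1 ha
  have h2 : {a ∈ (X : Set G) | x * a = a * x} = (F : Set G) := by
    ext a
    simp [hF, Subgroup.mem_centralizer_singleton_iff, eq_comm]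
  rw [h2, ← Nat.card_coe_set_eq, ← Nat.card_coe_set_eq, SetLike.coe_sort_coe, SetLike.coe_sort_coe, hX] at h1
  have h3 : Nat.card ↥F ∣ 9 := hX ▸ Subgroup.card_dvd_of_le inf_le_left
  have h4 : Nat.card ↥F = 9 := by
    have h5 : ∀ d ∈ Nat.divisors 9, 9 % 5 = d % 5 → d = 9 := by decide
    exact h5 _ (Nat.mem_divisors.2 ⟨h3, by norm_num⟩) h1
  intro a ha
  have he : F = X := Subgroup.eq_of_le_of_card_ge inf_le_left (by rw [hX, h4])
  rw [← he] at ha
  exact (Subgroup.mem_centralizer_singleton_iff.1 ha.2).symm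

end Cfsg.Lib.MathieuEleven
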