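import Cfsg.Agent.Recognition.MathieuEleven.Main

/-!
Groups of order 7920 whose elements of order eleven are self-centralising and generate 144 Sylow subgroups.
-/

set_option autoImplicit false

namespace Cfsg.Lib.MathieuEleven

open MulAction Cfsg.Lib.Small
open scoped Pointwise

variable {H : Type*} [Group H] [Finite H]

local instance fact_eleven_rec : Fact (Nat.Prime 11) := ⟨by norm_num⟩

theorem card_sylow_eleven (hH : Nat.card H = 7920) (P : Sylow 11 H) : Nat.card ↥(P : Subgroup H) = 11 := by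
  simpa using card_sylow_of_factor P (a := 1) (m := 720) (by rw [hH]; norm_num) (by norm_num)

theorem exists_sylow_eleven (hH : Nat.card H = 7920) {x : H} (hx : orderOf x = 11) :
    ∃ P : Sylow 11 H, (P : Subgroup H) = Subgroup.zpowers x := by
  obtain ⟨P, hP⟩ := IsPGroup.exists_le_sylow
    (IsPGroup.of_card (p := 11) (n := 1) (by rw [Nat.card_zpowers, hx, pow_one]) : IsPGroup 11 ↥(Subgroup.zpowers x))
  exact ⟨P, (Subgroup.eq_of_le_of_card_ge hP (by rw [card_sylow_eleven hH, Nat.card_zpowers, hx])).symm⟩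

/-- The elements of order eleven are counted by the Sylow subgroups. -/
theorem ncard_order_eleven (hH : Nat.card H = 7920) :
    {x : H | orderOf x = 11}.ncard = 10 * Nat.card (Sylow 11 H) := by
  classical
  have := Fintype.ofFinite H
  have := Fintype.ofFinite (Sylow 11 H)
  let F : H → Sylow 11 H := fun x =>
    if hx : orderOf x = 11 then (exists_sylow_eleven hH hx).choose else Classical.arbitrary _
  have hF : ∀ x, orderOf x = 11 → (F x : Subgroup H) = Subgroup.zpowers x := fun x hx => by
    simp only [F, dif_pos hx]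
    exact (exists_sylow_eleven hH hx).choose_spec
  have hfib : ∀ P : Sylow 11 H, ((Finset.univ.filter fun x : H => orderOf x = 11).filter fun x => F x = P).card = 10 := by
    intro P
    have e : (((Finset.univ.filter fun x : H => orderOf x = 11).filter fun x => F x = P : Finset H) : Set H)
        = ((P : Subgroup H) : Set H) \ {1} := by
      ext x
      simp only [Finset.coe_filter, Finset.mem_filter, Finset.mem_univ, true_and, Set.mem_ofPred_eq, Set.mem_sdiff,
        Set.mem_singleton_iff, SetLike.mem_coe]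
      constructor
      · rintro ⟨hx, rfl⟩
        refine ⟨?_, fun e => by rw [e, orderOf_one] at hx; omega⟩
        rw [hF x hx]
        exact Subgroup.mem_zpowers x
      · rintro ⟨hx, h1⟩
        have hd := Subgroup.orderOf_dvd_natCard _ hx
        rw [card_sylow_eleven hH] at hd
        have ho : orderOf x = 11 :=
          ((Nat.dvd_prime (by norm_num)).1 hd).resolve_left fun e => h1 (orderOf_eq_one_iff.1 e)
        refine ⟨ho, Sylow.ext ?_⟩
        rw [hF x ho]
        exact Subgroup.eq_of_le_of_card_ge (Subgroup.zpowers_le.2 hx) (by rw [card_sylow_eleven hH, Nat.card_zpowers, ho])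
    rw [← Set.ncard_coe_finset, e, Set.ncard_sdiff (Set.singleton_subset_iff.2 (P : Subgroup H).one_mem),
      Set.ncard_singleton, ← Nat.card_coe_set_eq]
    show Nat.card ↥(P : Subgroup H) - 1 = 10
    rw [card_sylow_eleven hH]
  have h := Finset.card_eq_sum_card_fiberwise (f := F) (s := Finset.univ.filter fun x : H => orderOf x = 11)
    (t := Finset.univ) fun x _ => Finset.mem_univ _
  rw [Finset.sum_congr rfl fun P _ => hfib P, Finset.sum_const, Finset.card_univ, smul_eq_mul,
    ← Nat.card_eq_fintype_card] at h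
  rw [mul_comm, ← h, ← Set.ncard_coe_finset]
  congr 1
  ext x
  simp

theorem index_dvd_normalizer {p : ℕ} [Fact p.Prime] {N : Subgroup H} [N.Normal] (P : Sylow p ↥N) :
    N.index ∣ Nat.card ↥(Subgroup.normalizer (((P : Subgroup ↥N).map N.subtype : Subgroup H) : Set H)) := by
  rw [← Subgroup.relIndex_top_right, ← Sylow.normalizer_sup_eq_top P, Subgroup.relIndex_sup_right]
  exact Subgroup.relIndex_dvd_card N _

/-- An element of order eleven with centraliser of order eleven centralises no non-trivial normal subgroup. -/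
theorem no_invariant (hH : Nat.card H = 7920) (hC : ∀ x : H, orderOf x = 11 →
    Nat.card ↥(Subgroup.centralizer ({x} : Set H)) = 11) (K : Subgroup H) [K.Normal]
    (hK : ¬ 11 ∣ Nat.card ↥K) : K = ⊥ := by
  by_contra hbot
  have hK1 : Nat.card ↥K ≠ 1 := fun e => hbot (Subgroup.card_eq_one.1 e)
  set q := (Nat.card ↥K).minFac with hq
  have hqp : q.Prime := Nat.minFac_prime hK1
  have : Fact q.Prime := ⟨hqp⟩
  obtain ⟨R⟩ : Nonempty (Sylow q ↥K) := Sylow.nonempty
  obtain ⟨k, hk⟩ := R.2.exists_card_eq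
  have hk1 : k ≠ 0 := fun e => by
    have h := (R.dvd_card_of_dvd_card (Nat.minFac_dvd (Nat.card ↥K)))
    rw [hk, e, pow_zero, Nat.dvd_one] at h
    exact hqp.one_lt.ne' h
  set A := (R : Subgroup ↥K).map K.subtype with hA
  have hAc : Nat.card ↥A = q ^ k := by rw [hA, Subgroup.card_map_of_injective K.subtype_injective, hk]
  have h11i : 11 ∣ K.index := by
    have h : 11 ∣ Nat.card ↥K * K.index := by rw [Subgroup.card_mul_index, hH]; norm_num
    exact ((Nat.Prime.dvd_mul (by norm_num)).1 h).resolve_left hK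
  obtain ⟨⟨x, hx⟩, hxo⟩ := exists_prime_orderOf_dvd_card' 11 (h11i.trans (index_dvd_normalizer R))
  rw [← Subgroup.orderOf_coe] at hxo
  change orderOf x = 11 at hxo
  have hA11 : ¬ 11 ∣ Nat.card ↥A := fun h =>
    hK (h.trans (by rw [hA, Subgroup.card_map_of_injective K.subtype_injective]; exact (R : Subgroup ↥K).card_subgroup_dvd_card))
  have hdvd : 11 ∣ ((A : Set H) \ {1}).ncard := by
    refine dvd_ncard_conj (x := x) (k := 1) (by rw [pow_one, ← hxo, pow_orderOf_eq_one]) ?_ ?_
    · rintro a ⟨ha, ha1⟩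
      exact ⟨(Subgroup.mem_normalizer_iff.1 hx a).1 ha, fun e => ha1 (by simpa using e)⟩
    · rintro a ⟨ha, ha1⟩ hc
      have hle : Subgroup.zpowers x ≤ Subgroup.centralizer ({x} : Set H) :=
        Subgroup.zpowers_le.2 (Subgroup.mem_centralizer_singleton_iff.2 rfl)
      have he := Subgroup.eq_of_le_of_card_ge hle (by rw [hC x hxo, Nat.card_zpowers, hxo])
      have hax : a ∈ Subgroup.zpowers x := he ▸ Subgroup.mem_centralizer_singleton_iff.2 hc.symm
      have hd : orderOf a ∣ 11 := hxo ▸ Nat.card_zpowers x ▸ Subgroup.orderOf_dvd_natCard _ hax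
      rcases (Nat.dvd_prime (by norm_num)).1 hd with e | e
      · exact ha1 (orderOf_eq_one_iff.1 e)
      · exact hA11 (e ▸ Subgroup.orderOf_dvd_natCard _ ha)
  rw [Set.ncard_sdiff (Set.singleton_subset_iff.2 A.one_mem), Set.ncard_singleton,
    show (A : Set H).ncard = q ^ k from (Nat.card_coe_set_eq _).symm.trans hAc] at hdvd
  have hd720 : q ^ k ∣ 720 := by
    have h : q ^ k ∣ 7920 := hAc ▸ hH ▸ Subgroup.card_subgroup_dvd_card A
    have hc : Nat.Coprime (q ^ k) 11 :=
      ((Nat.Prime.coprime_iff_not_dvd (by norm_num : Nat.Prime 11)).2 (hAc ▸ hA11)).symm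
    exact hc.dvd_of_dvd_mul_right (show q ^ k ∣ 720 * 11 from h)
  have : ∀ j ∈ Nat.divisors 720, 11 ∣ j - 1 → j = 1 ∨ (3 ∣ j ∧ (2 ∣ j ∨ 5 ∣ j)) := by decide +kernel
  rcases this _ (Nat.mem_divisors.2 ⟨hd720, by norm_num⟩) hdvd with h | ⟨h3, h⟩
  · exact hqp.one_lt.ne' (Nat.eq_one_of_dvd_one (h ▸ dvd_pow_self q hk1))
  · have e3 : (3 : ℕ) = q := (Nat.prime_dvd_prime_iff_eq Nat.prime_three hqp).1 (Nat.prime_three.dvd_of_dvd_pow h3)
    rcases h with h | h
    · have e2 : (2 : ℕ) = q := (Nat.prime_dvd_prime_iff_eq Nat.prime_two hqp).1 (Nat.prime_two.dvd_of_dvd_pow h)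
      omega
    · have e5 : (5 : ℕ) = q := (Nat.prime_dvd_prime_iff_eq (by norm_num) hqp).1
        ((by norm_num : Nat.Prime 5).dvd_of_dvd_pow h)
      omega

theorem isSimple_of_eleven (hH : Nat.card H = 7920) (hn : Nat.card (Sylow 11 H) = 144)
    (hC : ∀ x : H, orderOf x = 11 → Nat.card ↥(Subgroup.centralizer ({x} : Set H)) = 11) : IsSimpleGroup H := by
  have : Nontrivial H := Finite.one_lt_card_iff_nontrivial.1 (by omega)
  refine ⟨fun N hN => ?_⟩
  by_cases h11 : 11 ∣ Nat.card ↥N
  swap
  · exact Or.inl (no_invariant hH hC N h11)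
  refine Or.inr ?_
  obtain ⟨P⟩ : Nonempty (Sylow 11 ↥N) := Sylow.nonempty
  have hNd : Nat.card ↥N * N.index = 7920 := by rw [Subgroup.card_mul_index, hH]
  have hidx : N.index ∣ 55 ∧ Nat.card ↥(P : Subgroup ↥N) = 11 := by
    have hP11 : Nat.card ↥(P : Subgroup ↥N) = 11 := by
      obtain ⟨m, hm⟩ := h11
      have hm11 : ¬ 11 ∣ m := fun hd => by
        have : 11 * 11 ∣ 7920 := hNd ▸ Dvd.dvd.mul_right (hm ▸ Nat.mul_dvd_mul_left 11 hd) _
        omega
      simpa using card_sylow_of_factor P (a := 1) (m := m) (by rw [hm, pow_one]) hm11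
    set A := (P : Subgroup ↥N).map N.subtype with hA
    have hAc : Nat.card ↥A = 11 ^ (Nat.card H).factorization 11 := by
      rw [hA, Subgroup.card_map_of_injective N.subtype_injective, hP11, hH,
        show (7920 : ℕ) = 11 ^ 1 * 720 by norm_num, Nat.factorization_mul (by norm_num) (by norm_num),
        Finsupp.add_apply, (by norm_num : Nat.Prime 11).factorization_pow, Finsupp.single_eq_same,
        Nat.factorization_eq_zero_of_not_dvd (by norm_num), add_zero, pow_one]
    have h := index_dvd_normalizer P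
    have hn' := card_normalizer_mul (Sylow.ofCard A hAc)
    rw [hn, hH, Sylow.coe_ofCard] at hn'
    exact ⟨(show Nat.card ↥(Subgroup.normalizer (A : Set H)) = 55 by omega) ▸ h, hP11⟩
  obtain ⟨hidx, hP11⟩ := hidx
  by_cases hi : N.index = 1
  · exact Subgroup.index_eq_one.1 hi
  exfalso
  have hN5 : Nat.card ↥N = 1584 := by
    obtain ⟨m, hm⟩ := h11
    have : ∀ j ∈ Nat.divisors 55, j ≠ 1 → j ≠ 5 → 11 ∣ j := by decide +kernel
    by_cases h5 : N.index = 5
    · rw [h5] at hNd; omega
    obtain ⟨i, hi'⟩ := this _ (Nat.mem_divisors.2 ⟨hidx, by norm_num⟩) hi h5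
    rw [hm, hi', show 11 * m * (11 * i) = 121 * (m * i) by ring] at hNd
    omega
  have hPC : Subgroup.normalizer ((P : Subgroup ↥N) : Set ↥N) ≤ Subgroup.centralizer ((P : Subgroup ↥N) : Set ↥N) := by
    have hM : Nat.card ↥(Subgroup.normalizer ((P : Subgroup ↥N) : Set ↥N)) = 11 := by
      have hA : Nat.card ↥((P : Subgroup ↥N).map N.subtype) = 11 ^ (Nat.card H).factorization 11 := by
        rw [Subgroup.card_map_of_injective N.subtype_injective, hP11, hH,
          show (7920 : ℕ) = 11 ^ 1 * 720 by norm_num, Nat.factorization_mul (by norm_num) (by norm_num),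
          Finsupp.add_apply, (by norm_num : Nat.Prime 11).factorization_pow, Finsupp.single_eq_same,
          Nat.factorization_eq_zero_of_not_dvd (by norm_num), add_zero, pow_one]
      have hn' := card_normalizer_mul (Sylow.ofCard _ hA)
      rw [hn, hH, Sylow.coe_ofCard] at hn'
      have hle : (Subgroup.normalizer ((P : Subgroup ↥N) : Set ↥N)).map N.subtype ≤
          Subgroup.normalizer (((P : Subgroup ↥N).map N.subtype : Subgroup H) : Set H) :=
        Subgroup.le_normalizer_map N.subtype
      have d1 := Subgroup.card_dvd_of_le hle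
      rw [Subgroup.card_map_of_injective N.subtype_injective] at d1
      have d2 := Subgroup.card_subgroup_dvd_card (Subgroup.normalizer ((P : Subgroup ↥N) : Set ↥N))
      have d3 : 11 ∣ Nat.card ↥(Subgroup.normalizer ((P : Subgroup ↥N) : Set ↥N)) :=
        hP11.symm.dvd.trans (Subgroup.card_dvd_of_le Subgroup.le_normalizer)
      rw [show Nat.card ↥(Subgroup.normalizer (((P : Subgroup ↥N).map N.subtype : Subgroup H) : Set H)) = 55 by omega] at d1
      rw [hN5] at d2
      have : ∀ j ∈ Nat.divisors 55, j ∣ 1584 → 11 ∣ j → j = 11 := by decide +kernel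
      exact this _ (Nat.mem_divisors.2 ⟨d1, by norm_num⟩) d2 d3
    rw [← Subgroup.eq_of_le_of_card_ge (Subgroup.le_normalizer (H := (P : Subgroup ↥N))) (by rw [hM, hP11])]
    have : IsCyclic ↥(P : Subgroup ↥N) := isCyclic_of_prime_card hP11
    exact fun a ha => Subgroup.mem_centralizer_iff.2 fun b hb =>
      congrArg Subtype.val ((IsCyclic.commutative (α := ↥(P : Subgroup ↥N))).is_comm.comm ⟨b, hb⟩ ⟨a, ha⟩)
  obtain ⟨K, hKn, hKc, hKmem⟩ := exists_complement P hPC
  rw [hP11, hN5] at hKc
  set K' := K.map N.subtype with hK'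
  have hK'c : Nat.card ↥K' = 144 := by
    rw [hK', Subgroup.card_map_of_injective N.subtype_injective]; omega
  have : K'.Normal := ⟨fun a ha g => by
    obtain ⟨b, hb, rfl⟩ := ha
    have hbN : g * (b : H) * g⁻¹ ∈ N := hN.conj_mem _ b.2 g
    refine ⟨⟨_, hbN⟩, hKmem _ ?_, rfl⟩
    rw [← Subgroup.orderOf_coe]
    show (orderOf (g * (b : H) * g⁻¹)).Coprime 11
    rw [← MulAut.conj_apply, ← MulEquiv.coe_toMonoidHom, orderOf_injective _ (MulAut.conj g).injective,
      Subgroup.orderOf_coe]
    have hd := Subgroup.orderOf_dvd_natCard K hb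
    rw [show Nat.card ↥K = 144 by omega] at hd
    exact Nat.Coprime.coprime_dvd_left hd (by norm_num)⟩
  have := no_invariant hH hC K' (by rw [hK'c]; norm_num)
  rw [this, Subgroup.card_bot] at hK'c
  omega

/-- In the Mathieu group, or any simple group of order 7920, an order other than one and eleven
is attained by a multiple of eleven elements. -/
theorem eleven_dvd_ncard_order {G : Type*} [Group G] [Finite G] [IsSimpleGroup G] (hG : Nat.card G = 7920)
    {n : ℕ} (h1 : n ≠ 1) (h11 : n ≠ 11) : 11 ∣ {g : G | orderOf g = n}.ncard := by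
  obtain ⟨x, hx⟩ := exists_prime_orderOf_dvd_card' (G := G) 11 (dvd_card hG (by norm_num))
  refine dvd_ncard_conj (x := x) (k := 1) (by rw [pow_one, ← hx, pow_orderOf_eq_one]) ?_ ?_
  · intro a ha
    show orderOf (x * a * x⁻¹) = n
    rw [← MulAut.conj_apply, ← MulEquiv.coe_toMonoidHom, orderOf_injective _ (MulAut.conj x).injective]
    exact ha
  · intro a (ha : orderOf a = n) hc
    have hle : Subgroup.zpowers x ≤ Subgroup.centralizer ({x} : Set G) :=
      Subgroup.zpowers_le.2 (Subgroup.mem_centralizer_singleton_iff.2 rfl)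
    have he := Subgroup.eq_of_le_of_card_ge hle (by rw [centralizer_eleven hG hx, Nat.card_zpowers, hx])
    have hax : a ∈ Subgroup.zpowers x := he ▸ Subgroup.mem_centralizer_singleton_iff.2 hc.symm
    have hd : n ∣ 11 := ha ▸ hx ▸ Nat.card_zpowers x ▸ Subgroup.orderOf_dvd_natCard _ hax
    rcases (Nat.dvd_prime (by norm_num)).1 hd with e | e
    · exact h1 e
    · exact h11 e

theorem ncard_order_eleven_simple {G : Type*} [Group G] [Finite G] [IsSimpleGroup G] (hG : Nat.card G = 7920) :
    {g : G | orderOf g = 11}.ncard = 1440 := by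
  obtain ⟨P⟩ : Nonempty (Sylow 11 G) := Sylow.nonempty
  rw [ncard_order_eleven hG, (eleven_sylow hG P).2.1]

theorem sylow_eleven_cases (hH : Nat.card H = 7920) :
    Nat.card (Sylow 11 H) = 1 ∨ Nat.card (Sylow 11 H) = 12 ∨ Nat.card (Sylow 11 H) = 45 ∨
      Nat.card (Sylow 11 H) = 144 := by
  obtain ⟨P⟩ : Nonempty (Sylow 11 H) := Sylow.nonempty
  obtain ⟨hd, hm⟩ := sylow_facts P (a := 1) (m := 720) (by rw [hH]; norm_num) (by norm_num)
  have : ∀ j ∈ Nat.divisors 720, j % 11 = 1 → j = 1 ∨ j = 12 ∨ j = 45 ∨ j = 144 := by decide +kernel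
  exact this _ (Nat.mem_divisors.2 ⟨hd, by norm_num⟩) hm

theorem normalizer_eleven (hH : Nat.card H = 7920) (hn : Nat.card (Sylow 11 H) = 144) {x : H}
    (hx : orderOf x = 11) : Nat.card ↥(Subgroup.centralizer ({x} : Set H)) = 11 ∨
      Nat.card ↥(Subgroup.centralizer ({x} : Set H)) = 55 := by
  obtain ⟨P, hP⟩ := exists_sylow_eleven hH hx
  have hN := card_normalizer_mul P
  rw [hn, hH, hP] at hN
  have hle : Subgroup.centralizer ({x} : Set H) ≤ Subgroup.normalizer (Subgroup.zpowers x : Set H) :=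
    fun c hc => mem_normalizer_zpowers (by
      rw [Subgroup.mem_centralizer_singleton_iff.1 hc, mul_inv_cancel_right]
      exact Subgroup.mem_zpowers x)
  have hd : Nat.card ↥(Subgroup.centralizer ({x} : Set H)) ∣ 55 :=
    (show Nat.card ↥(Subgroup.normalizer (Subgroup.zpowers x : Set H)) = 55 by omega) ▸ Subgroup.card_dvd_of_le hle
  have h11 : 11 ∣ Nat.card ↥(Subgroup.centralizer ({x} : Set H)) :=
    hx ▸ Subgroup.orderOf_dvd_natCard _ (Subgroup.mem_centralizer_singleton_iff.2 rfl)
  have : ∀ j ∈ Nat.divisors 55, 11 ∣ j → j = 11 ∨ j = 55 := by decide +kernel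
  exact this _ (Nat.mem_divisors.2 ⟨hd, by norm_num⟩) h11

theorem equiv_M11_of_centralizers (hH : Nat.card H = 7920)
    (hn : 1440 ≤ {x : H | x ≠ 1 ∧ Nat.card ↥(Subgroup.centralizer ({x} : Set H)) = 11}.ncard) :
    Nonempty (H ≃* Cfsg.Spor.M11) := by
  have hsub : {x : H | x ≠ 1 ∧ Nat.card ↥(Subgroup.centralizer ({x} : Set H)) = 11} ⊆ {x : H | orderOf x = 11} := by
    rintro x ⟨h1, hx⟩
    have h := Subgroup.orderOf_dvd_natCard _ (show x ∈ Subgroup.centralizer ({x} : Set H) from
      Subgroup.mem_centralizer_singleton_iff.2 rfl)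
    rw [hx] at h
    exact ((Nat.dvd_prime (by norm_num)).1 h).resolve_left fun e => h1 (orderOf_eq_one_iff.1 e)
  have hle := hn.trans (Set.ncard_le_ncard hsub (Set.toFinite _))
  rw [ncard_order_eleven hH] at hle
  have h144 : Nat.card (Sylow 11 H) = 144 := by
    rcases sylow_eleven_cases hH with h | h | h | h <;> omega
  have heq := Set.eq_of_subset_of_ncard_le hsub (by rw [ncard_order_eleven hH, h144]; exact hn) (Set.toFinite _)
  have hC : ∀ x : H, orderOf x = 11 → Nat.card ↥(Subgroup.centralizer ({x} : Set H)) = 11 := fun x hx =>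
    ((Set.ext_iff.1 heq x).2 hx).2
  have := isSimple_of_eleven hH h144 hC
  exact equiv_M11 hH

theorem ncard_commuting_ne_one (x : H) :
    {y : H | y ≠ 1 ∧ x * y = y * x}.ncard + 1 = Nat.card ↥(Subgroup.centralizer ({x} : Set H)) := by
  have e : insert (1 : H) {y : H | y ≠ 1 ∧ x * y = y * x} = (Subgroup.centralizer ({x} : Set H) : Set H) := by
    ext y
    simp only [Set.mem_insert_iff, Set.mem_ofPred_eq, SetLike.mem_coe, Subgroup.mem_centralizer_singleton_iff]
    constructor
    · rintro (rfl | ⟨-, h⟩)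
      · rw [mul_one, one_mul]
      · exact h.symm
    · intro h
      by_cases h1 : y = 1
      · exact Or.inl h1
      · exact Or.inr ⟨h1, h.symm⟩
  rw [← SetLike.coe_sort_coe (Subgroup.centralizer ({x} : Set H)), Nat.card_coe_set_eq, ← e,
    Set.ncard_insert_of_notMem (fun h => h.1 rfl)]

theorem equiv_M11_of_nse (hH : Nat.card H = 7920)
    (hnse : ∀ n, 0 < {g : H | orderOf g = n}.ncard → {g : H | orderOf g = n}.ncard = 1 ∨
      {g : H | orderOf g = n}.ncard = 1440 ∨ 11 ∣ {g : H | orderOf g = n}.ncard) :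
    Nonempty (H ≃* Cfsg.Spor.M11) := by
  classical
  obtain ⟨P⟩ : Nonempty (Sylow 11 H) := Sylow.nonempty
  have h144 : Nat.card (Sylow 11 H) = 144 := by
    have hpos : 0 < Nat.card (Sylow 11 H) := Nat.card_pos
    have h := hnse 11 (by rw [ncard_order_eleven hH]; omega)
    rw [ncard_order_eleven hH] at h
    rcases sylow_eleven_cases hH with e | e | e | e <;> rw [e] at h <;>
      rcases h with h | h | ⟨c, hc⟩ <;> omega
  have hC : ∀ x : H, orderOf x = 11 → Nat.card ↥(Subgroup.centralizer ({x} : Set H)) = 11 := by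
    intro x hx
    refine (normalizer_eleven hH h144 hx).resolve_right fun h55 => ?_
    set C := Subgroup.centralizer ({x} : Set H) with hCd
    have : Fact (Nat.Prime 5) := ⟨by norm_num⟩
    obtain ⟨⟨q, hq⟩, hqo⟩ := exists_prime_orderOf_dvd_card' (G := ↥C) 5 (by rw [h55]; norm_num)
    rw [← Subgroup.orderOf_coe] at hqo
    change orderOf q = 5 at hqo
    have hcomm : Commute x q := (Subgroup.mem_centralizer_singleton_iff.1 hq).symm
    have hg : orderOf (x * q) = 55 := by
      rw [hcomm.orderOf_mul_eq_mul_orderOf_of_coprime (by rw [hx, hqo]; norm_num), hx, hqo]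
    have : IsCyclic ↥C := isCyclic_of_orderOf_eq_card
      ⟨x * q, C.mul_mem (Subgroup.mem_centralizer_singleton_iff.2 rfl) hq⟩ (by rw [Subgroup.orderOf_mk, hg, h55])
    have := Fintype.ofFinite ↥C
    have h40 : {a ∈ {g : H | orderOf g = 55} | x * a = a * x}.ncard = 40 := by
      have e : {a ∈ {g : H | orderOf g = 55} | x * a = a * x} =
          Subtype.val '' ((Finset.univ.filter fun a : ↥C => orderOf a = 55 : Finset ↥C) : Set ↥C) := by
        ext a
        simp only [Set.mem_ofPred_eq, Finset.coe_filter, Finset.mem_univ, true_and, Set.mem_image]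
        constructor
        · rintro ⟨h1, h2⟩
          exact ⟨⟨a, Subgroup.mem_centralizer_singleton_iff.2 h2.symm⟩, by rw [Subgroup.orderOf_mk, h1], rfl⟩
        · rintro ⟨⟨b, hb⟩, h1, rfl⟩
          exact ⟨by rwa [Subgroup.orderOf_mk] at h1, (Subgroup.mem_centralizer_singleton_iff.1 hb).symm⟩
      rw [e, Set.ncard_image_of_injective _ Subtype.val_injective, Set.ncard_coe_finset,
        IsCyclic.card_orderOf_eq_totient (by rw [← Nat.card_eq_fintype_card, h55])]
      decide +kernel
    have hmod := ncard_conj_mod (p := 11) (x := x) (k := 1) (by rw [pow_one, ← hx, pow_orderOf_eq_one])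
      (s := {g : H | orderOf g = 55}) fun a (ha : orderOf a = 55) => by
        show orderOf (x * a * x⁻¹) = 55
        rw [← MulAut.conj_apply, ← MulEquiv.coe_toMonoidHom, orderOf_injective _ (MulAut.conj x).injective, ha]
    rw [h40] at hmod
    rcases hnse 55 ((Set.ncard_pos (Set.toFinite _)).2 ⟨x * q, hg⟩) with h | h | ⟨c, h⟩ <;> omega
  have := isSimple_of_eleven hH h144 hC
  exact equiv_M11 hH

end Cfsg.Lib.MathieuEleven
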