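import Cfsg.Agent.Recognition.MathieuEleven.Suborbits
import Mathlib.LinearAlgebra.Matrix.Charpoly.Coeff

/-!
The graph on the fifty-five Sylow three-subgroups: the neighbours of a vertex form two cliques of nine.
-/

set_option autoImplicit false

namespace Cfsg.Lib.MathieuEleven

open MulAction Cfsg.Lib.Small
open scoped Pointwise IsMulCommutative

/-- There is no strongly regular graph on 55 points with valency 18 and intersection numbers 1 and 8. -/
theorem no_srg {V : Type*} [Fintype V] [DecidableEq V] (E : V → V → Prop) [DecidableRel E]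
    (hirr : ∀ P, ¬ E P P) (hsym : ∀ P Q, E P Q → E Q P) (hV : Fintype.card V = 55)
    (hdeg : ∀ P, (Finset.univ.filter (E P)).card = 18)
    (h1 : ∀ P Q, E P Q → (Finset.univ.filter fun S => E P S ∧ E Q S).card = 1)
    (h8 : ∀ P Q, P ≠ Q → ¬ E P Q → (Finset.univ.filter fun S => E P S ∧ E Q S).card = 8) : False := by
  have hdeg' : ∀ Q, (Finset.univ.filter fun S => E S Q).card = 18 := fun Q => by
    rw [← hdeg Q]
    exact congrArg Finset.card (Finset.filter_congr fun S _ => ⟨hsym S Q, hsym Q S⟩)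
  have hcom : ∀ P Q, (Finset.univ.filter fun S => E P S ∧ E S Q).card =
      if P = Q then 18 else if E P Q then 1 else 8 := by
    intro P Q
    have e : (Finset.univ.filter fun S => E P S ∧ E S Q) = Finset.univ.filter fun S => E P S ∧ E Q S :=
      Finset.filter_congr fun S _ => and_congr_right fun _ => ⟨hsym S Q, hsym Q S⟩
    rw [e]
    split_ifs with hPQ hE
    · subst hPQ; simp only [and_self]; exact hdeg P
    · exact h1 P Q hE
    · exact h8 P Q hPQ hE
  let A : Matrix V V (ZMod 89) := Matrix.of fun P Q => if E P Q then 1 else 0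
  let J : Matrix V V (ZMod 89) := Matrix.of fun _ _ => 1
  have hAA : ∀ P Q, (A * A) P Q = if P = Q then 18 else if E P Q then 1 else 8 := by
    intro P Q
    rw [Matrix.mul_apply]
    have e : ∀ S, A P S * A S Q = if E P S ∧ E S Q then 1 else 0 := fun S => by
      simp only [A, Matrix.of_apply, mul_ite, mul_one, mul_zero, ← ite_and, and_comm]
    simp only [e, Finset.sum_boole, hcom]
    split_ifs <;> norm_num
  have hAJ : ∀ P Q, (A * J) P Q = 18 := by
    intro P Q
    simp only [Matrix.mul_apply, A, J, Matrix.of_apply, mul_one, Finset.sum_boole, hdeg]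
    norm_num
  have hJA : ∀ P Q, (J * A) P Q = 18 := by
    intro P Q
    simp only [Matrix.mul_apply, A, J, Matrix.of_apply, one_mul, Finset.sum_boole, hdeg']
    norm_num
  have hJJ : ∀ P Q, (J * J) P Q = 55 := by
    intro P Q
    simp [Matrix.mul_apply, J, hV]
  let M : Matrix V V (ZMod 89) := (2 : ZMod 89) • A + (7 : ZMod 89) • 1 + (51 : ZMod 89) • J
  have hMM : M * M = 0 := by
    ext P Q
    simp only [M, add_mul, mul_add, Matrix.smul_mul, Matrix.mul_smul, one_mul, mul_one, smul_smul,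
      Matrix.add_apply, Matrix.smul_apply, hAA, hAJ, hJA, hJJ, smul_eq_mul, Matrix.zero_apply]
    simp only [A, J, Matrix.of_apply, Matrix.one_apply]
    by_cases hPQ : P = Q
    · subst hPQ
      simp only [hirr, if_true, if_false]
      decide +kernel
    · by_cases hE : E P Q
      · simp only [hPQ, hE, if_true, if_false]
        decide +kernel
      · simp only [hPQ, hE, if_false]
        decide +kernel
  have hp89 : Fact (Nat.Prime 89) := ⟨by norm_num⟩
  have htr := (Matrix.isNilpotent_trace_of_isNilpotent (M := M) ⟨2, by rw [pow_two, hMM]⟩).eq_zero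
  simp only [M, A, J, Matrix.trace, Matrix.diag_apply, Matrix.add_apply, Matrix.smul_apply, Matrix.of_apply,
    Matrix.one_apply_eq, hirr, if_false, Finset.sum_const, Finset.card_univ, hV, smul_eq_mul] at htr
  revert htr
  clear hp89
  decide +kernel

variable {G : Type*} [Group G]

/-- The number of common neighbours. -/
noncomputable def com (P Q : Sylow 3 G) : ℕ := {S | Adj P S ∧ Adj Q S}.ncard

theorem com_smul (g : G) (P Q : Sylow 3 G) : com (g • P) (g • Q) = com P Q := by
  rw [com, com]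
  have e : {S | Adj (g • P) S ∧ Adj (g • Q) S} = (fun S => g • S) '' {S | Adj P S ∧ Adj Q S} := by
    ext S
    constructor
    · rintro ⟨h1, h2⟩
      refine ⟨g⁻¹ • S, ⟨?_, ?_⟩, smul_inv_smul g S⟩
      · rw [← inv_smul_smul g P]; exact h1.smul g⁻¹
      · rw [← inv_smul_smul g Q]; exact h2.smul g⁻¹
    · rintro ⟨T, ⟨h1, h2⟩, rfl⟩
      exact ⟨h1.smul g, h2.smul g⟩
  rw [e, Set.ncard_image_of_injective _ (MulAction.injective g)]

/-- Three Sylow three-subgroups inverted by one involution. -/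
structure Base (R v w : Sylow 3 G) (z : G) : Prop where
  hz : Inverts z R
  hv : Inverts z v
  hw : Inverts z w
  hvR : v ≠ R
  hwR : w ≠ R
  hvw : v ≠ w
  all : ∀ P, Inverts z P → P = R ∨ P = v ∨ P = w

theorem Base.swap {R v w : Sylow 3 G} {z : G} (B : Base R v w z) : Base R w v z :=
  ⟨B.hz, B.hw, B.hv, B.hwR, B.hvR, B.hvw.symm, fun P hP => (B.all P hP).imp_right Or.symm⟩

variable [Finite G] [IsSimpleGroup G]

theorem exists_base (hG : Nat.card G = 7920) (R : Sylow 3 G) : ∃ v w z, Base R v w z := by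
  obtain ⟨z, hz⟩ := exists_inverts hG R
  obtain ⟨y, -, -, h1, h2, h3, -, hZ⟩ := exists_triangle hG hz
  have hm : ∀ P ∈ ({R, y • R, y • y • R} : Set (Sylow 3 G)), Inverts z P := fun P hP => by rw [← hZ] at hP; exact hP
  refine ⟨y • R, y • y • R, z, hz, hm _ (by simp), hm _ (by simp), h1, h2, h3.symm, fun P hP => ?_⟩
  have : P ∈ {Q : Sylow 3 G | Inverts z Q} := hP
  rw [hZ] at this
  exact this

theorem exists_smul_adj (hG : Nat.card G = 7920) {P Q P' Q' : Sylow 3 G} (h : Adj P Q) (h' : Adj P' Q') :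
    ∃ g : G, g • P = P' ∧ g • Q = Q' := by
  obtain ⟨g, rfl⟩ := exists_smul_eq G P P'
  obtain ⟨k, hk, hkQ⟩ := adj_transitive hG (h.smul g) h'
  exact ⟨k * g, by rw [mul_smul, mem_nrm.1 hk], by rw [mul_smul, hkQ]⟩

theorem exists_smul_other (hG : Nat.card G = 7920) {P Q P' Q' : Sylow 3 G} (hne : P ≠ Q) (h : ¬ Adj P Q)
    (hne' : P' ≠ Q') (h' : ¬ Adj P' Q') : ∃ g : G, g • P = P' ∧ g • Q = Q' := by
  obtain ⟨g, rfl⟩ := exists_smul_eq G P P'
  obtain ⟨k, hk, hkQ⟩ := other_transitive hG (fun e => hne (smul_left_cancel g e).symm)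
    (fun e => h (adj_smul_iff.1 e)) hne'.symm h'
  exact ⟨k * g, by rw [mul_smul, mem_nrm.1 hk], by rw [mul_smul, hkQ]⟩

theorem adj_ncard (hG : Nat.card G = 7920) (P : Sylow 3 G) : {Q | Adj P Q}.ncard = 18 := by
  obtain ⟨z, hz⟩ := exists_inverts hG P
  exact (adj_counts hG hz).1

theorem com_self (hG : Nat.card G = 7920) (P : Sylow 3 G) : com P P = 18 := by
  simp only [com, and_self, adj_ncard hG P]

theorem com_formula (hG : Nat.card G = 7920) {R v Q₀ : Sylow 3 G} (hv : Adj R v) (h0 : R ≠ Q₀) (h0' : ¬ Adj R Q₀) :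
    18 * com R v + 36 * com R Q₀ = 18 * 17 := by
  classical
  have := Fintype.ofFinite (Sylow 3 G)
  have hd : ∀ P : Sylow 3 G, (Finset.univ.filter fun Q => Adj P Q).card = 18 := fun P => by
    rw [← adj_ncard hG P, ← Set.ncard_coe_finset]
    congr 1
    ext Q
    simp
  have hc : ∀ P Q : Sylow 3 G, com P Q = ∑ S, if Adj P S ∧ Adj Q S then 1 else 0 := fun P Q => by
    rw [Finset.sum_boole, com, ← Set.ncard_coe_finset, Nat.cast_id]
    congr 1
    ext S
    simp
  have h1 : ∑ Q, com R Q = 324 := by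
    simp only [hc]
    rw [Finset.sum_comm]
    have : ∀ S, (∑ Q : Sylow 3 G, if Adj R S ∧ Adj Q S then (1 : ℕ) else 0) = if Adj R S then 18 else 0 := by
      intro S
      by_cases h : Adj R S
      · simp only [h, true_and, if_true, Finset.sum_boole, Nat.cast_id]
        rw [← hd S]
        exact congrArg Finset.card (Finset.filter_congr fun Q _ => ⟨Adj.symm, Adj.symm⟩)
      · simp [h]
    simp only [this]
    rw [← Finset.sum_filter, Finset.sum_const, hd R, smul_eq_mul]
  have h2 : ∀ Q, com R Q = if Q = R then 18 else if Adj R Q then com R v else com R Q₀ := by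
    intro Q
    split_ifs with e e'
    · rw [e, com_self hG]
    · obtain ⟨g, hg1, hg2⟩ := exists_smul_adj hG hv e'
      rw [← com_smul g R v, hg1, hg2]
    · obtain ⟨g, hg1, hg2⟩ := exists_smul_other hG h0 h0' (Ne.symm e) e'
      rw [← com_smul g R Q₀, hg1, hg2]
  rw [Finset.sum_congr rfl fun Q _ => h2 Q] at h1
  rw [Finset.sum_ite, Finset.sum_ite, Finset.sum_const, Finset.sum_const, Finset.sum_const] at h1
  have c0 : (Finset.univ.filter fun Q : Sylow 3 G => Q = R).card = 1 := by
    rw [Finset.filter_eq' Finset.univ R]; simp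
  have c1 : ((Finset.univ.filter fun Q : Sylow 3 G => ¬ Q = R).filter fun Q => Adj R Q).card = 18 := by
    rw [← hd R, Finset.filter_filter]
    exact congrArg Finset.card (Finset.filter_congr fun Q _ => ⟨fun h => h.2, fun h => ⟨h.1.symm, h⟩⟩)
  have c2 : ((Finset.univ.filter fun Q : Sylow 3 G => ¬ Q = R).filter fun Q => ¬ Adj R Q).card = 36 := by
    have e1 := Finset.card_filter_add_card_filter_not (s := Finset.univ.filter fun Q : Sylow 3 G => ¬ Q = R)
      (fun Q => Adj R Q)
    have e2 := Finset.card_filter_add_card_filter_not (s := (Finset.univ : Finset (Sylow 3 G))) (fun Q => Q = R)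
    rw [c0, Finset.card_univ, ← Nat.card_eq_fintype_card, card_sylow_three hG] at e2
    omega
  rw [c0, c1, c2] at h1
  simp only [smul_eq_mul] at h1
  omega

theorem not_complete (hG : Nat.card G = 7920) {R v : Sylow 3 G} (hv : Adj R v)
    (hall : ∀ Q, Adj R Q → Q ≠ v → Adj v Q) : False := by
  classical
  have key : ∀ P Q S : Sylow 3 G, Adj P Q → Adj P S → Q ≠ S → Adj Q S := by
    intro P Q S h h' hne
    obtain ⟨g, rfl, rfl⟩ := exists_smul_adj hG hv h
    have h2 := h'.smul g⁻¹
    rw [inv_smul_smul] at h2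
    have h3 := (hall _ h2 fun e => hne (by rw [← e, smul_inv_smul])).smul g
    rwa [smul_inv_smul] at h3
  let s : Setoid (Sylow 3 G) :=
    { r := fun P Q => P = Q ∨ Adj P Q
      iseqv := ⟨fun P => Or.inl rfl, fun h => h.imp Eq.symm Adj.symm, fun {a b c} h h' => by
        rcases h with rfl | h
        · exact h'
        rcases h' with rfl | h'
        · exact Or.inr h
        by_cases e : a = c
        · exact Or.inl e
        · exact Or.inr (key b a c h.symm h' e)⟩ }
  have := Fintype.ofFinite (Quotient s)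
  have hc := Nat.card_congr (Equiv.sigmaFiberEquiv (Quotient.mk s)).symm
  rw [Nat.card_sigma, card_sylow_three hG] at hc
  have hfib : ∀ q : Quotient s, Nat.card {P // Quotient.mk s P = q} = 19 := by
    intro q
    obtain ⟨P, rfl⟩ := Quotient.exists_rep q
    have e : {Q | Quotient.mk s Q = Quotient.mk s P} = insert P {Q | Adj P Q} := by
      ext Q
      simp only [Set.mem_ofPred_eq, Set.mem_insert_iff, Quotient.eq]
      show (Q = P ∨ Adj Q P) ↔ Q = P ∨ Adj P Q
      exact ⟨fun h => h.imp_right Adj.symm, fun h => h.imp_right Adj.symm⟩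
    show Nat.card ↥{Q | Quotient.mk s Q = Quotient.mk s P} = 19
    rw [Nat.card_coe_set_eq, e, Set.ncard_insert_of_notMem (fun h => h.1 rfl), adj_ncard hG]
  simp only [hfib, Finset.sum_const, smul_eq_mul] at hc
  omega

theorem Base.adj_v (hG : Nat.card G = 7920) {R v w : Sylow 3 G} {z : G} (B : Base R v w z) : Adj R v :=
  adj_of_inverts hG B.hz B.hv B.hvR

theorem Base.adj_vw (hG : Nat.card G = 7920) {R v w : Sylow 3 G} {z : G} (B : Base R v w z) : Adj v w :=
  adj_of_inverts hG B.hv B.hw B.hvw.symm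

theorem Base.cover (hG : Nat.card G = 7920) {R v w : Sylow 3 G} {z : G} (B : Base R v w z) (P : Sylow 3 G) :
    Adj R P ↔ ∃ t ∈ (R : Subgroup G), P = t • v ∨ P = t • w := by
  constructor
  · intro h
    have h' : P ∈ star R z := adj_eq_star hG B.hz ▸ (show P ∈ {Q | Adj R Q} from h)
    obtain ⟨⟨t, Q⟩, ⟨ht, hQ, hQR⟩, rfl⟩ := h'
    refine ⟨t, ht, ?_⟩
    rcases B.all Q hQ with rfl | rfl | rfl
    · exact absurd rfl hQR
    · exact Or.inl rfl
    · exact Or.inr rfl
  · rintro ⟨t, ht, rfl | rfl⟩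
    · exact adj_nrm_invariant (Subgroup.le_normalizer ht) (B.adj_v hG)
    · exact adj_nrm_invariant (Subgroup.le_normalizer ht) (B.swap.adj_v hG)

theorem Base.inj_v (hG : Nat.card G = 7920) {R v w : Sylow 3 G} {z : G} (B : Base R v w z) {t t' : G}
    (ht : t ∈ (R : Subgroup G)) (ht' : t' ∈ (R : Subgroup G)) (h : t • v = t' • v) : t = t' := by
  have := three_free hG B.hvR ((R : Subgroup G).mul_mem ((R : Subgroup G).inv_mem ht') ht)
    (by rw [mul_smul, h, inv_smul_smul])
  exact (inv_mul_eq_one.1 this).symm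

theorem Base.ne_vw (hG : Nat.card G = 7920) {R v w : Sylow 3 G} {z : G} (B : Base R v w z) {t t' : G}
    (ht : t ∈ (R : Subgroup G)) (ht' : t' ∈ (R : Subgroup G)) : t • v ≠ t' • w := fun h =>
  B.hvw (congrArg Prod.snd
    (@star_injOn G _ _ _ hG R z B.hz (t, v) ⟨ht, B.hv, B.hvR⟩ (t', w) ⟨ht', B.hw, B.hwR⟩ h))

theorem Base.fix_w (hG : Nat.card G = 7920) {R v w : Sylow 3 G} {z : G} (B : Base R v w z) {k : G}
    (hk : k ∈ nrm R ⊓ nrm v) : k • w = w := by
  have hkz := inf_nrm_le_centralizer hG B.hvR B.hz B.hv hk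
  have h := B.hw.conj k
  rw [hkz, mul_inv_cancel_right] at h
  rcases B.all _ h with e | e | e
  · exact absurd (smul_left_cancel k (e.trans (mem_nrm.1 hk.1).symm)) B.hwR
  · exact absurd (smul_left_cancel k (e.trans (mem_nrm.1 hk.2).symm)) B.hvw.symm
  · exact e

theorem Base.smul_translate (hG : Nat.card G = 7920) {R v w : Sylow 3 G} {z : G} (B : Base R v w z) {t t' : G}
    (ht : t ∈ (R : Subgroup G)) (ht1 : t ≠ 1) (ht' : t' ∈ (R : Subgroup G)) (ht1' : t' ≠ 1) :
    (Adj v (t • v) → Adj v (t' • v)) ∧ (Adj v (t • w) → Adj v (t' • w)) := by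
  obtain ⟨s, hs, rfl⟩ := inf_nrm_transitive hG B.hvR B.hz B.hv ht ht1 ht' ht1'
  have e : ∀ P : Sylow 3 G, s • P = P → (s * t * s⁻¹) • P = s • (t • P) := fun P hP => by
    nth_rw 1 [← hP]
    rw [mul_smul, mul_smul, inv_smul_smul]
  constructor
  · intro h
    rw [e v (mem_nrm.1 hs.2)]
    have := h.smul s
    rwa [mem_nrm.1 hs.2] at this
  · intro h
    rw [e w (B.fix_w hG hs)]
    have := h.smul s
    rwa [mem_nrm.1 hs.2] at this

theorem Base.clique (hG : Nat.card G = 7920) {R v w : Sylow 3 G} {z : G} (B : Base R v w z) :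
    (∀ t ∈ (R : Subgroup G), t ≠ 1 → Adj v (t • v)) ∧ (∀ t ∈ (R : Subgroup G), t ≠ 1 → ¬ Adj v (t • w)) := by
  classical
  set Rs := ((R : Subgroup G) : Set G) with hRs
  have hR9 : Rs.ncard = 9 := (Nat.card_coe_set_eq _).symm.trans (card_three hG R)
  obtain ⟨x, hx, hx1⟩ : ∃ x ∈ (R : Subgroup G), x ≠ 1 := by
    obtain ⟨a, ha, b, hb, hab⟩ := (Set.one_lt_ncard (Set.toFinite Rs)).1 (by omega)
    by_cases ha1 : a = 1
    · exact ⟨b, hb, fun e => hab (ha1.trans e.symm)⟩
    · exact ⟨a, ha, ha1⟩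
  obtain ⟨Q₀, h0, h0'⟩ : ∃ Q₀, R ≠ Q₀ ∧ ¬ Adj R Q₀ := by
    obtain ⟨Q, hQ, hQ'⟩ := (Set.ncard_pos (Set.toFinite _)).1
      ((adj_counts hG B.hz).2.1.symm ▸ (by norm_num : 0 < 36))
    exact ⟨Q, Ne.symm hQ, hQ'⟩
  have hform := com_formula hG (B.adj_v hG) h0 h0'
  have hxv : x • v ≠ v := fun e => hx1 (three_free hG B.hvR hx e)
  by_cases hA : Adj v (x • v) <;> by_cases hB : Adj v (x • w)
  · exfalso
    refine not_complete hG (B.adj_v hG) fun Q hQ hne => ?_
    obtain ⟨t, ht, rfl | rfl⟩ := (B.cover hG Q).1 hQ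
    · have ht1 : t ≠ 1 := fun e => hne (by rw [e, one_smul])
      exact (B.smul_translate hG hx hx1 ht ht1).1 hA
    · by_cases ht1 : t = 1
      · rw [ht1, one_smul]; exact B.adj_vw hG
      · exact (B.smul_translate hG hx hx1 ht ht1).2 hB
  · exact ⟨fun t ht ht1 => (B.smul_translate hG hx hx1 ht ht1).1 hA,
      fun t ht ht1 h => hB ((B.smul_translate hG ht ht1 hx hx1).2 h)⟩
  · exfalso
    have hcomRv : com R v = 9 := by
      have e : {S | Adj R S ∧ Adj v S} = (fun t : G => t • w) '' Rs := by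
        ext S
        constructor
        · rintro ⟨h1, h2⟩
          obtain ⟨t, ht, rfl | rfl⟩ := (B.cover hG S).1 h1
          · exfalso
            have ht1 : t ≠ 1 := fun e => h2.1 (by rw [e, one_smul])
            exact hA ((B.smul_translate hG ht ht1 hx hx1).1 h2)
          · exact ⟨t, ht, rfl⟩
        · rintro ⟨t, ht, rfl⟩
          refine ⟨(B.cover hG _).2 ⟨t, ht, Or.inr rfl⟩, ?_⟩
          by_cases ht1 : t = 1
          · show Adj v (t • w)
            rw [ht1, one_smul]; exact B.adj_vw hG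
          · exact (B.smul_translate hG hx hx1 ht ht1).2 hB
      rw [com, e, Set.InjOn.ncard_image (fun a ha b hb h => B.swap.inj_v hG ha hb h), hR9]
    have h10 : 10 ≤ com v (x • v) := by
      have hsub : insert R ((fun t : G => t • w) '' Rs) ⊆ {S | Adj v S ∧ Adj (x • v) S} := by
        rintro S (rfl | ⟨t, ht, rfl⟩)
        · exact ⟨(B.adj_v hG).symm, (adj_nrm_invariant (Subgroup.le_normalizer hx) (B.adj_v hG)).symm⟩
        · have key : ∀ u ∈ (R : Subgroup G), Adj v (u • w) := fun u hu => by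
            by_cases hu1 : u = 1
            · rw [hu1, one_smul]; exact B.adj_vw hG
            · exact (B.smul_translate hG hx hx1 hu hu1).2 hB
          refine ⟨key t ht, ?_⟩
          have h := (key (x⁻¹ * t) ((R : Subgroup G).mul_mem ((R : Subgroup G).inv_mem hx) ht)).smul x
          rwa [mul_smul, smul_inv_smul] at h
      refine le_trans (le_of_eq ?_) (Set.ncard_le_ncard hsub (Set.toFinite _))
      rw [Set.ncard_insert_of_notMem, Set.InjOn.ncard_image (fun a ha b hb h => B.swap.inj_v hG ha hb h), hR9]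
      rintro ⟨t, ht, e⟩
      exact ((B.cover hG R).2 ⟨t, ht, Or.inr e.symm⟩).1 rfl
    obtain ⟨g, hg1, hg2⟩ := exists_smul_other hG h0 h0' hxv.symm hA
    have := com_smul g R Q₀
    rw [hg1, hg2] at this
    omega
  · exfalso
    have hcomRv : com R v = 1 := by
      have e : {S | Adj R S ∧ Adj v S} = {w} := by
        ext S
        constructor
        · rintro ⟨h1, h2⟩
          obtain ⟨t, ht, rfl | rfl⟩ := (B.cover hG S).1 h1
          · exfalso
            have ht1 : t ≠ 1 := fun e => h2.1 (by rw [e, one_smul])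
            exact hA ((B.smul_translate hG ht ht1 hx hx1).1 h2)
          · by_cases ht1 : t = 1
            · rw [ht1, one_smul]; rfl
            · exact absurd ((B.smul_translate hG ht ht1 hx hx1).2 h2) hB
        · rintro (rfl : S = w)
          exact ⟨B.swap.adj_v hG, B.adj_vw hG⟩
      rw [com, e, Set.ncard_singleton]
    have h8 : com R Q₀ = 8 := by omega
    have := Fintype.ofFinite (Sylow 3 G)
    refine no_srg (V := Sylow 3 G) Adj (fun P h => h.1 rfl) (fun P Q => Adj.symm) ?_ (fun P => ?_) ?_ ?_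
    · rw [← Nat.card_eq_fintype_card, card_sylow_three hG]
    · rw [← adj_ncard hG P, ← Set.ncard_coe_finset]
      congr 1
      ext Q
      simp
    · intro P Q h
      obtain ⟨g, rfl, rfl⟩ := exists_smul_adj hG (B.adj_v hG) h
      rw [← hcomRv, ← com_smul g R v, com, ← Set.ncard_coe_finset]
      congr 1
      ext S
      simp
    · intro P Q hne h
      obtain ⟨g, rfl, rfl⟩ := exists_smul_other hG h0 h0' hne h
      rw [← h8, ← com_smul g R Q₀, com, ← Set.ncard_coe_finset]
      congr 1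
      ext S
      simp

end Cfsg.Lib.MathieuEleven
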