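import Cfsg.Agent.Recognition.MathieuEleven.Graph

/-!
The eleven cliques of ten, and the sharply four-fold transitive action on them.
-/

set_option autoImplicit false

namespace Cfsg.Lib.MathieuEleven

open MulAction Cfsg.Lib.Small
open scoped Pointwise IsMulCommutative

variable {G : Type*} [Group G]

/-- A clique of ten Sylow three-subgroups. -/
def IsLine (L : Set (Sylow 3 G)) : Prop := L.ncard = 10 ∧ ∀ P ∈ L, ∀ Q ∈ L, P ≠ Q → Adj P Q

theorem IsLine.smul {L : Set (Sylow 3 G)} (h : IsLine L) (g : G) : IsLine (g • L) := by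
  refine ⟨by rw [Set.ncard_smul_set, h.1], ?_⟩
  rintro _ ⟨P, hP, rfl⟩ _ ⟨Q, hQ, rfl⟩ hne
  exact (h.2 P hP Q hQ fun e => hne (by rw [e])).smul g

/-- The type of cliques of ten. -/
abbrev Line (G : Type*) [Group G] := {L : Set (Sylow 3 G) // IsLine L}

instance lineMulAction : MulAction G (Line G) where
  smul g L := ⟨g • L.1, L.2.smul g⟩
  one_smul L := Subtype.ext (one_smul G L.1)
  mul_smul g h L := Subtype.ext (mul_smul g h L.1)

theorem coe_smul_line (g : G) (L : Line G) : (g • L).1 = g • L.1 := rfl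

theorem smul_mem_line {g : G} {L : Line G} {P : Sylow 3 G} (h : P ∈ L.1) : g • P ∈ (g • L).1 :=
  Set.smul_mem_smul_set h

/-- The clique spanned by `R` and the translates of `v`. -/
def lineOf (R v : Sylow 3 G) : Set (Sylow 3 G) := insert R ((fun t : G => t • v) '' ((R : Subgroup G) : Set G))

variable [Finite G] [IsSimpleGroup G]

theorem base_of_adj (hG : Nat.card G = 7920) {P Q : Sylow 3 G} (h : Adj P Q) : ∃ S z, Base P Q S z := by
  obtain ⟨z, hz, hzQ⟩ := exists_common_inverts hG h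
  obtain ⟨S, ⟨hS, hS'⟩⟩ : ({S : Sylow 3 G | Inverts z S} \ {P, Q}).Nonempty := by
    refine Set.nonempty_of_ncard_ne_zero ?_
    rw [Set.ncard_sdiff (by rintro a (rfl | rfl) <;> assumption), Set.ncard_pair h.1, (adj_counts hG hz).2.2]
    norm_num
  simp only [Set.mem_insert_iff, Set.mem_singleton_iff, not_or] at hS'
  refine ⟨S, z, hz, hzQ, hS, h.1.symm, hS'.1, Ne.symm hS'.2, fun T hT => ?_⟩
  have he : ({P, Q, S} : Set (Sylow 3 G)) = {S | Inverts z S} := by
    refine Set.eq_of_subset_of_ncard_le (by rintro a (rfl | rfl | rfl) <;> assumption) ?_ (Set.toFinite _)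
    rw [(adj_counts hG hz).2.2, Set.ncard_insert_of_notMem (by simp [h.1, Ne.symm hS'.1]),
      Set.ncard_pair (Ne.symm hS'.2)]
  have : T ∈ ({P, Q, S} : Set (Sylow 3 G)) := he ▸ hT
  exact this

theorem Base.adj_translates (hG : Nat.card G = 7920) {R v w : Sylow 3 G} {z : G} (B : Base R v w z) {s t : G}
    (hs : s ∈ (R : Subgroup G)) (ht : t ∈ (R : Subgroup G)) :
    (s ≠ t → Adj (s • v) (t • v)) ∧ (Adj (s • v) (t • w) → s = t) := by
  have hst : s⁻¹ * t ∈ (R : Subgroup G) := (R : Subgroup G).mul_mem ((R : Subgroup G).inv_mem hs) ht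
  constructor
  · intro hne
    have h := ((B.clique hG).1 _ hst fun e => hne (inv_mul_eq_one.1 e)).smul s
    rwa [mul_smul, smul_inv_smul] at h
  · intro h
    by_contra hne
    refine (B.clique hG).2 _ hst (fun e => hne (inv_mul_eq_one.1 e)) ?_
    have h' := h.smul s⁻¹
    rwa [inv_smul_smul, ← mul_smul] at h'

theorem Base.isLine (hG : Nat.card G = 7920) {R v w : Sylow 3 G} {z : G} (B : Base R v w z) :
    IsLine (lineOf R v) := by
  have hR9 : ((R : Subgroup G) : Set G).ncard = 9 := (Nat.card_coe_set_eq _).symm.trans (card_three hG R)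
  refine ⟨?_, ?_⟩
  · rw [lineOf, Set.ncard_insert_of_notMem, Set.InjOn.ncard_image (fun a ha b hb h => B.inj_v hG ha hb h), hR9]
    rintro ⟨t, ht, e⟩
    exact ((B.cover hG R).2 ⟨t, ht, Or.inl e.symm⟩).1 rfl
  · rintro P (rfl | ⟨s, hs, rfl⟩) Q (rfl | ⟨t, ht, rfl⟩) hne
    · exact absurd rfl hne
    · exact (B.cover hG _).2 ⟨t, ht, Or.inl rfl⟩
    · exact ((B.cover hG _).2 ⟨s, hs, Or.inl rfl⟩).symm
    · exact (B.adj_translates hG hs ht).1 fun e => hne (by rw [e])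

omit [IsSimpleGroup G] in
theorem self_mem_lineOf (R v : Sylow 3 G) : R ∈ lineOf R v := Or.inl rfl

omit [IsSimpleGroup G] in
theorem right_mem_lineOf (R v : Sylow 3 G) : v ∈ lineOf R v :=
  Or.inr ⟨1, (R : Subgroup G).one_mem, one_smul G v⟩

theorem Base.line_inter (hG : Nat.card G = 7920) {R v w : Sylow 3 G} {z : G} (B : Base R v w z) {P : Sylow 3 G}
    (h : P ∈ lineOf R v) (h' : P ∈ lineOf R w) : P = R := by
  rcases h with e | ⟨t, ht, rfl⟩
  · exact e
  rcases h' with e | ⟨t', ht', e⟩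
  · exact e
  · exact absurd e.symm (B.ne_vw hG ht ht')

theorem Base.line_ne (hG : Nat.card G = 7920) {R v w : Sylow 3 G} {z : G} (B : Base R v w z) :
    lineOf R v ≠ lineOf R w := fun e =>
  B.hvR (B.line_inter hG (right_mem_lineOf R v) (e ▸ right_mem_lineOf R v))

theorem Base.line_cases (hG : Nat.card G = 7920) {R v w : Sylow 3 G} {z : G} (B : Base R v w z)
    {L : Set (Sylow 3 G)} (hL : IsLine L) (hR : R ∈ L) : L = lineOf R v ∨ L = lineOf R w := by
  by_contra! hne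
  obtain ⟨hne1, hne2⟩ := hne
  have hin : ∀ P ∈ L, P ≠ R → ∃ t ∈ (R : Subgroup G), P = t • v ∨ P = t • w :=
    fun P hP hPR => (B.cover hG P).1 (hL.2 R hR P hP hPR.symm)
  have h1 : ∃ t ∈ (R : Subgroup G), t • v ∈ L := by
    by_contra! hno
    refine hne2 (Set.eq_of_subset_of_ncard_le (fun P hP => ?_) ((B.swap.isLine hG).1.trans hL.1.symm).le (Set.toFinite _))
    by_cases hPR : P = R
    · exact Or.inl hPR
    obtain ⟨t, ht, rfl | rfl⟩ := hin P hP hPR
    · exact absurd hP (hno t ht)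
    · exact Or.inr ⟨t, ht, rfl⟩
  have h2 : ∃ t ∈ (R : Subgroup G), t • w ∈ L := by
    by_contra! hno
    refine hne1 (Set.eq_of_subset_of_ncard_le (fun P hP => ?_) ((B.isLine hG).1.trans hL.1.symm).le (Set.toFinite _))
    by_cases hPR : P = R
    · exact Or.inl hPR
    obtain ⟨t, ht, rfl | rfl⟩ := hin P hP hPR
    · exact Or.inr ⟨t, ht, rfl⟩
    · exact absurd hP (hno t ht)
  obtain ⟨t₁, ht₁, hv₁⟩ := h1
  obtain ⟨t₂, ht₂, hw₂⟩ := h2
  have key : ∀ s ∈ (R : Subgroup G), ∀ u ∈ (R : Subgroup G), s • v ∈ L → u • w ∈ L → s = u :=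
    fun s hs u hu h h' => (B.adj_translates hG hs hu).2 (hL.2 _ h _ h' (B.ne_vw hG hs hu))
  have hsub : L ⊆ {R, t₁ • v, t₂ • w} := by
    intro P hP
    by_cases hPR : P = R
    · exact Or.inl hPR
    obtain ⟨t, ht, rfl | rfl⟩ := hin P hP hPR
    · rw [key t ht t₂ ht₂ hP hw₂, ← key t₁ ht₁ t₂ ht₂ hv₁ hw₂]; simp
    · rw [← key t₁ ht₁ t ht hv₁ hP, key t₁ ht₁ t₂ ht₂ hv₁ hw₂]; simp
  have h3 : ({R, t₁ • v, t₂ • w} : Set (Sylow 3 G)).ncard ≤ 3 :=
    (Set.ncard_insert_le _ _).trans (Nat.succ_le_succ ((Set.ncard_insert_le _ _).trans (by rw [Set.ncard_singleton])))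
  have := (Set.ncard_le_ncard hsub (Set.toFinite _)).trans h3
  rw [hL.1] at this
  omega

theorem two_lines (hG : Nat.card G = 7920) (P : Sylow 3 G) :
    ∃ L L' : Line G, L ≠ L' ∧ {M : Line G | P ∈ M.1} = {L, L'} ∧ ∀ Q, Q ∈ L.1 → Q ∈ L'.1 → Q = P := by
  obtain ⟨v, w, z, B⟩ := exists_base hG P
  refine ⟨⟨_, B.isLine hG⟩, ⟨_, B.swap.isLine hG⟩, fun e => B.line_ne hG (congrArg Subtype.val e), ?_,
    fun Q h h' => B.line_inter hG h h'⟩
  ext M
  constructor
  · intro hM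
    rcases B.line_cases hG M.2 hM with e | e
    · exact Or.inl (Subtype.ext e)
    · exact Or.inr (Subtype.ext e)
  · rintro (rfl | rfl)
    · exact self_mem_lineOf P v
    · exact self_mem_lineOf P w

theorem line_eq_of_two (hG : Nat.card G = 7920) {L L' : Line G} {P Q : Sylow 3 G} (hne : P ≠ Q) (hP : P ∈ L.1)
    (hP' : P ∈ L'.1) (hQ : Q ∈ L.1) (hQ' : Q ∈ L'.1) : L = L' := by
  by_contra h
  obtain ⟨A, A', -, hA, hU⟩ := two_lines hG P
  have h1 : L ∈ ({A, A'} : Set (Line G)) := hA ▸ hP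
  have h2 : L' ∈ ({A, A'} : Set (Line G)) := hA ▸ hP'
  rcases h1 with rfl | rfl <;> rcases h2 with rfl | rfl
  · exact h rfl
  · exact hne (hU Q hQ hQ').symm
  · exact hne (hU Q hQ' hQ).symm
  · exact h rfl

theorem line_third (hG : Nat.card G = 7920) {L L' M : Line G} {P : Sylow 3 G} (hne : L ≠ L') (hP : P ∈ L.1)
    (hP' : P ∈ L'.1) (hM : P ∈ M.1) : M = L ∨ M = L' := by
  obtain ⟨A, A', -, hA, -⟩ := two_lines hG P
  have h1 : L ∈ ({A, A'} : Set (Line G)) := hA ▸ hP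
  have h2 : L' ∈ ({A, A'} : Set (Line G)) := hA ▸ hP'
  have h3 : M ∈ ({A, A'} : Set (Line G)) := hA ▸ hM
  rcases h1 with rfl | rfl <;> rcases h2 with rfl | rfl <;> rcases h3 with rfl | rfl <;>
    first
      | exact Or.inl rfl
      | exact Or.inr rfl
      | exact absurd rfl hne

theorem card_line (hG : Nat.card G = 7920) : Nat.card (Line G) = 11 := by
  classical
  have := Fintype.ofFinite (Sylow 3 G)
  have := Fintype.ofFinite (Line G)
  have h := Finset.sum_card_bipartiteAbove_eq_sum_card_bipartiteBelow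
    (fun (P : Sylow 3 G) (L : Line G) => P ∈ L.1) (s := Finset.univ) (t := Finset.univ)
  have e1 : ∀ P : Sylow 3 G, (Finset.bipartiteAbove (fun (P : Sylow 3 G) (L : Line G) => P ∈ L.1) Finset.univ P).card = 2 := by
    intro P
    obtain ⟨A, A', hne, hA, -⟩ := two_lines hG P
    rw [← Set.ncard_coe_finset, ← Set.ncard_pair hne, ← hA]
    congr 1
    ext L
    simp [Finset.bipartiteAbove]
  have e2 : ∀ L : Line G, (Finset.bipartiteBelow (fun (P : Sylow 3 G) (L : Line G) => P ∈ L.1) Finset.univ L).card = 10 := by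
    intro L
    rw [← Set.ncard_coe_finset, ← L.2.1]
    congr 1
    ext P
    simp [Finset.bipartiteBelow]
  rw [Finset.sum_congr rfl fun P _ => e1 P, Finset.sum_congr rfl fun L _ => e2 L, Finset.sum_const,
    Finset.sum_const, Finset.card_univ, Finset.card_univ, ← Nat.card_eq_fintype_card, ← Nat.card_eq_fintype_card,
    card_sylow_three hG, smul_eq_mul, smul_eq_mul] at h
  omega

theorem exists_meet (hG : Nat.card G = 7920) {L L' : Line G} (hne : L ≠ L') : ∃ P, P ∈ L.1 ∧ P ∈ L'.1 := by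
  have hex : ∀ P ∈ L.1, ∃ M : Line G, M ≠ L ∧ P ∈ M.1 := by
    intro P hP
    obtain ⟨A, A', hAA, hA, -⟩ := two_lines hG P
    have hA1 : P ∈ A.1 := (Set.ext_iff.1 hA A).2 (Or.inl rfl)
    have hA2 : P ∈ A'.1 := (Set.ext_iff.1 hA A').2 (Or.inr rfl)
    by_cases e : A = L
    · exact ⟨A', fun e' => hAA (e.trans e'.symm), hA2⟩
    · exact ⟨A, e, hA1⟩
  have : Nonempty (Line G) := ⟨L⟩
  choose! f hf hfP using hex
  have he : f '' L.1 = {L}ᶜ := by
    refine Set.eq_of_subset_of_ncard_le ?_ ?_ (Set.toFinite _)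
    · rintro _ ⟨P, hP, rfl⟩
      exact hf P hP
    · rw [Set.ncard_compl, Set.ncard_singleton, card_line hG, Set.InjOn.ncard_image, L.2.1]
      intro P hP Q hQ e
      by_contra hPQ
      exact hf P hP (line_eq_of_two hG hPQ (hfP P hP) hP (e ▸ hfP Q hQ) hQ)
  obtain ⟨P, hP, hPe⟩ : L' ∈ f '' L.1 := he ▸ (show L' ∈ ({L}ᶜ : Set (Line G)) from Ne.symm hne)
  exact ⟨P, hP, hPe ▸ hfP P hP⟩

theorem meet_fixed (hG : Nat.card G = 7920) {L L' : Line G} {P : Sylow 3 G} {g : G} (hne : L ≠ L')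
    (hP : P ∈ L.1) (hP' : P ∈ L'.1) (hg : g • L = L) (hg' : g • L' = L') : g • P = P := by
  by_contra h
  have h1 : g • P ∈ L.1 := hg ▸ smul_mem_line hP
  have h2 : g • P ∈ L'.1 := hg' ▸ smul_mem_line hP'
  exact hne (line_eq_of_two hG h h1 h2 hP hP')

/-- Three cliques give three Sylow subgroups inverted by one involution. -/
theorem triple_base (hG : Nat.card G = 7920) {a b c : Line G} (hab : a ≠ b) (hac : a ≠ c) (hbc : b ≠ c) :
    ∃ P Q S z, Base P Q S z ∧ (P ∈ a.1 ∧ P ∈ b.1) ∧ (Q ∈ a.1 ∧ Q ∈ c.1) ∧ (S ∈ b.1 ∧ S ∈ c.1) := by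
  obtain ⟨P, hPa, hPb⟩ := exists_meet hG hab
  obtain ⟨Q, hQa, hQc⟩ := exists_meet hG hac
  obtain ⟨S, hSb, hSc⟩ := exists_meet hG hbc
  have hPQ : P ≠ Q := fun e => by
    rcases line_third hG hab hPa hPb (e ▸ hQc) with rfl | rfl
    · exact hac rfl
    · exact hbc rfl
  have hPS : P ≠ S := fun e => by
    rcases line_third hG hab hPa hPb (e ▸ hSc) with rfl | rfl
    · exact hac rfl
    · exact hbc rfl
  have hQS : Q ≠ S := fun e => by
    rcases line_third hG hac hQa hQc (e ▸ hSb) with rfl | rfl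
    · exact hab rfl
    · exact hbc rfl
  have hadjQ : Adj P Q := a.2.2 P hPa Q hQa hPQ
  have hadjS : Adj P S := b.2.2 P hPb S hSb hPS
  have hQS' : Adj Q S := c.2.2 Q hQc S hSc hQS
  obtain ⟨w, z, B⟩ := base_of_adj hG hadjQ
  obtain ⟨t, ht, rfl | rfl⟩ := (B.cover hG S).1 hadjS
  · exfalso
    refine hab (line_eq_of_two hG (Ne.symm hPS) ?_ hSb hPa hPb)
    rcases B.line_cases hG a.2 hPa with e | e
    · rw [e]; exact Or.inr ⟨t, ht, rfl⟩
    · exfalso
      exact B.hvR (B.line_inter hG (right_mem_lineOf P Q) (e ▸ hQa))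
  · have ht1 : (1 : G) = t := (B.adj_translates hG (P : Subgroup G).one_mem ht).2 (by rwa [one_smul])
    rw [← ht1, one_smul] at hSb hSc
    exact ⟨P, Q, w, z, B, ⟨hPa, hPb⟩, ⟨hQa, hQc⟩, ⟨hSb, hSc⟩⟩

theorem exists_unique_involution (hG : Nat.card G = 7920) {a b c : Line G} (hab : a ≠ b) (hac : a ≠ c)
    (hbc : b ≠ c) : ∃! i : G, (i * i = 1 ∧ i ≠ 1) ∧ i • a = a ∧ i • b = b ∧ i • c = c := by
  obtain ⟨P, Q, S, z, B, ⟨hPa, hPb⟩, ⟨hQa, hQc⟩, hSb, hSc⟩ := triple_base hG hab hac hbc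
  have hfix : ∀ (L : Line G) (X Y : Sylow 3 G), X ≠ Y → X ∈ L.1 → Y ∈ L.1 → z • X = X → z • Y = Y → z • L = L :=
    fun L X Y hXY hX hY eX eY => line_eq_of_two hG hXY (eX ▸ smul_mem_line hX) hX (eY ▸ smul_mem_line hY) hY
  have eP := mem_nrm.1 B.hz.2.2.1
  have eQ := mem_nrm.1 B.hv.2.2.1
  have eS := mem_nrm.1 B.hw.2.2.1
  refine ⟨z, ⟨⟨B.hz.1, B.hz.2.1⟩, hfix a P Q B.hvR.symm hPa hQa eP eQ, hfix b P S B.hwR.symm hPb hSb eP eS,
    hfix c Q S B.hvw hQc hSc eQ eS⟩, ?_⟩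
  rintro i ⟨⟨hi, hi1⟩, ha, hb, hc⟩
  exact involution_inf_nrm hG B.hvR B.hz B.hv
    ⟨mem_nrm.2 (meet_fixed hG hab hPa hPb ha hb), mem_nrm.2 (meet_fixed hG hac hQa hQc ha hc)⟩ hi hi1

theorem eq_one_of_four (hG : Nat.card G = 7920) {a b c d : Line G} (hab : a ≠ b) (hac : a ≠ c) (hbc : b ≠ c)
    (had : a ≠ d) (hbd : b ≠ d) (hcd : c ≠ d) {g : G} (ha : g • a = a) (hb : g • b = b) (hc : g • c = c)
    (hd : g • d = d) : g = 1 := by
  obtain ⟨P, Q, S, z, B, ⟨hPa, hPb⟩, ⟨hQa, hQc⟩, -⟩ := triple_base hG hab hac hbc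
  have hgP := meet_fixed hG hab hPa hPb ha hb
  have hgQ := meet_fixed hG hac hQa hQc ha hc
  obtain ⟨M, hMa, hMd⟩ := exists_meet hG had
  have hgM := meet_fixed hG had hMa hMd ha hd
  have hMP : M ≠ P := fun e => by
    rcases line_third hG hab hPa hPb (e ▸ hMd) with rfl | rfl
    · exact had rfl
    · exact hbd rfl
  have hMQ : M ≠ Q := fun e => by
    rcases line_third hG hac hQa hQc (e ▸ hMd) with rfl | rfl
    · exact had rfl
    · exact hcd rfl
  rcases B.line_cases hG a.2 hPa with e | e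
  swap
  · exact absurd (B.line_inter hG (right_mem_lineOf P Q) (e ▸ hQa)) B.hvR
  rcases (show M ∈ lineOf P Q from e ▸ hMa) with e' | ⟨t, ht, rfl⟩
  · exact absurd e' hMP
  have ht1 : t ≠ 1 := fun h => hMQ (by rw [h]; exact one_smul G Q)
  have hconj : g * t * g⁻¹ ∈ (P : Subgroup G) := (Subgroup.mem_normalizer_iff.1 (mem_nrm.2 hgP) t).1 ht
  have heq : (g * t * g⁻¹) • Q = t • Q := by
    nth_rw 1 [← hgQ]
    rw [mul_smul, mul_smul, inv_smul_smul]
    exact hgM
  exact inf_nrm_free hG B.hvR B.hz B.hv ⟨mem_nrm.2 hgP, mem_nrm.2 hgQ⟩ ht ht1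
    (mul_inv_eq_iff_eq_mul.1 (B.inj_v hG hconj ht heq))

theorem line_fourTransitive (hG : Nat.card G = 7920) : IsMultiplyPretransitive G (Line G) 4 := by
  classical
  have := Fintype.ofFinite (Line G)
  have hst : ∀ x : Fin 4 ↪ Line G, stabilizer G x = ⊥ := by
    intro x
    rw [Subgroup.eq_bot_iff_forall]
    intro g hg
    have h : ∀ i, g • x i = x i := fun i => congrArg (fun y : Fin 4 ↪ Line G => y i) (mem_stabilizer_iff.1 hg)
    exact eq_one_of_four hG (x.injective.ne (show (0 : Fin 4) ≠ 1 by decide))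
      (x.injective.ne (show (0 : Fin 4) ≠ 2 by decide)) (x.injective.ne (show (1 : Fin 4) ≠ 2 by decide))
      (x.injective.ne (show (0 : Fin 4) ≠ 3 by decide)) (x.injective.ne (show (1 : Fin 4) ≠ 3 by decide))
      (x.injective.ne (show (2 : Fin 4) ≠ 3 by decide)) (h 0) (h 1) (h 2) (h 3)
  refine ⟨fun x y => ?_⟩
  have he : orbit G x = Set.univ := by
    refine Set.eq_of_subset_of_ncard_le (Set.subset_univ _) ?_ (Set.toFinite _)
    have hc : Nat.card (Fin 4 ↪ Line G) = 7920 := by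
      rw [Nat.card_eq_fintype_card, Fintype.card_embedding_eq, Fintype.card_fin, ← Nat.card_eq_fintype_card, card_line hG]
      decide
    have h := (stabilizer G x).index_mul_card
    rw [index_stabilizer, hst x, Subgroup.card_bot, mul_one, hG] at h
    rw [Set.ncard_univ, hc, h]
  exact (show y ∈ orbit G x by rw [he]; trivial)

end Cfsg.Lib.MathieuEleven
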