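import Cfsg.Agent.Recognition.MathieuEleven.Basic

/-!
The primes 11 and 5 in a simple group of order 7920.
-/

set_option autoImplicit false

namespace Cfsg.Lib.MathieuEleven

open MulAction Cfsg.Lib.Small
open scoped Pointwise IsMulCommutative

variable {G : Type*} [Group G] [Finite G] [IsSimpleGroup G]

local instance fact_eleven : Fact (Nat.Prime 11) := ⟨by norm_num⟩
local instance fact_five : Fact (Nat.Prime 5) := ⟨by norm_num⟩

omit [IsSimpleGroup G] in
theorem dvd_card (hG : Nat.card G = 7920) {p : ℕ} (hp : p ∣ 7920) : p ∣ Nat.card G := by rw [hG]; exact hp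

theorem hnc (hG : Nat.card G = 7920) : ¬ ∀ a b : G, a * b = b * a :=
  not_comm_of_isSimple (not_prime_of_eq hG 2 3960 (by norm_num) (by norm_num) (by norm_num))

theorem index_ge (hG : Nat.card G = 7920) {H : Subgroup G} (hH : H ≠ ⊤) : Nat.card ↥H ≤ 720 := by
  have h1 := le_index (hnc hG) (p := 11) (by norm_num) (dvd_card hG (by norm_num)) hH
  have h2 := H.index_mul_card
  rw [hG] at h2
  nlinarith

theorem eleven_sylow (hG : Nat.card G = 7920) (P : Sylow 11 G) :
    Nat.card ↥(P : Subgroup G) = 11 ∧ Nat.card (Sylow 11 G) = 144 ∧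
      Nat.card ↥(Subgroup.centralizer ((P : Subgroup G) : Set G)) = 11 := by
  classical
  have hn := hnc hG
  have h11 : (11 : ℕ) ∣ Nat.card G := dvd_card hG (by norm_num)
  have hP : Nat.card ↥(P : Subgroup G) = 11 := by
    simpa using card_sylow_of_factor P (a := 1) (m := 720) (by rw [hG]; norm_num) (by norm_num)
  obtain ⟨hd, hm⟩ := sylow_facts P (a := 1) (m := 720) (by rw [hG]; norm_num) (by norm_num)
  have hne := card_sylow_ne_one (p := 11) hn h11
  have hcases : Nat.card (Sylow 11 G) = 12 ∨ Nat.card (Sylow 11 G) = 45 ∨ Nat.card (Sylow 11 G) = 144 := by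
    have : ∀ j ∈ Nat.divisors 720, j % 11 = 1 → j ≠ 1 → j = 12 ∨ j = 45 ∨ j = 144 := by decide +kernel
    exact this _ (Nat.mem_divisors.2 ⟨hd, by norm_num⟩) hm hne
  have hN := card_normalizer_mul P
  rw [hG] at hN
  set N := Subgroup.normalizer ((P : Subgroup G) : Set G) with hNd
  set C := Subgroup.centralizer ((P : Subgroup G) : Set G) with hCd
  have hle : C ≤ N := Subgroup.centralizer_le_normalizer _
  have hidx : C.relIndex N ∣ 10 := relIndex_centralizer_dvd hP le_rfl
  have hCN : Nat.card ↥C * C.relIndex N = Nat.card ↥N := by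
    have h := card_inf_mul_relIndex C N
    rwa [inf_eq_right.2 hle] at h
  have hPC : 11 ∣ Nat.card ↥C := by
    have : (P : Subgroup G) ≤ C := by
      intro x hx
      have : IsCyclic ↥(P : Subgroup G) := isCyclic_of_prime_card hP
      exact Subgroup.mem_centralizer_iff.2 fun y hy =>
        congrArg Subtype.val ((IsCyclic.commutative (α := ↥(P : Subgroup G))).is_comm.comm ⟨y, hy⟩ ⟨x, hx⟩)
    exact hP ▸ Subgroup.card_dvd_of_le this
  have hr10 : C.relIndex N ∈ ({1, 2, 5, 10} : Finset ℕ) :=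
    (show Nat.divisors 10 = {1, 2, 5, 10} by decide +kernel) ▸ Nat.mem_divisors.2 ⟨hidx, by norm_num⟩
  have h144 : Nat.card (Sylow 11 G) = 144 := by
    rcases hcases with h | h | h
    · exfalso
      rw [h] at hN
      have hN' : Nat.card ↥N = 660 := by omega
      rw [hN'] at hCN
      have h3 : 3 ∣ Nat.card ↥C := by
        simp only [Finset.mem_insert, Finset.mem_singleton] at hr10
        rcases hr10 with e | e | e | e <;> rw [e] at hCN <;> omega
      have : Fact (Nat.Prime 3) := ⟨by norm_num⟩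
      obtain ⟨g, hg⟩ := exists_prime_orderOf_dvd_card' 3 h3
      rw [← Subgroup.orderOf_coe] at hg
      exact not_prime_centralizer hn h11 hP (r := 3) (by norm_num) (by norm_num) (by rw [h]; norm_num) hg g.2
    · exfalso
      rw [h] at hN
      have hN' : Nat.card ↥N = 176 := by omega
      rw [hN'] at hCN
      have h8 : 2 ^ 3 ∣ Nat.card ↥C := by
        simp only [Finset.mem_insert, Finset.mem_singleton] at hr10
        rcases hr10 with e | e | e | e <;> rw [e] at hCN <;> omega
      obtain ⟨T0, hT0⟩ := Sylow.exists_subgroup_card_pow_prime 2 h8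
      set T := T0.map C.subtype with hT
      have hTc : Nat.card ↥T = 8 := by rw [hT, Subgroup.card_map_of_injective C.subtype_injective, hT0]; norm_num
      have hTC : T ≤ C := Subgroup.map_subtype_le T0
      have := Fintype.ofFinite (Sylow 11 G)
      have hfixP : ∀ t ∈ T, t • P = P := fun t ht =>
        Sylow.smul_eq_iff_mem_normalizer.2 (hle (hTC ht))
      let S : SubMulAction ↥T (Sylow 11 G) :=
        { carrier := {Q | Q ≠ P}
          smul_mem' := fun t Q hQ e => hQ (smul_left_cancel (t : G) (e.trans (hfixP t t.2).symm)) }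
      have hinv : ∀ g ∈ C, orderOf g = 2 → ∀ Q : Sylow 11 G, g • Q = Q → Q = P := by
        intro g hg ho Q hQ
        obtain ⟨j, hj, hsupp, hlt, hev⟩ := support_of_prime_centralizer hn h11 hP Nat.prime_two (by norm_num) ho hg
        obtain ⟨j', rfl⟩ := hev rfl
        have hPns := (dvd_support_of_centralizer hP hg).2
        set σ := MulAction.toPermHom G (Sylow 11 G) g with hσ
        have hall : σ.support = Finset.univ.erase P := by
          refine Finset.eq_of_subset_of_card_le (fun R hR => Finset.mem_erase.2 ⟨fun e => hPns (e ▸ hR), Finset.mem_univ _⟩) ?_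
          rw [Finset.card_erase_of_mem (Finset.mem_univ _), Finset.card_univ, ← Nat.card_eq_fintype_card, h, hsupp]
          omega
        by_contra hne
        have hm : Q ∈ σ.support := hall ▸ Finset.mem_erase.2 ⟨hne, Finset.mem_univ _⟩
        exact Equiv.Perm.mem_support.1 hm hQ
      have hfree : ∀ b : ↥S, stabilizer ↥T b = ⊥ := by
        rintro ⟨Q, hQ⟩
        rw [Subgroup.eq_bot_iff_forall]
        intro t ht
        by_contra ht1
        obtain ⟨⟨u, hu⟩, huo⟩ : ∃ u : ↥(Subgroup.zpowers t), orderOf u = 2 := by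
          refine exists_prime_orderOf_dvd_card' 2 ?_
          rw [Nat.card_zpowers]
          have hd : orderOf t ∣ 2 ^ 3 := by
            rw [show (2 : ℕ) ^ 3 = Nat.card ↥T by rw [hTc]; norm_num]
            exact orderOf_dvd_natCard t
          obtain ⟨i, -, hi⟩ := (Nat.dvd_prime_pow Nat.prime_two).1 hd
          rw [hi]
          rcases i with _ | i
          · exact absurd (orderOf_eq_one_iff.1 (by simpa using hi)) ht1
          · exact dvd_pow_self 2 (Nat.succ_ne_zero i)
        rw [← Subgroup.orderOf_coe] at huo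
        refine hQ (hinv (u : G) (hTC u.2) (by rwa [Subgroup.orderOf_coe]) Q ?_)
        have : u ∈ stabilizer ↥T (⟨Q, hQ⟩ : ↥S) := Subgroup.zpowers_le.2 ht hu
        exact congrArg Subtype.val this
      have hcard := Nat.card_congr (selfEquivOrbitsQuotientProd hfree)
      rw [Nat.card_prod, hTc] at hcard
      have hS : Nat.card ↥S = 44 := by
        show Nat.card {Q : Sylow 11 G // Q ≠ P} = 44
        rw [Nat.card_eq_fintype_card, Fintype.card_subtype_compl, Fintype.card_subtype_eq, ← Nat.card_eq_fintype_card, h]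
      omega
    · exact h
  refine ⟨hP, h144, ?_⟩
  rw [h144] at hN
  have hN' : Nat.card ↥N = 55 := by omega
  have hne' : C.relIndex N ≠ 1 := fun e => not_normalizer_le_centralizer hn h11 P (Subgroup.relIndex_eq_one.1 e)
  rw [hN'] at hCN
  simp only [Finset.mem_insert, Finset.mem_singleton] at hr10
  rcases hr10 with e | e | e | e <;> rw [e] at hCN <;> omega

theorem centralizer_eleven (hG : Nat.card G = 7920) {x : G} (hx : orderOf x = 11) :
    Nat.card ↥(Subgroup.centralizer ({x} : Set G)) = 11 := by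
  have hc : Nat.card ↥(Subgroup.zpowers x) = 11 ^ (Nat.card G).factorization 11 := by
    rw [Nat.card_zpowers, hx, hG, show (7920 : ℕ) = 11 ^ 1 * 720 by norm_num,
      Nat.factorization_mul (by norm_num) (by norm_num), Finsupp.add_apply,
      (by norm_num : Nat.Prime 11).factorization_pow, Finsupp.single_eq_same,
      Nat.factorization_eq_zero_of_not_dvd (by norm_num), add_zero, pow_one]
  have hC := (eleven_sylow hG (Sylow.ofCard (Subgroup.zpowers x) hc)).2.2
  rw [Sylow.coe_ofCard, Subgroup.zpowers_eq_closure, Subgroup.centralizer_closure] at hC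
  exact hC

theorem not_eleven_dvd_centralizer (hG : Nat.card G = 7920) {g : G} (h1 : g ≠ 1) (h2 : orderOf g ≠ 11) :
    ¬ 11 ∣ Nat.card ↥(Subgroup.centralizer ({g} : Set G)) := by
  intro hd
  obtain ⟨⟨x, hx⟩, hxo⟩ := exists_prime_orderOf_dvd_card' 11 hd
  rw [← Subgroup.orderOf_coe] at hxo
  have hle : Subgroup.zpowers x ≤ Subgroup.centralizer ({x} : Set G) :=
    Subgroup.zpowers_le.2 (Subgroup.mem_centralizer_singleton_iff.2 rfl)
  have he := Subgroup.eq_of_le_of_card_ge hle (by rw [centralizer_eleven hG hxo, Nat.card_zpowers, hxo])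
  have hg : g ∈ Subgroup.zpowers x :=
    he ▸ Subgroup.mem_centralizer_singleton_iff.2 (Subgroup.mem_centralizer_singleton_iff.1 hx).symm
  have h3 : orderOf g ∣ 11 := hxo ▸ Nat.card_zpowers x ▸ Subgroup.orderOf_dvd_natCard _ hg
  rcases (Nat.dvd_prime (by norm_num)).1 h3 with e | e
  · exact h1 (orderOf_eq_one_iff.1 e)
  · exact h2 e

theorem not_eleven_dvd_normalizer (hG : Nat.card G = 7920) {X : Subgroup G} (h1 : 1 < Nat.card ↥X)
    (h2 : Nat.card ↥X < 11) : ¬ 11 ∣ Nat.card ↥(Subgroup.normalizer (X : Set G)) := by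
  intro hd
  obtain ⟨⟨x, hx⟩, hxo⟩ := exists_prime_orderOf_dvd_card' 11 hd
  rw [← Subgroup.orderOf_coe] at hxo
  have : Nontrivial ↥X := Finite.one_lt_card_iff_nontrivial.1 h1
  obtain ⟨⟨a, ha⟩, ha1⟩ := exists_ne (1 : ↥X)
  refine not_eleven_dvd_centralizer hG (g := a) (fun e => ha1 (Subtype.ext e)) ?_ ?_
  · intro e
    have := Nat.le_of_dvd (by omega) (Subgroup.orderOf_dvd_natCard X ha)
    omega
  · rw [← hxo]
    exact Subgroup.orderOf_dvd_natCard _
      (Subgroup.mem_centralizer_singleton_iff.2 (commute_of_small hxo hx h2.le a ha))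

theorem card_five (hG : Nat.card G = 7920) (Q : Sylow 5 G) : Nat.card ↥(Q : Subgroup G) = 5 := by
  simpa using card_sylow_of_factor Q (a := 1) (m := 1584) (by rw [hG]; norm_num) (by norm_num)

theorem exists_sylow_five (hG : Nat.card G = 7920) {q : G} (hq : orderOf q = 5) :
    ∃ Q : Sylow 5 G, (Q : Subgroup G) = Subgroup.zpowers q := by
  have hc : Nat.card ↥(Subgroup.zpowers q) = 5 ^ (Nat.card G).factorization 5 := by
    rw [Nat.card_zpowers, hq, hG, show (7920 : ℕ) = 5 ^ 1 * 1584 by norm_num,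
      Nat.factorization_mul (by norm_num) (by norm_num), Finsupp.add_apply,
      (by norm_num : Nat.Prime 5).factorization_pow, Finsupp.single_eq_same,
      Nat.factorization_eq_zero_of_not_dvd (by norm_num), add_zero, pow_one]
  exact ⟨Sylow.ofCard _ hc, Sylow.coe_ofCard _ _⟩

theorem five_normalizer_cases (hG : Nat.card G = 7920) (Q : Sylow 5 G) :
    Nat.card ↥(Subgroup.normalizer ((Q : Subgroup G) : Set G)) = 120 ∨
      Nat.card ↥(Subgroup.normalizer ((Q : Subgroup G) : Set G)) = 20 := by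
  have hn := hnc hG
  have h5 : (5 : ℕ) ∣ Nat.card G := dvd_card hG (by norm_num)
  have hQ := card_five hG Q
  obtain ⟨hd, hm⟩ := sylow_facts Q (a := 1) (m := 1584) (by rw [hG]; norm_num) (by norm_num)
  have hN := card_normalizer_mul Q
  rw [hG] at hN
  set N := Subgroup.normalizer ((Q : Subgroup G) : Set G) with hNd
  set C := Subgroup.centralizer ((Q : Subgroup G) : Set G) with hCd
  have h11N : ¬ 11 ∣ Nat.card ↥N :=
    not_eleven_dvd_normalizer hG (X := (Q : Subgroup G)) (by rw [hQ]; norm_num) (by rw [hQ]; norm_num)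
  have h11 : 11 ∣ Nat.card (Sylow 5 G) :=
    ((Nat.Prime.dvd_mul (by norm_num)).1 (hN ▸ (by norm_num : (11 : ℕ) ∣ 7920))).resolve_left h11N
  have hle : C ≤ N := Subgroup.centralizer_le_normalizer _
  have hCN : Nat.card ↥C * C.relIndex N = Nat.card ↥N := by
    have h := card_inf_mul_relIndex C N
    rwa [inf_eq_right.2 hle] at h
  have hidx : C.relIndex N ∣ 4 := relIndex_centralizer_dvd hQ le_rfl
  have hne' : C.relIndex N ≠ 1 := fun e => not_normalizer_le_centralizer hn h5 Q (Subgroup.relIndex_eq_one.1 e)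
  have hr4 : C.relIndex N = 2 ∨ C.relIndex N = 4 := by
    have : ∀ j ∈ Nat.divisors 4, j ≠ 1 → j = 2 ∨ j = 4 := by decide +kernel
    exact this _ (Nat.mem_divisors.2 ⟨hidx, by norm_num⟩) hne'
  have hcases : Nat.card (Sylow 5 G) = 11 ∨ Nat.card (Sylow 5 G) = 66 ∨ Nat.card (Sylow 5 G) = 176 ∨
      Nat.card (Sylow 5 G) = 396 := by
    have : ∀ j ∈ Nat.divisors 1584, j % 5 = 1 → 11 ∣ j → j = 11 ∨ j = 66 ∨ j = 176 ∨ j = 396 := by
      decide +kernel
    exact this _ (Nat.mem_divisors.2 ⟨hd, by norm_num⟩) hm h11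
  rcases hcases with h | h | h | h
  · exfalso
    rw [h] at hN
    have hN' : Nat.card ↥N = 720 := by omega
    rw [hN'] at hCN
    have h3 : 3 ∣ Nat.card ↥C := by rcases hr4 with e | e <;> rw [e] at hCN <;> omega
    obtain ⟨g, hg⟩ := exists_prime_orderOf_dvd_card' 3 h3
    rw [← Subgroup.orderOf_coe] at hg
    exact not_prime_centralizer hn h5 hQ (r := 3) (by norm_num) (by norm_num) (by rw [h]; norm_num) hg g.2
  · left; rw [h] at hN; omega
  · exfalso
    rw [h] at hN
    rcases hr4 with e | e <;> rw [e] at hCN <;> omega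
  · right; rw [h] at hN; omega

theorem not_nine_dvd_centralizer_five (hG : Nat.card G = 7920) {q : G} (hq : orderOf q = 5) :
    ¬ 9 ∣ Nat.card ↥(Subgroup.centralizer ({q} : Set G)) := by
  intro h9
  obtain ⟨Q, hQ⟩ := exists_sylow_five hG hq
  have hle : Subgroup.centralizer ({q} : Set G) ≤ Subgroup.normalizer ((Q : Subgroup G) : Set G) := by
    rw [hQ, ← Subgroup.centralizer_closure, ← Subgroup.zpowers_eq_closure]
    exact Subgroup.centralizer_le_normalizer _
  have h := h9.trans (Subgroup.card_dvd_of_le hle)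
  rcases five_normalizer_cases hG Q with e | e <;> rw [e] at h <;> omega

theorem card_three (hG : Nat.card G = 7920) (R : Sylow 3 G) : Nat.card ↥(R : Subgroup G) = 9 := by
  simpa using card_sylow_of_factor R (a := 2) (m := 880) (by rw [hG]; norm_num) (by norm_num)

theorem isMulCommutative_three (hG : Nat.card G = 7920) (R : Sylow 3 G) :
    IsMulCommutative ↥(R : Subgroup G) :=
  IsPGroup.isMulCommutative_of_card_eq_prime_sq (p := 3) (by rw [card_three hG R]; norm_num)

theorem three_le_centralizer (hG : Nat.card G = 7920) (R : Sylow 3 G) {x : G} (hx : x ∈ (R : Subgroup G)) :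
    (R : Subgroup G) ≤ Subgroup.centralizer ({x} : Set G) := fun a ha =>
  Subgroup.mem_centralizer_singleton_iff.2
    (congrArg Subtype.val ((isMulCommutative_three hG R).is_comm.comm ⟨a, ha⟩ ⟨x, hx⟩))

theorem three_normalizer_cases (hG : Nat.card G = 7920) (R : Sylow 3 G) :
    Nat.card ↥(Subgroup.normalizer ((R : Subgroup G) : Set G)) = 144 ∨
      Nat.card ↥(Subgroup.normalizer ((R : Subgroup G) : Set G)) = 36 := by
  have hR := card_three hG R
  obtain ⟨hd, hm⟩ := sylow_facts R (a := 2) (m := 880) (by rw [hG]; norm_num) (by norm_num)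
  have hN := card_normalizer_mul R
  rw [hG] at hN
  set N := Subgroup.normalizer ((R : Subgroup G) : Set G) with hNd
  have h5N : ¬ 5 ∣ Nat.card ↥N := by
    intro h5
    obtain ⟨⟨x, hx⟩, hxo⟩ := exists_prime_orderOf_dvd_card' 5 h5
    rw [← Subgroup.orderOf_coe] at hxo
    refine not_nine_dvd_centralizer_five hG hxo (hR ▸ Subgroup.card_dvd_of_le fun a ha => ?_)
    exact Subgroup.mem_centralizer_singleton_iff.2 (commute_nine hxo hR hx a ha).symm
  have h11N : ¬ 11 ∣ Nat.card ↥N :=
    not_eleven_dvd_normalizer hG (X := (R : Subgroup G)) (by rw [hR]; norm_num) (by rw [hR]; norm_num)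
  have h55 : 55 ∣ Nat.card (Sylow 3 G) := by
    have h1 := ((Nat.Prime.dvd_mul (by norm_num)).1 (hN ▸ (by norm_num : (5 : ℕ) ∣ 7920))).resolve_left h5N
    have h2 := ((Nat.Prime.dvd_mul (by norm_num)).1 (hN ▸ (by norm_num : (11 : ℕ) ∣ 7920))).resolve_left h11N
    omega
  have hcases : Nat.card (Sylow 3 G) = 55 ∨ Nat.card (Sylow 3 G) = 220 ∨ Nat.card (Sylow 3 G) = 880 := by
    have : ∀ j ∈ Nat.divisors 880, j % 3 = 1 → 55 ∣ j → j = 55 ∨ j = 220 ∨ j = 880 := by decide +kernel
    exact this _ (Nat.mem_divisors.2 ⟨hd, by norm_num⟩) hm h55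
  rcases hcases with h | h | h
  · left; rw [h] at hN; omega
  · right; rw [h] at hN; omega
  · exfalso
    rw [h] at hN
    have hN' : Nat.card ↥N = 9 := by omega
    have hNR : (R : Subgroup G) = N := Subgroup.eq_of_le_of_card_ge Subgroup.le_normalizer (by rw [hR, hN'])
    refine not_normalizer_le_centralizer (hnc hG) (dvd_card hG (by norm_num)) R ?_
    rw [← hNd, ← hNR]
    exact Subgroup.le_centralizer_iff_isMulCommutative.2 (isMulCommutative_three hG R)

/-- A conjugation orbit with two elements under the normaliser of an abelian Sylow subgroup. -/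
theorem inv_mem_orbit_of_two (hG : Nat.card G = 7920) (R : Sylow 3 G) {x : G} (hx : x ∈ (R : Subgroup G))
    (h2 : (Set.range fun k : ↥(Subgroup.normalizer ((R : Subgroup G) : Set G)) =>
      (k : G) * x * (k : G)⁻¹).ncard = 2) :
    x⁻¹ ∈ Set.range fun k : ↥(Subgroup.normalizer ((R : Subgroup G) : Set G)) => (k : G) * x * (k : G)⁻¹ := by
  set N := Subgroup.normalizer ((R : Subgroup G) : Set G) with hNd
  set O := Set.range fun k : ↥N => (k : G) * x * (k : G)⁻¹ with hO
  obtain ⟨a, b, hab, hOab⟩ := Set.ncard_eq_two.1 h2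
  have hxO : x ∈ O := ⟨1, by simp⟩
  have hinv : ∀ n ∈ N, ∀ c ∈ O, n * c * n⁻¹ ∈ O := by
    rintro n hn _ ⟨k, rfl⟩
    exact ⟨⟨n, hn⟩ * k, by simp [mul_assoc]⟩
  have hOR : ∀ c ∈ O, c ∈ (R : Subgroup G) := by
    rintro _ ⟨k, rfl⟩
    exact (Subgroup.mem_normalizer_iff.1 k.2 x).1 hx
  have hc : a * b = b * a :=
    congrArg Subtype.val ((isMulCommutative_three hG R).is_comm.comm
      ⟨a, hOR a (by rw [hOab]; simp)⟩ ⟨b, hOR b (by rw [hOab]; simp)⟩)
  have hprod : a * b = 1 := by
    refine FiveZeroFour.eq_one_of_central (hnc hG) R (isMulCommutative_three hG R)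
      ((R : Subgroup G).mul_mem (hOR a (by rw [hOab]; simp)) (hOR b (by rw [hOab]; simp))) fun n hn => ?_
    have key : n * (a * b) * n⁻¹ = a * b := by
      have ha' := hinv n hn a (by rw [hOab]; simp)
      have hb' := hinv n hn b (by rw [hOab]; simp)
      rw [hOab, Set.mem_insert_iff, Set.mem_singleton_iff] at ha' hb'
      rw [show n * (a * b) * n⁻¹ = (n * a * n⁻¹) * (n * b * n⁻¹) by group]
      have hne : n * a * n⁻¹ ≠ n * b * n⁻¹ := fun e => hab (by simpa using e)
      rcases ha' with ha' | ha' <;> rcases hb' with hb' | hb' <;> rw [ha', hb'] at hne ⊢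
      · exact absurd rfl hne
      · exact hc.symm
      · exact absurd rfl hne
    exact mul_inv_eq_iff_eq_mul.1 key
  rw [hOab] at hxO ⊢
  rcases hxO with rfl | hxb
  · exact Or.inr (by rw [Set.mem_singleton_iff]; exact inv_eq_of_mul_eq_one_right hprod)
  · rw [Set.mem_singleton_iff] at hxb
    subst hxb
    exact Or.inl (inv_eq_of_mul_eq_one_left hprod)

theorem no_three_five_one (hG : Nat.card G = 7920) {q y : G} (hq : orderOf q = 5) (hy : orderOf y = 3)
    (hqy : q * y = y * q) : False := by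
  classical
  have hn := hnc hG
  obtain ⟨Q, hQ⟩ := exists_sylow_five hG hq
  set N := Subgroup.normalizer ((Q : Subgroup G) : Set G) with hNd
  set C := Subgroup.centralizer ((Q : Subgroup G) : Set G) with hCd
  have hQc := card_five hG Q
  have hCq : C = Subgroup.centralizer ({q} : Set G) := by
    rw [hCd, hQ, Subgroup.zpowers_eq_closure, Subgroup.centralizer_closure]
  have hyC : y ∈ C := hCq ▸ Subgroup.mem_centralizer_singleton_iff.2 hqy.symm
  have h3C : 3 ∣ Nat.card ↥C := hy ▸ Subgroup.orderOf_dvd_natCard C hyC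
  have hle : C ≤ N := Subgroup.centralizer_le_normalizer _
  have hN : Nat.card ↥N = 120 := by
    refine (five_normalizer_cases hG Q).resolve_right fun h => ?_
    have := h3C.trans (Subgroup.card_dvd_of_le hle)
    rw [h] at this
    omega
  have h9C : ¬ 3 ^ (1 + 1) ∣ Nat.card ↥C := hCq ▸ not_nine_dvd_centralizer_five hG hq
  set M := Subgroup.normalizer (Subgroup.zpowers y : Set G) with hMd
  set Cy := Subgroup.centralizer ({y} : Set G) with hCyd
  have hYc : Nat.card ↥(Subgroup.zpowers y) = 3 := by rw [Nat.card_zpowers, hy]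
  have hy1 : y ≠ 1 := fun e => by simp [e] at hy
  have hqM : q ∈ M := mem_normalizer_zpowers (by rw [hqy, mul_inv_cancel_right]; exact Subgroup.mem_zpowers y)
  have hQM : (Q : Subgroup G) ≤ M := hQ ▸ Subgroup.zpowers_le.2 hqM
  have hyM : y ∈ M := Subgroup.le_normalizer (Subgroup.mem_zpowers y)
  obtain ⟨R, hR⟩ : ∃ R : Sylow 3 G, Subgroup.zpowers y ≤ (R : Subgroup G) :=
    IsPGroup.exists_le_sylow (IsPGroup.of_card (p := 3) (n := 1) (by rw [hYc]; norm_num))
  have hRc := card_three hG R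
  have hyR : y ∈ (R : Subgroup G) := hR (Subgroup.mem_zpowers y)
  have hRCy : (R : Subgroup G) ≤ Cy := three_le_centralizer hG R hyR
  have hqCy : q ∈ Cy := Subgroup.mem_centralizer_singleton_iff.2 hqy
  have hCyM : Cy ≤ M := by
    rw [hCyd, ← Subgroup.centralizer_closure, ← Subgroup.zpowers_eq_closure]
    exact Subgroup.centralizer_le_normalizer _
  have h45 : 45 ∣ Nat.card ↥Cy := by
    have h1 : 9 ∣ Nat.card ↥Cy := hRc ▸ Subgroup.card_dvd_of_le hRCy
    have h2 : 5 ∣ Nat.card ↥Cy := hq ▸ Subgroup.orderOf_dvd_natCard Cy hqCy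
    omega
  have hMne : M ≠ ⊤ := by
    refine normalizer_ne_top (fun e => ?_) fun e => ?_
    · rw [e, Subgroup.card_bot] at hYc; omega
    · rw [e, Subgroup.card_top, hG] at hYc; omega
  have hM720 : Nat.card ↥M ∣ 720 := by
    have h1 : Nat.card ↥M ∣ 11 * 720 := by
      rw [show 11 * 720 = Nat.card G by rw [hG]]
      exact Subgroup.card_subgroup_dvd_card M
    refine (Nat.Coprime.dvd_mul_left ?_).1 h1
    exact ((Nat.Prime.coprime_iff_not_dvd (by norm_num)).2
      (not_eleven_dvd_normalizer hG (X := Subgroup.zpowers y) (by omega) (by omega))).symm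
  -- five-Sylow count in `M`
  have h25 : ¬ 5 ^ (1 + 1) ∣ Nat.card ↥M := fun h => by have := h.trans hM720; omega
  obtain ⟨hn5, hn5m⟩ := sylow_count M hQM (n := 1) (by rw [hQc]; norm_num) h25
  set k := Nat.card ↥(M ⊓ N) with hk
  set n5 := Nat.card (Sylow 5 ↥M) with hn5d
  have hk15 : 15 ∣ k := by
    have h1 : 5 ∣ k := hQc ▸ Subgroup.card_dvd_of_le (le_inf hQM Subgroup.le_normalizer)
    have h2 : 3 ∣ k := hy ▸ Subgroup.orderOf_dvd_natCard _ (⟨hyM, hle hyC⟩ : y ∈ M ⊓ N)
    omega
  have hk120 : k ∣ 120 := hN ▸ Subgroup.card_dvd_of_le inf_le_right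
  have hn6 : n5 = 6 := by
    obtain ⟨k', hk'⟩ := hk15
    have h9M : 9 ∣ n5 * k := hn5.symm ▸ (dvd_trans (by norm_num) h45).trans (Subgroup.card_dvd_of_le hCyM)
    have h3n : 3 ∣ n5 := by
      have h9k : ¬ 9 ∣ k := fun h => by have := h.trans hk120; omega
      by_contra h3
      exact h9k ((Nat.Coprime.dvd_mul_left (Nat.Coprime.pow_left 2
        ((Nat.Prime.coprime_iff_not_dvd Nat.prime_three).2 h3))).1 h9M)
    have h48 : n5 ∣ 48 := by
      have h1 : n5 * k ∣ 720 := hn5.symm ▸ hM720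
      rw [hk', ← mul_assoc] at h1
      exact Nat.dvd_of_mul_dvd_mul_right (show 0 < 15 by norm_num) (Dvd.dvd.trans (Dvd.intro k' rfl) h1)
    have : ∀ j ∈ Nat.divisors 48, 3 ∣ j → j % 5 = 1 → j = 6 := by decide +kernel
    exact this _ (Nat.mem_divisors.2 ⟨h48, by norm_num⟩) h3n hn5m
  rw [hn6] at hn5
  -- conjugates of `⟨y⟩` in `C` and in `N`
  have hYC : Subgroup.zpowers y ≤ C := Subgroup.zpowers_le.2 hyC
  obtain ⟨hs, hsm⟩ := sylow_count C hYC (n := 1) (by rw [hYc]; norm_num) h9C
  rw [← hMd] at hs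
  have hcov : ∀ n ∈ N, ∃ c ∈ C, c⁻¹ * n ∈ M := by
    intro n hnN
    have hnC : ∀ a ∈ C, n * a * n⁻¹ ∈ C := by
      intro a ha
      rw [hCd, Subgroup.mem_centralizer_iff] at ha ⊢
      intro b hb
      have h1 := ha (n⁻¹ * b * n) ((Subgroup.mem_normalizer_iff''.1 hnN b).1 hb)
      calc b * (n * a * n⁻¹) = n * ((n⁻¹ * b * n) * a) * n⁻¹ := by group
        _ = n * (a * (n⁻¹ * b * n)) * n⁻¹ := by rw [h1]
        _ = n * a * n⁻¹ * b := by group
    have hBc : Nat.card ↥(Subgroup.zpowers (n * y * n⁻¹)) = 3 ^ 1 := by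
      rw [Nat.card_zpowers, pow_one, ← hy]
      exact orderOf_injective (MulAut.conj n).toMonoidHom (MulAut.conj n).injective y
    obtain ⟨c, hc, hcb⟩ := exists_conj_in C hYC (Subgroup.zpowers_le.2 (hnC y hyC))
      (by rw [hYc, pow_one]) hBc h9C
    refine ⟨c, hc, Subgroup.inv_mem_iff _ |>.1 ?_⟩
    rw [mul_inv_rev, inv_inv]
    refine mem_normalizer_zpowers ?_
    obtain ⟨i, hi⟩ := Subgroup.mem_zpowers_iff.1 ((hcb y).1 (Subgroup.mem_zpowers y))
    rw [Subgroup.mem_zpowers_iff]
    refine ⟨i, ?_⟩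
    rw [conj_zpow] at hi
    calc y ^ i = n⁻¹ * (n * y ^ i * n⁻¹) * n := by group
      _ = n⁻¹ * (c * y * c⁻¹) * n := by rw [hi]
      _ = n⁻¹ * c * y * (n⁻¹ * c)⁻¹ := by group
  have hrel := relIndex_eq_of_cover hle hcov
  set s := Nat.card (Sylow 3 ↥C) with hsd
  set j := Nat.card ↥(C ⊓ M) with hj
  have hCN : Nat.card ↥C * C.relIndex N = Nat.card ↥N := by
    have h := card_inf_mul_relIndex C N
    rwa [inf_eq_right.2 hle] at h
  have hMC := card_inf_mul_relIndex M C
  have hMN := card_inf_mul_relIndex M N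
  rw [← hrel] at hMN
  have hrs : M.relIndex C = s := by
    have hpos : 0 < j := Nat.card_pos
    exact Nat.eq_of_mul_eq_mul_left hpos (by rw [hMC, ← hs, mul_comm])
  rw [hrs, inf_comm, hN] at hMN
  change k * s = 120 at hMN
  have hC60 : Nat.card ↥C ∣ 60 := by
    have h4 : C.relIndex N ∣ 4 := relIndex_centralizer_dvd hQc le_rfl
    have hne' : C.relIndex N ≠ 1 :=
      fun e => not_normalizer_le_centralizer hn (dvd_card hG (by norm_num)) Q (Subgroup.relIndex_eq_one.1 e)
    have h24 : C.relIndex N = 2 ∨ C.relIndex N = 4 := by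
      have : ∀ i ∈ Nat.divisors 4, i ≠ 1 → i = 2 ∨ i = 4 := by decide +kernel
      exact this _ (Nat.mem_divisors.2 ⟨h4, by norm_num⟩) hne'
    rw [hN] at hCN
    rcases h24 with e | e <;> rw [e] at hCN
    · exact ⟨1, by omega⟩
    · exact ⟨2, by omega⟩
  have hj15 : 15 ∣ j := by
    have : IsCyclic ↥(Q : Subgroup G) := isCyclic_of_prime_card hQc
    have h1 : 5 ∣ j := hQc ▸ Subgroup.card_dvd_of_le (le_inf (by
      rw [hCd]; exact Subgroup.le_centralizer_iff_isMulCommutative.2 IsCyclic.commutative) hQM)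
    have h2 : 3 ∣ j := hy ▸ Subgroup.orderOf_dvd_natCard _ (⟨hyC, hyM⟩ : y ∈ C ⊓ M)
    omega
  have hs14 : s = 1 ∨ s = 4 := by
    obtain ⟨j', hj'⟩ := hj15
    have h4 : s ∣ 4 := by
      have h1 : s * (15 * j') ∣ 60 := by rw [← hj', hs]; exact hC60
      rw [show s * (15 * j') = s * j' * 15 by ring, show 60 = 4 * 15 from rfl] at h1
      exact (Dvd.intro j' rfl).trans (Nat.dvd_of_mul_dvd_mul_right (by norm_num) h1)
    have : ∀ i ∈ Nat.divisors 4, i % 3 = 1 → i = 1 ∨ i = 4 := by decide +kernel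
    exact this _ (Nat.mem_divisors.2 ⟨h4, by norm_num⟩) hsm
  rcases hs14 with hs1 | hs4
  · -- index eleven
    rw [hs1, mul_one] at hMN
    have hMc : Nat.card ↥M = 720 := by omega
    have hNM : N ≤ M := by
      rw [← inf_eq_right]
      exact Subgroup.eq_of_le_of_card_ge inf_le_right (by rw [hN, ← hk, hMN])
    have hidx : Nat.card (G ⧸ M) = 11 := by
      have h := M.index_mul_card
      rw [hMc, hG] at h
      rw [← Subgroup.index]; omega
    set base : G ⧸ M := ((1 : G) : G ⧸ M)
    have hfix : ∀ a : G ⧸ M, q • a = a → y • a = a := by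
      intro a ha
      obtain ⟨g, rfl⟩ := QuotientGroup.mk_surjective a
      have h1 : g⁻¹ * q * g ∈ M := by
        have h := QuotientGroup.eq.1 (show ((q * g : G) : G ⧸ M) = g from ha).symm
        rwa [← mul_assoc] at h
      have hB : Nat.card ↥(Subgroup.zpowers (g⁻¹ * q * g)) = 5 ^ 1 := by
        rw [Nat.card_zpowers, pow_one, ← hq]
        have := orderOf_injective (MulAut.conj g⁻¹).toMonoidHom (MulAut.conj g⁻¹).injective q
        simpa using this
      obtain ⟨c, hc, hcb⟩ := exists_conj_in M hQM (Subgroup.zpowers_le.2 h1)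
        (by rw [hQc, pow_one]) hB h25
      obtain ⟨i, hi⟩ := Subgroup.mem_zpowers_iff.1 ((hcb q).1 (hQ ▸ Subgroup.mem_zpowers q))
      have hgc : g * c ∈ M := by
        refine hNM ?_
        rw [hNd, hQ]
        refine mem_normalizer_zpowers (Subgroup.mem_zpowers_iff.2 ⟨i, ?_⟩)
        have h2 : (g⁻¹ * q * g) ^ i = g⁻¹ * q ^ i * g := by simpa using (conj_zpow (a := g⁻¹) (b := q) (i := i))
        rw [h2] at hi
        calc q ^ i = g * (g⁻¹ * q ^ i * g) * g⁻¹ := by group
          _ = g * (c * q * c⁻¹) * g⁻¹ := by rw [hi]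
          _ = g * c * q * (g * c)⁻¹ := by group
      have hgM : g ∈ M := by simpa using M.mul_mem hgc (M.inv_mem hc)
      show ((y * g : G) : G ⧸ M) = g
      exact QuotientGroup.eq.2 (M.mul_mem (M.inv_mem (M.mul_mem hyM hgM)) hgM)
    set S := {a : G ⧸ M | y • a ≠ a}
    have hS0 : S.ncard = 0 := by
      by_contra hne
      have hyinv : ∀ a ∈ S, y • a ∈ S := fun a ha h => ha (smul_left_cancel y h)
      have hqinv : ∀ a ∈ S, q • a ∈ S := fun a ha h =>
        ha (smul_left_cancel q (by rwa [← mul_smul, hqy, mul_smul]))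
      have h3 : 3 ∣ S.ncard :=
        dvd_ncard_of_moved (k := 1) (by rw [pow_one, ← hy, pow_orderOf_eq_one]) hyinv fun a ha => ha
      have h5 : 5 ∣ S.ncard :=
        dvd_ncard_of_moved (k := 1) (by rw [pow_one, ← hq, pow_orderOf_eq_one]) hqinv
          fun a ha h => ha (hfix a h)
      have h10 : S.ncard < 11 := by
        rw [← hidx, ← Set.ncard_univ]
        refine Set.ncard_lt_ncard ⟨Set.subset_univ _, fun h => ?_⟩ (Set.toFinite _)
        have hb : base ∈ S := h (Set.mem_univ _)
        refine hb ?_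
        show ((y * 1 : G) : G ⧸ M) = ((1 : G) : G ⧸ M)
        exact QuotientGroup.eq.2 (by simpa using M.inv_mem hyM)
      omega
    have hSe : S = ∅ := (Set.ncard_eq_zero (Set.toFinite _)).1 hS0
    have hcore : y ∈ M.normalCore := by
      intro g
      have h1 : y • ((g⁻¹ : G) : G ⧸ M) = ((g⁻¹ : G) : G ⧸ M) := by
        by_contra h
        exact Set.eq_empty_iff_forall_notMem.1 hSe _ h
      have h2 := QuotientGroup.eq.1 h1
      have h3 : g * y⁻¹ * g⁻¹ ∈ M := by simpa [mul_assoc] using h2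
      simpa [mul_assoc] using M.inv_mem h3
    rcases (inferInstance : M.normalCore.Normal).eq_bot_or_eq_top with h | h
    · rw [h, Subgroup.mem_bot] at hcore
      exact hy1 hcore
    · exact hMne (top_le_iff.1 (h ▸ Subgroup.normalCore_le M))
  · -- order 180
    rw [hs4] at hMN
    have hMc : Nat.card ↥M = 180 := by omega
    have h27 : ∀ K : Subgroup G, K ≤ M → ¬ 3 ^ (2 + 1) ∣ Nat.card ↥K := fun K hK h => by
      have := h.trans (Subgroup.card_dvd_of_le hK); rw [hMc] at this; omega
    obtain ⟨h3, h3m⟩ := sylow_count Cy hRCy (n := 2) (by rw [hRc]; norm_num) (h27 _ hCyM)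
    set k3 := Nat.card ↥(Cy ⊓ Subgroup.normalizer ((R : Subgroup G) : Set G)) with hk3
    set n3 := Nat.card (Sylow 3 ↥Cy) with hn3d
    have hCy180 : Nat.card ↥Cy ∣ 180 := hMc ▸ Subgroup.card_dvd_of_le hCyM
    have hn3ne : ¬ n3 ≤ 4 := by
      intro hle4
      obtain ⟨R', hR'⟩ := exists_sylow_in Cy hRCy (p := 3) (n := 2) (by rw [hRc]; norm_num) (h27 _ hCyM)
      have hfixR : (⟨q, hqCy⟩ : ↥Cy) • R' = R' := by
        by_contra hne
        have h5 : 5 ∣ {P : Sylow 3 ↥Cy | (⟨q, hqCy⟩ : ↥Cy) • P ≠ P}.ncard :=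
          dvd_ncard_of_moved (x := (⟨q, hqCy⟩ : ↥Cy)) (k := 1)
            (Subtype.ext (show q ^ 5 ^ 1 = 1 by rw [pow_one, ← hq, pow_orderOf_eq_one]))
            (fun P hP h => hP (smul_left_cancel _ h)) fun P hP => hP
        have hpos : 0 < {P : Sylow 3 ↥Cy | (⟨q, hqCy⟩ : ↥Cy) • P ≠ P}.ncard :=
          (Set.ncard_pos (Set.toFinite _)).2 ⟨R', hne⟩
        have hle' := (Set.ncard_le_ncard (Set.subset_univ
          {P : Sylow 3 ↥Cy | (⟨q, hqCy⟩ : ↥Cy) • P ≠ P}) (Set.toFinite _))
        rw [Set.ncard_univ] at hle'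
        have := Nat.le_of_dvd hpos h5
        omega
      have hmem : (⟨q, hqCy⟩ : ↥Cy) ∈ Subgroup.normalizer ((R' : Subgroup ↥Cy) : Set ↥Cy) :=
        Sylow.smul_eq_iff_mem_normalizer.1 hfixR
      rw [hR', ← Subgroup.subgroupOf_normalizer_eq hRCy, Subgroup.mem_subgroupOf] at hmem
      refine not_nine_dvd_centralizer_five hG hq (hRc ▸ Subgroup.card_dvd_of_le fun a ha => ?_)
      exact Subgroup.mem_centralizer_singleton_iff.2 (commute_nine hq hRc hmem a ha).symm
    have hk9 : 9 ∣ k3 := hRc ▸ Subgroup.card_dvd_of_le (le_inf hRCy Subgroup.le_normalizer)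
    have hn10 : n3 = 10 := by
      obtain ⟨c, hc⟩ := hk9
      have h20 : n3 ∣ 20 := by
        have h1 : n3 * k3 ∣ 180 := h3.symm ▸ hCy180
        rw [hc, show n3 * (9 * c) = n3 * c * 9 by ring, show 180 = 20 * 9 from rfl] at h1
        exact (Dvd.intro c rfl).trans (Nat.dvd_of_mul_dvd_mul_right (by norm_num) h1)
      have : ∀ i ∈ Nat.divisors 20, i % 3 = 1 → ¬ i ≤ 4 → i = 10 := by decide +kernel
      exact this _ (Nat.mem_divisors.2 ⟨h20, by norm_num⟩) h3m hn3ne
    rw [hn10] at h3
    have hk3' : k3 = 9 ∨ k3 = 18 := by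
      have h1 : 10 * k3 ∣ 180 := h3.symm ▸ hCy180
      have h2 : k3 ∣ 18 := Nat.dvd_of_mul_dvd_mul_left (show 0 < 10 by norm_num) h1
      obtain ⟨c, hc⟩ := hk9
      have : ∀ i ∈ Nat.divisors 18, 9 ∣ i → i = 9 ∨ i = 18 := by decide +kernel
      exact this _ (Nat.mem_divisors.2 ⟨h2, by norm_num⟩) ⟨c, hc⟩
    rcases hk3' with h9 | h18
    · -- normal complement of order ten
      obtain ⟨R', hR'⟩ := exists_sylow_in Cy hRCy (p := 3) (n := 2) (by rw [hRc]; norm_num) (h27 _ hCyM)
      have hself : Cy ⊓ Subgroup.normalizer ((R : Subgroup G) : Set G) = (R : Subgroup G) :=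
        (Subgroup.eq_of_le_of_card_ge (le_inf hRCy Subgroup.le_normalizer) (by rw [hRc, ← hk3, h9])).symm
      have hcen : Subgroup.normalizer ((R' : Subgroup ↥Cy) : Set ↥Cy) ≤
          Subgroup.centralizer ((R' : Subgroup ↥Cy) : Set ↥Cy) := by
        rw [hR', ← Subgroup.subgroupOf_normalizer_eq hRCy]
        intro a ha
        have haR : (a : G) ∈ (R : Subgroup G) := hself ▸ ⟨a.2, ha⟩
        refine Subgroup.mem_centralizer_iff.2 fun b hb => Subtype.ext ?_
        have hc := congrArg Subtype.val ((isMulCommutative_three hG R).is_comm.comm ⟨(b : G), hb⟩ ⟨(a : G), haR⟩)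
        simpa using hc
      obtain ⟨K, hKn, hKc, hK⟩ := exists_complement R' hcen
      have hR'c : Nat.card ↥(R' : Subgroup ↥Cy) = 9 := by
        rw [hR', Nat.card_congr (Subgroup.subgroupOfEquivOfLe hRCy).toEquiv, hRc]
      rw [hR'c, ← h3, h9] at hKc
      have hK10 : Nat.card ↥K = 10 := by omega
      have hqK : (⟨q, hqCy⟩ : ↥Cy) ∈ K := hK _ (by
        rw [← Subgroup.orderOf_coe]; show (orderOf q).Coprime 3; rw [hq]; norm_num)
      set Z := Subgroup.zpowers (⟨⟨q, hqCy⟩, hqK⟩ : ↥K) with hZ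
      have hZidx : Z.index = 2 := by
        have h := Z.index_mul_card
        rw [hZ, Nat.card_zpowers, hK10, ← Subgroup.orderOf_coe, ← Subgroup.orderOf_coe] at h
        change _ * orderOf q = 10 at h
        rw [hq] at h
        rw [hZ]; omega
      have hRN : (R : Subgroup G) ≤ N := by
        intro r hr
        set q' : ↥Cy := (⟨r, hRCy hr⟩ : ↥Cy) * ⟨q, hqCy⟩ * (⟨r, hRCy hr⟩ : ↥Cy)⁻¹ with hq'
        have hq'K : q' ∈ K := hKn.conj_mem _ hqK _
        have h5' : q' ^ 5 = 1 := by
          rw [hq', conj_pow, show (⟨q, hqCy⟩ : ↥Cy) ^ 5 = 1 from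
            Subtype.ext (show q ^ 5 = 1 by rw [← hq, pow_orderOf_eq_one]), mul_one, mul_inv_cancel]
        have hsq := Subgroup.mul_self_mem_of_index_two hZidx (⟨q', hq'K⟩ : ↥K)
        have hmem : (⟨q', hq'K⟩ : ↥K) ∈ Z := by
          have h3' : ((⟨q', hq'K⟩ : ↥K) * ⟨q', hq'K⟩) ^ 3 = ⟨q', hq'K⟩ := by
            refine Subtype.ext ?_
            show (q' * q') ^ 3 = q'
            rw [← pow_two, ← pow_mul, show 2 * 3 = 5 + 1 from rfl, pow_succ, h5', one_mul]
          rw [← h3']
          exact Z.pow_mem hsq 3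
        obtain ⟨i, hi⟩ := Subgroup.mem_zpowers_iff.1 hmem
        refine hNd ▸ hQ ▸ mem_normalizer_zpowers (Subgroup.mem_zpowers_iff.2 ⟨i, ?_⟩)
        have := congrArg (fun t : ↥K => ((t : ↥Cy) : G)) hi
        simpa [hq'] using this
      have := hRc ▸ Subgroup.card_dvd_of_le hRN
      rw [hN] at this
      omega
    · -- transfer
      have hCyc : Nat.card ↥Cy = 180 := by rw [← h3, h18]
      have hCyMeq : Cy = M := Subgroup.eq_of_le_of_card_ge hCyM (by rw [hMc, hCyc])
      set NR := Subgroup.normalizer ((R : Subgroup G) : Set G) with hNR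
      set O := Set.range fun i : ↥NR => (i : G) * y * (i : G)⁻¹ with hO
      have horb := ncard_conj_orbit NR y
      rw [inf_comm, ← hk3, h18] at horb
      change O.ncard * 18 = _ at horb
      have hinv : y⁻¹ ∈ O := by
        rcases three_normalizer_cases hG R with e | e <;> rw [hNR, e] at horb
        · -- all non-trivial elements
          have h8 : O.ncard = 8 := by omega
          have hsub : O ⊆ ((R : Subgroup G) : Set G) \ {1} := by
            rintro _ ⟨i, rfl⟩
            exact ⟨(Subgroup.mem_normalizer_iff.1 i.2 y).1 hyR, fun e => hy1 (by simpa using e)⟩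
          have hcard : (((R : Subgroup G) : Set G) \ {1}).ncard = 8 := by
            rw [Set.ncard_sdiff (Set.singleton_subset_iff.2 (R : Subgroup G).one_mem), Set.ncard_singleton,
              ← Nat.card_coe_set_eq]
            show Nat.card ↥(R : Subgroup G) - 1 = 8
            rw [hRc]
          have heq := Set.eq_of_subset_of_ncard_le hsub (by rw [hcard, h8]) (Set.toFinite _)
          rw [heq]
          exact ⟨(R : Subgroup G).inv_mem hyR, fun e => hy1 (by simpa using e)⟩
        · exact inv_mem_orbit_of_two hG R hyR (show O.ncard = 2 by omega)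
      obtain ⟨⟨g, hg⟩, hgy⟩ := hinv
      have hgy' : g * y * g⁻¹ = y⁻¹ := hgy
      have hgM : g ∈ M := mem_normalizer_zpowers (hgy' ▸ Subgroup.inv_mem _ (Subgroup.mem_zpowers y))
      rw [← hCyMeq, hCyd, Subgroup.mem_centralizer_singleton_iff] at hgM
      rw [hgM, mul_inv_cancel_right] at hgy'
      have h2 : orderOf y ∣ 2 := orderOf_dvd_of_pow_eq_one (by rw [pow_two]; nth_rw 1 [hgy']; simp)
      rw [hy] at h2
      omega

/-- Elements of orders five and three do not commute. -/
theorem five_three (hG : Nat.card G = 7920) {q : G} (hq : orderOf q = 5) :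
    ¬ 3 ∣ Nat.card ↥(Subgroup.centralizer ({q} : Set G)) := by
  intro h
  obtain ⟨⟨y, hy⟩, hyo⟩ := exists_prime_orderOf_dvd_card' 3 h
  rw [← Subgroup.orderOf_coe] at hyo
  exact no_three_five_one hG hq hyo (Subgroup.mem_centralizer_singleton_iff.1 hy).symm

theorem five_sylow (hG : Nat.card G = 7920) (Q : Sylow 5 G) :
    Nat.card ↥(Subgroup.normalizer ((Q : Subgroup G) : Set G)) = 20 := by
  refine (five_normalizer_cases hG Q).resolve_left fun h => ?_
  have hQ := card_five hG Q
  obtain ⟨⟨q, hq⟩, hqo⟩ := exists_prime_orderOf_dvd_card' (G := ↥(Q : Subgroup G)) 5 (by rw [hQ])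
  rw [← Subgroup.orderOf_coe] at hqo
  have hz : Subgroup.zpowers q = (Q : Subgroup G) :=
    Subgroup.eq_of_le_of_card_ge (Subgroup.zpowers_le.2 hq) (by rw [hQ, Nat.card_zpowers, hqo])
  set N := Subgroup.normalizer ((Q : Subgroup G) : Set G)
  set C := Subgroup.centralizer ((Q : Subgroup G) : Set G) with hC
  have hCq : C = Subgroup.centralizer ({q} : Set G) := by
    rw [hC, ← hz, Subgroup.zpowers_eq_closure, Subgroup.centralizer_closure]
  have h1 := card_inf_mul_relIndex C N
  rw [inf_eq_right.2 (Subgroup.centralizer_le_normalizer _), h] at h1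
  have h4 : C.relIndex N ∣ 4 := relIndex_centralizer_dvd hQ le_rfl
  have h3 : 3 ∣ Nat.card ↥C * C.relIndex N := h1.symm ▸ by norm_num
  exact five_three hG hqo (hCq ▸ (Nat.prime_three.dvd_mul.1 h3).resolve_right fun h' => by
    have := h'.trans h4; omega)

end Cfsg.Lib.MathieuEleven
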