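import Cfsg.Agent.Recognition.MathieuEleven.SylowTwo

/-!
The orbits of the normaliser of a Sylow three-subgroup on the fifty-five Sylow three-subgroups.
-/

set_option autoImplicit false

namespace Cfsg.Lib.MathieuEleven

open MulAction Cfsg.Lib.Small
open scoped Pointwise IsMulCommutative

variable {G : Type*} [Group G]

/-- The normaliser of a Sylow three-subgroup. -/
abbrev nrm (P : Sylow 3 G) : Subgroup G := Subgroup.normalizer ((P : Subgroup G) : Set G)

theorem mem_nrm {k : G} {P : Sylow 3 G} : k ∈ nrm P ↔ k • P = P := Sylow.smul_eq_iff_mem_normalizer.symm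

theorem mem_nrm_smul {k g : G} {P : Sylow 3 G} : k ∈ nrm (g • P) ↔ g⁻¹ * k * g ∈ nrm P := by
  rw [mem_nrm, mem_nrm, mul_smul, mul_smul, inv_smul_eq_iff]

theorem card_nrm_inf_smul (g : G) (P Q : Sylow 3 G) :
    Nat.card ↥(nrm (g • P) ⊓ nrm (g • Q)) = Nat.card ↥(nrm P ⊓ nrm Q) := by
  have he : nrm (g • P) ⊓ nrm (g • Q) = (nrm P ⊓ nrm Q).map (MulAut.conj g).toMonoidHom := by
    ext k
    rw [Subgroup.mem_inf, Subgroup.mem_map, mem_nrm_smul, mem_nrm_smul]
    constructor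
    · exact fun h => ⟨g⁻¹ * k * g, h, by simp [mul_assoc]⟩
    · rintro ⟨a, ha, rfl⟩
      simpa [mul_assoc] using ha
  rw [he, Subgroup.card_map_of_injective (MulAut.conj g).injective]

/-- Two Sylow three-subgroups with normalisers meeting in eight elements. -/
def Adj (P Q : Sylow 3 G) : Prop := P ≠ Q ∧ Nat.card ↥(nrm P ⊓ nrm Q) = 8

theorem Adj.symm {P Q : Sylow 3 G} (h : Adj P Q) : Adj Q P := ⟨h.1.symm, by rw [inf_comm]; exact h.2⟩

theorem adj_smul_iff {g : G} {P Q : Sylow 3 G} : Adj (g • P) (g • Q) ↔ Adj P Q := by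
  rw [Adj, Adj, card_nrm_inf_smul, Ne, smul_left_cancel_iff]

theorem Adj.smul {P Q : Sylow 3 G} (h : Adj P Q) (g : G) : Adj (g • P) (g • Q) := adj_smul_iff.2 h

/-- The size of an orbit of a subgroup. -/
theorem ncard_smul_orbit {α : Type*} [MulAction G α] (K : Subgroup G) (a : α) :
    (Set.range fun k : K => (k : G) • a).ncard * Nat.card ↥(K ⊓ stabilizer G a) = Nat.card ↥K := by
  have hst : stabilizer ↥K a = (K ⊓ stabilizer G a).subgroupOf K := by
    ext k
    simp only [mem_stabilizer_iff, Subgroup.mem_subgroupOf, Subgroup.mem_inf, SetLike.coe_mem, true_and]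
    exact Iff.rfl
  have ho : orbit ↥K a = Set.range fun k : K => (k : G) • a := rfl
  have h := (stabilizer ↥K a).index_mul_card
  rw [index_stabilizer, ho, hst,
    Nat.card_congr (Subgroup.subgroupOfEquivOfLe (inf_le_left : K ⊓ _ ≤ K)).toEquiv] at h
  exact h

/-- An invariant set all of whose orbits have size a multiple of `d`. -/
theorem dvd_ncard_of_orbits {α : Type*} [MulAction G α] [Finite α] (K : Subgroup G) {s : Set α} {d : ℕ}
    (hs : ∀ k ∈ K, ∀ a ∈ s, k • a ∈ s) (h : ∀ a ∈ s, d ∣ (Set.range fun k : K => (k : G) • a).ncard) :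
    d ∣ s.ncard := by
  classical
  let S : SubMulAction ↥K α :=
    { carrier := s
      smul_mem' := fun k a ha => hs k k.2 a ha }
  have := Fintype.ofFinite (orbitRel.Quotient ↥K ↥S)
  rw [← Nat.card_coe_set_eq]
  show d ∣ Nat.card ↥S
  rw [Nat.card_congr (selfEquivSigmaOrbits ↥K ↥S), Nat.card_sigma]
  refine Finset.dvd_sum fun q _ => ?_
  obtain ⟨a, ha⟩ := q.out
  rw [Nat.card_coe_set_eq, ← Set.ncard_image_of_injective _ Subtype.val_injective, SubMulAction.val_image_orbit]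
  exact h a ha

theorem nrm_smul_stabilizer (P : Sylow 3 G) : stabilizer G P = nrm P := by
  ext k
  rw [mem_stabilizer_iff, mem_nrm]

variable [Finite G] [IsSimpleGroup G]

theorem card_sylow_three (hG : Nat.card G = 7920) : Nat.card (Sylow 3 G) = 55 := by
  obtain ⟨R⟩ : Nonempty (Sylow 3 G) := Sylow.nonempty
  have h := (nrm R).index_mul_card
  rw [Sylow.card_eq_index_normalizer R]
  rw [three_normalizer hG R, hG] at h
  show (nrm R).index = 55
  omega

theorem three_free (hG : Nat.card G = 7920) {R P : Sylow 3 G} (hne : P ≠ R) {x : G} (hx : x ∈ (R : Subgroup G))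
    (h : x • P = P) : x = 1 := by
  by_contra h1
  exact hne (eq_of_mem hG (mem_three_of_normalizer P (mem_nrm.2 h) (pow_nine hG R hx)) hx h1)

theorem three_smul_self {R : Sylow 3 G} {t : G} (ht : t ∈ (R : Subgroup G)) : t • R = R :=
  mem_nrm.1 (Subgroup.le_normalizer ht)

theorem card_inf_nrm_dvd (hG : Nat.card G = 7920) {R P : Sylow 3 G} (hne : P ≠ R) :
    Nat.card ↥(nrm R ⊓ nrm P) ∣ 16 := by
  have hd : Nat.card ↥(nrm R ⊓ nrm P) ∣ 144 := three_normalizer hG R ▸ Subgroup.card_dvd_of_le inf_le_left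
  have h3 : ¬ 3 ∣ Nat.card ↥(nrm R ⊓ nrm P) := by
    intro h
    obtain ⟨⟨a, ha⟩, hao⟩ := exists_prime_orderOf_dvd_card' 3 h
    rw [← Subgroup.orderOf_coe] at hao
    change orderOf a = 3 at hao
    have haR : a ∈ (R : Subgroup G) := mem_three_of_normalizer R (k := 1) ha.1 (by
      rw [pow_one, ← hao, pow_orderOf_eq_one])
    have := three_free hG hne haR (mem_nrm.1 ha.2)
    rw [this, orderOf_one] at hao
    omega
  have : ∀ j ∈ Nat.divisors 144, ¬ 3 ∣ j → j ∣ 16 := by decide +kernel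
  exact this _ (Nat.mem_divisors.2 ⟨hd, by norm_num⟩) h3

theorem exists_twoSub_ge (hG : Nat.card G = 7920) {R : Sylow 3 G} {X : Subgroup G} (hX : X ≤ nrm R)
    (hc : Nat.card ↥X ∣ 16) : ∃ z, Inverts z R ∧ X ≤ twoSub R z := by
  obtain ⟨z, hz⟩ := exists_inverts hG R
  have : Fact (Nat.Prime 2) := ⟨Nat.prime_two⟩
  have hXp : IsPGroup 2 ↥(X.subgroupOf (nrm R)) := by
    obtain ⟨k, -, hk⟩ := (Nat.dvd_prime_pow Nat.prime_two).1 (show Nat.card ↥X ∣ 2 ^ 4 from hc)
    exact IsPGroup.of_card (n := k) (by rw [Nat.card_congr (Subgroup.subgroupOfEquivOfLe hX).toEquiv, hk])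
  obtain ⟨S, hS⟩ := hXp.exists_le_sylow
  set A := (S : Subgroup ↥(nrm R)).map (nrm R).subtype with hA
  have hAc : Nat.card ↥A = 2 ^ 4 := by
    rw [hA, Subgroup.card_map_of_injective (nrm R).subtype_injective]
    simpa using card_sylow_of_factor S (a := 4) (m := 9) (by rw [three_normalizer hG R]; norm_num) (by norm_num)
  have hv : ¬ 2 ^ (4 + 1) ∣ Nat.card ↥(nrm R) := by rw [three_normalizer hG R]; norm_num
  obtain ⟨c, hc', hcA⟩ := exists_conj_in (p := 2) (nrm R) (inf_le_left : twoSub R z ≤ nrm R)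
    (Subgroup.map_subtype_le _) (show Nat.card ↥(twoSub R z) = 2 ^ 4 by rw [card_twoSub hG hz]; norm_num) hAc hv
  refine ⟨c * z * c⁻¹, mem_nrm.1 hc' ▸ hz.conj c, fun a ha => ⟨hX ha, ?_⟩⟩
  have haA : a ∈ A := ⟨⟨a, hX ha⟩, hS (show (⟨a, hX ha⟩ : ↥(nrm R)) ∈ X.subgroupOf (nrm R) from ha), rfl⟩
  have hb : c⁻¹ * a * c ∈ twoSub R z := by
    refine (hcA _).2 ?_
    rwa [show c * (c⁻¹ * a * c) * c⁻¹ = a by group]
  have hcomm : c⁻¹ * a * c * z = z * (c⁻¹ * a * c) := Subgroup.mem_centralizer_singleton_iff.1 hb.2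
  refine Subgroup.mem_centralizer_singleton_iff.2 ?_
  calc a * (c * z * c⁻¹) = c * (c⁻¹ * a * c * z) * c⁻¹ := by group
    _ = c * (z * (c⁻¹ * a * c)) * c⁻¹ := by rw [hcomm]
    _ = c * z * c⁻¹ * a := by group

theorem exists_centralizer_smul (hG : Nat.card G = 7920) {R P : Sylow 3 G} {z : G} (hz : Inverts z R)
    (hzP : Inverts z P) : ∃ c, c * z = z * c ∧ c • R = P := by
  obtain ⟨g, hg⟩ := exists_smul_eq G R P
  have h : Inverts (g⁻¹ * z * g⁻¹⁻¹) R := (show g⁻¹ • P = R by rw [← hg, inv_smul_smul]) ▸ hzP.conj g⁻¹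
  obtain ⟨t, ht, he⟩ := inverts_unique hG hz h
  rw [inv_inv] at he
  refine ⟨g * t, ?_, by rw [mul_smul, three_smul_self ht, hg]⟩
  calc g * t * z = g * (t * z * t⁻¹) * t := by group
    _ = g * (g⁻¹ * z * g) * t := by rw [he]
    _ = z * (g * t) := by group

theorem card_inf_nrm_ne_sixteen (hG : Nat.card G = 7920) {R P : Sylow 3 G} (hne : P ≠ R) :
    Nat.card ↥(nrm R ⊓ nrm P) ≠ 16 := by
  intro h16
  obtain ⟨z, hz, hle⟩ := exists_twoSub_ge hG (inf_le_left : nrm R ⊓ nrm P ≤ nrm R) (by rw [h16])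
  obtain ⟨z', hz', hle'⟩ := exists_twoSub_ge hG (inf_le_right : nrm R ⊓ nrm P ≤ nrm P) (by rw [h16])
  have hX : nrm R ⊓ nrm P = twoSub R z :=
    Subgroup.eq_of_le_of_card_ge hle (by rw [card_twoSub hG hz, h16])
  have hX' : nrm R ⊓ nrm P = twoSub P z' :=
    Subgroup.eq_of_le_of_card_ge hle' (by rw [card_twoSub hG hz', h16])
  have hzz : z' = z := by
    refine (central_eq hG hz (hX ▸ hX' ▸ mem_twoSub_self hz') fun s hs => ?_).resolve_left hz'.2.1
    have : s ∈ twoSub P z' := hX' ▸ hX.symm ▸ hs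
    exact (Subgroup.mem_centralizer_singleton_iff.1 this.2).symm
  subst hzz
  obtain ⟨c, hcz, hcP⟩ := exists_centralizer_smul hG hz hz'
  have hcS : c ∈ twoSub R z' := by
    rw [← twoSub_normalizer hG hz]
    refine mem_normalizer_of_conj_le fun a ha => ?_
    rw [← hX, hX']
    refine ⟨?_, ?_⟩
    · rw [← hcP]
      refine mem_nrm_smul.2 ?_
      rw [show c⁻¹ * (c * a * c⁻¹) * c = a by group]
      exact ha.1
    · have h1 : a * z' = z' * a := Subgroup.mem_centralizer_singleton_iff.1 ha.2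
      refine Subgroup.mem_centralizer_singleton_iff.2 ?_
      exact (Commute.mul_left (Commute.mul_left (show Commute c z' from hcz) h1)
        (show Commute c z' from hcz).inv_left).eq
  exact hne (hcP.symm.trans (mem_nrm.1 hcS.1))

theorem exists_common_inverts (hG : Nat.card G = 7920) {R P : Sylow 3 G} (h : Adj R P) :
    ∃ z, Inverts z R ∧ Inverts z P := by
  obtain ⟨hne, h8⟩ := h
  set X := nrm R ⊓ nrm P with hXd
  obtain ⟨z, hz, hle⟩ := exists_twoSub_ge hG (inf_le_left : X ≤ nrm R) (by rw [h8]; norm_num)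
  obtain ⟨z', hz', hle'⟩ := exists_twoSub_ge hG (inf_le_right : X ≤ nrm P) (by rw [h8]; norm_num)
  obtain ⟨g, hg, hg2⟩ : ∃ g ∈ X, g * g ≠ 1 := by
    by_contra! hall
    have h6 : 6 ≤ ((X : Set G) \ {1, z}).ncard := by
      have h1 := Set.ncard_le_ncard_sdiff_add_ncard (X : Set G) {1, z} (Set.toFinite _)
      have h2 : ({1, z} : Set G).ncard ≤ 2 := (Set.ncard_insert_le _ _).trans (by simp)
      have h3 : (X : Set G).ncard = 8 := (Nat.card_coe_set_eq _).symm.trans h8
      omega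
    have hsub : ((X : Set G) \ {1, z}) ⊆ {i ∈ (twoSub R z : Set G) | i * i = 1 ∧ i ≠ 1 ∧ i ≠ z} := by
      rintro i ⟨hi, hi'⟩
      simp only [Set.mem_insert_iff, Set.mem_singleton_iff, not_or] at hi'
      exact ⟨hle hi, hall i hi, hi'.1, hi'.2⟩
    have := (Set.ncard_le_ncard hsub (Set.toFinite _)).trans (involutions_le hG hz)
    omega
  obtain ⟨k, hk, hk2, hk4⟩ : ∃ k ∈ X, k * k ≠ 1 ∧ k * k * (k * k) = 1 := by
    by_cases h4 : g * g * (g * g) = 1
    · exact ⟨g, hg, hg2, h4⟩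
    refine ⟨g * g, X.mul_mem hg hg, h4, ?_⟩
    have : g ^ 8 = 1 := orderOf_dvd_iff_pow_eq_one.1 (h8 ▸ Subgroup.orderOf_dvd_natCard X hg)
    rw [← this]; simp only [pow_succ, pow_zero, one_mul, mul_assoc]
  have e := square_cases hG hz (hle hk) hk4 hk2
  have e' := square_cases hG hz' (hle' hk) hk4 hk2
  exact ⟨z, hz, e.symm.trans e' ▸ hz'⟩

theorem inverts_ncard_mul (hG : Nat.card G = 7920) {R : Sylow 3 G} {z : G} (hz : Inverts z R) :
    {P : Sylow 3 G | Inverts z P}.ncard * 16 = Nat.card ↥(Subgroup.centralizer ({z} : Set G)) := by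
  have h := ncard_smul_orbit (Subgroup.centralizer ({z} : Set G)) R
  rw [nrm_smul_stabilizer, inf_comm] at h
  change _ * Nat.card ↥(twoSub R z) = _ at h
  rw [card_twoSub hG hz] at h
  rw [← h]
  congr 2
  ext P
  constructor
  · intro hP
    obtain ⟨c, hc, he⟩ := exists_centralizer_smul hG hz hP
    exact ⟨⟨c, Subgroup.mem_centralizer_singleton_iff.2 hc⟩, he⟩
  · rintro ⟨⟨c, hc⟩, rfl⟩
    have e : c * z * c⁻¹ = z := by rw [Subgroup.mem_centralizer_singleton_iff.1 hc, mul_inv_cancel_right]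
    have h := hz.conj c
    rw [e] at h
    exact h

/-- The translates of the subgroups inverted by `z`. -/
def star (R : Sylow 3 G) (z : G) : Set (Sylow 3 G) :=
  (fun p : G × Sylow 3 G => p.1 • p.2) '' (((R : Subgroup G) : Set G) ×ˢ ({P | Inverts z P} \ {R}))

theorem star_domain_ncard (hG : Nat.card G = 7920) {R : Sylow 3 G} {z : G} (hz : Inverts z R) :
    (((R : Subgroup G) : Set G) ×ˢ ({P | Inverts z P} \ {R})).ncard = 9 * ({P | Inverts z P}.ncard - 1) := by
  rw [Set.ncard_prod, Set.ncard_sdiff (Set.singleton_subset_iff.2 (show R ∈ {P : Sylow 3 G | Inverts z P} from hz)), Set.ncard_singleton]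
  congr 1
  exact (Nat.card_coe_set_eq _).symm.trans (card_three hG R)

theorem adj_subset_star (hG : Nat.card G = 7920) {R : Sylow 3 G} {z : G} (hz : Inverts z R) :
    {P | Adj R P} ⊆ star R z := by
  intro P hP
  obtain ⟨z', hz', hzP⟩ := exists_common_inverts hG hP
  obtain ⟨t, ht, rfl⟩ := inverts_unique hG hz hz'
  refine ⟨(t, t⁻¹ • P), ⟨ht, ?_, ?_⟩, smul_inv_smul t P⟩
  · have h := hzP.conj t⁻¹
    rwa [show t⁻¹ * (t * z * t⁻¹) * t⁻¹⁻¹ = z by group] at h
  · rintro (e : t⁻¹ • P = R)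
    exact hP.1 (by rw [← three_smul_self ht, ← e, smul_inv_smul])

theorem orbit_ncard_adj (hG : Nat.card G = 7920) {R P : Sylow 3 G} (h : Adj R P) :
    (Set.range fun k : ↥(nrm R) => (k : G) • P).ncard = 18 := by
  have h1 := ncard_smul_orbit (nrm R) P
  rw [nrm_smul_stabilizer, h.2, three_normalizer hG R] at h1
  omega

theorem orbit_ncard_other (hG : Nat.card G = 7920) {R P : Sylow 3 G} (hne : P ≠ R) (h : ¬ Adj R P) :
    36 ∣ (Set.range fun k : ↥(nrm R) => (k : G) • P).ncard := by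
  have h1 := ncard_smul_orbit (nrm R) P
  rw [nrm_smul_stabilizer, three_normalizer hG R] at h1
  have h4 : Nat.card ↥(nrm R ⊓ nrm P) ∣ 4 := by
    have : ∀ j ∈ Nat.divisors 16, j ≠ 16 → j ≠ 8 → j ∣ 4 := by decide +kernel
    exact this _ (Nat.mem_divisors.2 ⟨card_inf_nrm_dvd hG hne, by norm_num⟩) (card_inf_nrm_ne_sixteen hG hne)
      fun e => h ⟨hne.symm, e⟩
  obtain ⟨q, hq⟩ := h4
  refine ⟨q, ?_⟩
  have hpos : 0 < Nat.card ↥(nrm R ⊓ nrm P) := Nat.card_pos
  refine Nat.eq_of_mul_eq_mul_right hpos (h1.trans ?_)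
  rw [show 144 = 36 * 4 from rfl]
  nth_rw 1 [hq]
  ring

theorem adj_nrm_invariant {R P : Sylow 3 G} {k : G} (hk : k ∈ nrm R) (h : Adj R P) : Adj R (k • P) := by
  have := h.smul k
  rwa [mem_nrm.1 hk] at this

theorem adj_counts (hG : Nat.card G = 7920) {R : Sylow 3 G} {z : G} (hz : Inverts z R) :
    {P | Adj R P}.ncard = 18 ∧ {P | P ≠ R ∧ ¬ Adj R P}.ncard = 36 ∧ {P : Sylow 3 G | Inverts z P}.ncard = 3 := by
  have h18 : 18 ∣ {P | Adj R P}.ncard :=
    dvd_ncard_of_orbits (nrm R) (fun k hk P hP => adj_nrm_invariant hk hP) fun P hP => by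
      rw [orbit_ncard_adj hG hP]
  have h36 : 36 ∣ {P | P ≠ R ∧ ¬ Adj R P}.ncard := by
    refine dvd_ncard_of_orbits (nrm R) ?_ fun P hP => orbit_ncard_other hG hP.1 hP.2
    rintro k hk P ⟨h1, h2⟩
    refine ⟨fun e => h1 ?_, fun e => h2 ?_⟩
    · rw [← inv_smul_smul k P, e]
      exact mem_nrm.1 ((nrm R).inv_mem hk)
    · have := adj_nrm_invariant ((nrm R).inv_mem hk) e
      rwa [inv_smul_smul] at this
  have hsum : {P | Adj R P}.ncard + {P | P ≠ R ∧ ¬ Adj R P}.ncard = 54 := by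
    rw [← Set.ncard_union_eq (Set.disjoint_left.2 fun P hP hP' => hP'.2 hP) (Set.toFinite _) (Set.toFinite _)]
    have e : {P | Adj R P} ∪ {P | P ≠ R ∧ ¬ Adj R P} = ({R}ᶜ : Set (Sylow 3 G)) := by
      ext P
      simp only [Set.mem_union, Set.mem_ofPred_eq, Set.mem_compl_iff, Set.mem_singleton_iff]
      constructor
      · rintro (h | h)
        · exact h.1.symm
        · exact h.1
      · intro h
        by_cases ha : Adj R P
        · exact Or.inl ha
        · exact Or.inr ⟨h, ha⟩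
    rw [e, Set.ncard_compl, Set.ncard_singleton, card_sylow_three hG]
  have hle : {P | Adj R P}.ncard ≤ 9 * ({P : Sylow 3 G | Inverts z P}.ncard - 1) :=
    star_domain_ncard hG hz ▸
      (Set.ncard_le_ncard (adj_subset_star hG hz) (Set.toFinite _)).trans (Set.ncard_image_le (Set.toFinite _))
  have hm := inverts_ncard_mul hG hz
  rcases centralizer_inverts_le hG hz with hc | hc <;> rw [hc] at hm <;> omega

theorem card_centralizer_inverts (hG : Nat.card G = 7920) {R : Sylow 3 G} {z : G} (hz : Inverts z R) :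
    Nat.card ↥(Subgroup.centralizer ({z} : Set G)) = 48 := by
  rw [← inverts_ncard_mul hG hz, (adj_counts hG hz).2.2]

theorem adj_eq_star (hG : Nat.card G = 7920) {R : Sylow 3 G} {z : G} (hz : Inverts z R) :
    {P | Adj R P} = star R z := by
  obtain ⟨h1, -, h3⟩ := adj_counts hG hz
  refine Set.eq_of_subset_of_ncard_le (adj_subset_star hG hz) ?_ (Set.toFinite _)
  rw [h1]
  refine (Set.ncard_image_le (Set.toFinite _)).trans ?_
  rw [star_domain_ncard hG hz, h3]

theorem star_injOn (hG : Nat.card G = 7920) {R : Sylow 3 G} {z : G} (hz : Inverts z R) :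
    Set.InjOn (fun p : G × Sylow 3 G => p.1 • p.2)
      (((R : Subgroup G) : Set G) ×ˢ ({P | Inverts z P} \ {R})) := by
  refine Set.injOn_of_ncard_image_eq ?_ (Set.toFinite _)
  show (star R z).ncard = _
  rw [← adj_eq_star hG hz, (adj_counts hG hz).1, star_domain_ncard hG hz, (adj_counts hG hz).2.2]

theorem adj_of_inverts (hG : Nat.card G = 7920) {R P : Sylow 3 G} {z : G} (hz : Inverts z R) (hzP : Inverts z P)
    (hne : P ≠ R) : Adj R P := by
  show P ∈ {Q | Adj R Q}
  rw [adj_eq_star hG hz]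
  exact ⟨(1, P), ⟨(R : Subgroup G).one_mem, hzP, hne⟩, one_smul G P⟩

theorem adj_transitive (hG : Nat.card G = 7920) {R P Q : Sylow 3 G} (hP : Adj R P) (hQ : Adj R Q) :
    ∃ k ∈ nrm R, k • P = Q := by
  obtain ⟨z, hz, -⟩ := exists_common_inverts hG hP
  have he : (Set.range fun k : ↥(nrm R) => (k : G) • P) = {Q | Adj R Q} := by
    refine Set.eq_of_subset_of_ncard_le ?_ ?_ (Set.toFinite _)
    · rintro _ ⟨k, rfl⟩
      exact adj_nrm_invariant k.2 hP
    · rw [(adj_counts hG hz).1, orbit_ncard_adj hG hP]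
  obtain ⟨⟨k, hk⟩, hkQ⟩ : Q ∈ Set.range fun k : ↥(nrm R) => (k : G) • P := he ▸ hQ
  exact ⟨k, hk, hkQ⟩

theorem other_transitive (hG : Nat.card G = 7920) {R P Q : Sylow 3 G} (hP1 : P ≠ R) (hP : ¬ Adj R P)
    (hQ1 : Q ≠ R) (hQ : ¬ Adj R Q) : ∃ k ∈ nrm R, k • P = Q := by
  obtain ⟨z, hz⟩ := exists_inverts hG R
  set O := Set.range fun k : ↥(nrm R) => (k : G) • P with hO
  have he : O = {Q | Q ≠ R ∧ ¬ Adj R Q} := by
    refine Set.eq_of_subset_of_ncard_le ?_ ?_ (Set.toFinite _)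
    · rintro _ ⟨⟨k, hk⟩, rfl⟩
      refine ⟨fun e => hP1 ?_, fun e => hP ?_⟩
      · have e' : k • P = R := e
        rw [← inv_smul_smul k P, e']
        exact mem_nrm.1 ((nrm R).inv_mem hk)
      · have := adj_nrm_invariant ((nrm R).inv_mem hk) e
        rwa [show k⁻¹ • (k • P) = P from inv_smul_smul k P] at this
    · rw [(adj_counts hG hz).2.1]
      exact Nat.le_of_dvd ((Set.ncard_pos (Set.toFinite _)).2 ⟨_, ⟨1, rfl⟩⟩) (orbit_ncard_other hG hP1 hP)
  obtain ⟨⟨k, hk⟩, hkQ⟩ : Q ∈ O := he ▸ (show Q ∈ {Q | Q ≠ R ∧ ¬ Adj R Q} from ⟨hQ1, hQ⟩)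
  exact ⟨k, hk, hkQ⟩

/-- An involution inverting two given Sylow three-subgroups is unique. -/
theorem inverts_pair_unique (hG : Nat.card G = 7920) {R P : Sylow 3 G} {z z' : G} (hne : P ≠ R)
    (hz : Inverts z R) (hzP : Inverts z P) (hz' : Inverts z' R) (hz'P : Inverts z' P) : z' = z := by
  obtain ⟨t, ht, rfl⟩ := inverts_unique hG hz hz'
  have h := hz'P.conj t⁻¹
  rw [show t⁻¹ * (t * z * t⁻¹) * t⁻¹⁻¹ = z by group] at h
  have hne' : t⁻¹ • P ≠ R := fun e => hne (by rw [← three_smul_self ht, ← e, smul_inv_smul])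
  have h2 := @star_injOn G _ _ _ hG R z hz (t, t⁻¹ • P) ⟨ht, h, hne'⟩ (1, P)
    ⟨(R : Subgroup G).one_mem, hzP, hne⟩ (by simp only [smul_inv_smul, one_smul])
  have ht1 : t = 1 := congrArg Prod.fst h2
  rw [ht1]
  group

/-- The third Sylow subgroup inverted with two given ones, with a symmetry of order three. -/
theorem exists_triangle (hG : Nat.card G = 7920) {R : Sylow 3 G} {z : G} (hz : Inverts z R) :
    ∃ y : G, orderOf y = 3 ∧ y * z = z * y ∧ y • R ≠ R ∧ y • y • R ≠ R ∧ y • y • R ≠ y • R ∧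
      y • y • y • R = R ∧ {P : Sylow 3 G | Inverts z P} = {R, y • R, y • y • R} := by
  obtain ⟨⟨y, hy⟩, hyo⟩ := exists_prime_orderOf_dvd_card' (G := ↥(Subgroup.centralizer ({z} : Set G))) 3
    (by rw [card_centralizer_inverts hG hz]; norm_num)
  rw [← Subgroup.orderOf_coe] at hyo
  change orderOf y = 3 at hyo
  have hyz : y * z = z * y := Subgroup.mem_centralizer_singleton_iff.1 hy
  have hy3 : y * y * y = 1 := by
    rw [← pow_two, ← pow_succ]
    show y ^ 3 = 1
    rw [← hyo, pow_orderOf_eq_one]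
  have hne : y • R ≠ R := fun e => by
    have hyR : y ∈ (R : Subgroup G) := mem_three_of_normalizer R (k := 1) (mem_nrm.2 e) (by
      rw [pow_one, ← hyo, pow_orderOf_eq_one])
    have := inf_inverts_three hG hz hyR hyz.symm
    rw [this, orderOf_one] at hyo
    omega
  have h3 : y • y • y • R = R := by rw [← mul_smul, ← mul_smul, hy3, one_smul]
  have hne2 : y • y • R ≠ R := fun e => hne (by nth_rw 1 [← e]; exact h3)
  have hne3 : y • y • R ≠ y • R := fun e => hne (smul_left_cancel y e)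
  have hinv : ∀ P : Sylow 3 G, Inverts z P → Inverts z (y • P) := fun P hP => by
    have := hP.conj y
    rwa [hyz, mul_inv_cancel_right] at this
  refine ⟨y, hyo, hyz, hne, hne2, hne3, h3, (Set.eq_of_subset_of_ncard_le ?_ ?_ (Set.toFinite _)).symm⟩
  · rintro P (rfl | rfl | rfl)
    · exact hz
    · exact hinv _ hz
    · exact hinv _ (hinv _ hz)
  · rw [(adj_counts hG hz).2.2, Set.ncard_insert_of_notMem (by simp [hne.symm, hne2.symm]), Set.ncard_pair hne3.symm]

theorem inf_nrm_le_centralizer (hG : Nat.card G = 7920) {R P : Sylow 3 G} {z k : G} (hne : P ≠ R)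
    (hz : Inverts z R) (hzP : Inverts z P) (hk : k ∈ nrm R ⊓ nrm P) : k * z = z * k :=
  mul_inv_eq_iff_eq_mul.1 (inverts_pair_unique hG hne hz hzP (mem_nrm.1 hk.1 ▸ hz.conj k)
    (mem_nrm.1 hk.2 ▸ hzP.conj k))

theorem inf_nrm_smul_third (hG : Nat.card G = 7920) {R : Sylow 3 G} {z y : G} (hz : Inverts z R)
    (hne : y • R ≠ R) (hne2 : y • y • R ≠ R) (hne3 : y • y • R ≠ y • R)
    (hZ : {P : Sylow 3 G | Inverts z P} = {R, y • R, y • y • R}) {k : G}
    (hk : k ∈ nrm R ⊓ nrm (y • R)) : k • y • y • R = y • y • R := by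
  have hyR : Inverts z (y • R) := by
    have : y • R ∈ {P : Sylow 3 G | Inverts z P} := hZ ▸ by simp
    exact this
  have hy2 : Inverts z (y • y • R) := by
    have : y • y • R ∈ {P : Sylow 3 G | Inverts z P} := hZ ▸ by simp
    exact this
  have hkz := inf_nrm_le_centralizer hG hne hz hyR hk
  have hm : k • y • y • R ∈ {P : Sylow 3 G | Inverts z P} := by
    have h := hy2.conj k
    rwa [hkz, mul_inv_cancel_right] at h
  rw [hZ] at hm
  rcases hm with e | e | e
  · exact absurd (smul_left_cancel k (e.trans (mem_nrm.1 hk.1).symm)) hne2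
  · exact absurd (smul_left_cancel k (e.trans (mem_nrm.1 hk.2).symm)) hne3
  · exact e

/-- In the stabiliser of two adjacent points there is only one involution. -/
theorem involution_inf_nrm (hG : Nat.card G = 7920) {R P : Sylow 3 G} {z : G} (hne : P ≠ R) (hz : Inverts z R)
    (hzP : Inverts z P) {s : G} (hs : s ∈ nrm R ⊓ nrm P) (h2 : s * s = 1) (h1 : s ≠ 1) : s = z := by
  obtain ⟨y, hyo, hyz, hy1, hy2, hy3, hy4, hZ⟩ := exists_triangle hG hz
  have hPc : P = y • R ∨ P = y • y • R := by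
    have : P ∈ {Q : Sylow 3 G | Inverts z Q} := hzP
    rw [hZ] at this
    exact this.resolve_left hne
  set T := nrm R ⊓ nrm (y • R) with hT
  have hsT : s ∈ T := by
    rcases hPc with rfl | rfl
    · exact hs
    · refine ⟨hs.1, mem_nrm.2 ?_⟩
      have hkz := inf_nrm_le_centralizer hG hne hz hzP hs
      have hm : s • y • R ∈ {Q : Sylow 3 G | Inverts z Q} := by
        have hyR : Inverts z (y • R) := by
          have : y • R ∈ {Q : Sylow 3 G | Inverts z Q} := hZ ▸ by simp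
          exact this
        have h := hyR.conj s
        rwa [hkz, mul_inv_cancel_right] at h
      rw [hZ] at hm
      rcases hm with e | e | e
      · exact absurd (smul_left_cancel s (e.trans (mem_nrm.1 hs.1).symm)) hy1
      · exact e
      · exact absurd (smul_left_cancel s (e.trans (mem_nrm.1 hs.2).symm)) hy3.symm
  have hadj : Adj R (y • R) := by
    refine adj_of_inverts hG hz ?_ hy1
    have : y • R ∈ {Q : Sylow 3 G | Inverts z Q} := hZ ▸ by simp
    exact this
  have hzI : ∀ a ∈ T, a * z = z * a := fun a ha => by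
    have hyR : Inverts z (y • R) := by
      have : y • R ∈ {Q : Sylow 3 G | Inverts z Q} := hZ ▸ by simp
      exact this
    exact inf_nrm_le_centralizer hG hy1 hz hyR ha
  have hzT : z ∈ T := by
    refine ⟨hz.2.2.1, ?_⟩
    have : y • R ∈ {Q : Sylow 3 G | Inverts z Q} := hZ ▸ by simp
    exact this.2.2.1
  have hyT : ∀ a ∈ T, y * a * y⁻¹ ∈ T := fun a ha => by
    have h3 := inf_nrm_smul_third hG hz hy1 hy2 hy3 hZ ha
    refine ⟨mem_nrm.2 ?_, mem_nrm_smul.2 ?_⟩
    · nth_rw 1 [← hy4]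
      rw [mul_smul, mul_smul, inv_smul_smul, h3, hy4]
    · simpa [mul_assoc] using ha.1
  set I := {i ∈ (T : Set G) | i * i = 1 ∧ i ≠ 1 ∧ i ≠ z} with hI
  have hI4 : I.ncard ≤ 4 := by
    refine le_trans (Set.ncard_le_ncard ?_ (Set.toFinite _)) (involutions_le hG hz)
    rintro i ⟨hi, h⟩
    exact ⟨⟨hi.1, Subgroup.mem_centralizer_singleton_iff.2 (hzI i hi)⟩, h⟩
  have hI2 : 2 ∣ I.ncard := by
    refine dvd_ncard_of_moved (α := G) (x := z) (k := 1) (by rw [pow_one, pow_two]; exact hz.1) ?_ ?_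
    · rintro i ⟨hi, hii, hi1, hiz⟩
      refine ⟨T.mul_mem hzT hi, ?_, ?_, ?_⟩
      · show z * i * (z * i) = 1
        rw [show z * i * (z * i) = z * (i * z) * i by group, hzI i hi, ← mul_assoc, hz.1, one_mul, hii]
      · exact fun e => hiz ((eq_inv_of_mul_eq_one_right e).trans hz.inv_eq)
      · exact fun e => hi1 (mul_left_cancel (e.trans (mul_one z).symm))
    · exact fun i _ e => hz.2.1 (mul_right_cancel (e.trans (one_mul i).symm))
  have hI3 : 3 ∣ I.ncard := by
    refine dvd_ncard_conj (x := y) (k := 1) (by rw [pow_one, ← hyo, pow_orderOf_eq_one]) ?_ ?_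
    · rintro i ⟨hi, hii, hi1, hiz⟩
      refine ⟨hyT i hi, ?_, fun e => hi1 (by simpa using e), fun e => hiz ?_⟩
      · rw [show y * i * y⁻¹ * (y * i * y⁻¹) = y * (i * i) * y⁻¹ by group, hii]; group
      · calc i = y⁻¹ * (y * i * y⁻¹) * y := by group
          _ = y⁻¹ * (z * y) := by rw [e, mul_assoc]
          _ = z := by rw [← hyz, inv_mul_cancel_left]
    · rintro i ⟨hi, hii, hi1, hiz⟩ hyi
      set F := T ⊓ Subgroup.centralizer ({y} : Set G) with hF
      obtain ⟨Q, hQ⟩ : ∃ Q : Sylow 3 G, Subgroup.zpowers y ≤ (Q : Subgroup G) :=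
        IsPGroup.exists_le_sylow (IsPGroup.of_card (p := 3) (n := 1) (by rw [Nat.card_zpowers, hyo, pow_one]))
      have hy1' : y ≠ 1 := fun e => by rw [e, orderOf_one] at hyo; omega
      have hd : Nat.card ↥F ∣ 18 := (nOrbit_eight hG Q (hQ (Subgroup.mem_zpowers y)) hy1').2 ▸
        Subgroup.card_dvd_of_le inf_le_right
      have hd8 : Nat.card ↥F ∣ 8 := hadj.2 ▸ Subgroup.card_dvd_of_le inf_le_left
      have hle := Nat.le_of_dvd (by norm_num) (Nat.dvd_gcd hd hd8)
      rw [show Nat.gcd 18 8 = 2 by decide] at hle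
      have hsub : ({1, z, i} : Set G) ⊆ (F : Set G) := by
        rintro a (rfl | rfl | rfl)
        · exact one_mem _
        · exact ⟨hzT, Subgroup.mem_centralizer_singleton_iff.2 hyz.symm⟩
        · exact ⟨hi, Subgroup.mem_centralizer_singleton_iff.2 hyi.symm⟩
      have h := Set.ncard_le_ncard hsub (Set.toFinite _)
      rw [Set.ncard_insert_of_notMem (by simp [hz.2.1.symm, hi1.symm]), Set.ncard_pair (Ne.symm hiz),
        ← Nat.card_coe_set_eq] at h
      change 2 + 1 ≤ Nat.card ↥F at h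
      omega
  by_contra hsz
  have : 0 < I.ncard := (Set.ncard_pos (Set.toFinite _)).2 ⟨s, hsT, h2, h1, hsz⟩
  omega

theorem inf_nrm_free (hG : Nat.card G = 7920) {R P : Sylow 3 G} {z : G} (hne : P ≠ R) (hz : Inverts z R)
    (hzP : Inverts z P) {s x : G} (hs : s ∈ nrm R ⊓ nrm P) (hx : x ∈ (R : Subgroup G)) (hx1 : x ≠ 1)
    (hsx : s * x = x * s) : s = 1 := by
  have key : ∀ u ∈ nrm R ⊓ nrm P, u * x = x * u → u * u = 1 → u = 1 := fun u hu hux hu2 => by
    by_contra hu1
    rw [involution_inf_nrm hG hne hz hzP hu hu2 hu1] at hux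
    exact hx1 (inf_inverts_three hG hz hx hux)
  set X := nrm R ⊓ nrm P
  have h8 : s ^ 8 = 1 :=
    orderOf_dvd_iff_pow_eq_one.1 ((adj_of_inverts hG hz hzP hne).2 ▸ Subgroup.orderOf_dvd_natCard X hs)
  have c2 : Commute (s * s) x := (show Commute s x from hsx).mul_left hsx
  have h4 : s * s * (s * s) = 1 :=
    key _ (X.mul_mem (X.mul_mem hs hs) (X.mul_mem hs hs)) (c2.mul_left c2).eq (by rw [← h8]; simp only [pow_succ, pow_zero, one_mul, mul_assoc])
  exact key s hs hsx (key _ (X.mul_mem hs hs) c2.eq h4)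

theorem inf_nrm_transitive (hG : Nat.card G = 7920) {R P : Sylow 3 G} {z : G} (hne : P ≠ R) (hz : Inverts z R)
    (hzP : Inverts z P) {x x' : G} (hx : x ∈ (R : Subgroup G)) (hx1 : x ≠ 1) (hx' : x' ∈ (R : Subgroup G))
    (hx1' : x' ≠ 1) : ∃ s ∈ nrm R ⊓ nrm P, s * x * s⁻¹ = x' := by
  set X := nrm R ⊓ nrm P with hX
  have h := ncard_conj_orbit X x
  have hb : X ⊓ Subgroup.centralizer ({x} : Set G) = ⊥ := by
    rw [Subgroup.eq_bot_iff_forall]
    exact fun s hs => inf_nrm_free hG hne hz hzP hs.1 hx hx1 (Subgroup.mem_centralizer_singleton_iff.1 hs.2)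
  rw [hb, Subgroup.card_bot, mul_one, (adj_of_inverts hG hz hzP hne).2] at h
  have he : (Set.range fun k : X => (k : G) * x * (k : G)⁻¹) = ((R : Subgroup G) : Set G) \ {1} := by
    refine Set.eq_of_subset_of_ncard_le ?_ ?_ (Set.toFinite _)
    · rintro _ ⟨⟨k, hk⟩, rfl⟩
      exact ⟨(Subgroup.mem_normalizer_iff.1 hk.1 x).1 hx, fun e => hx1 (by simpa using e)⟩
    · rw [h, Set.ncard_sdiff (Set.singleton_subset_iff.2 (R : Subgroup G).one_mem), Set.ncard_singleton,
        show ((R : Subgroup G) : Set G).ncard = 9 from (Nat.card_coe_set_eq _).symm.trans (card_three hG R)]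
  obtain ⟨⟨k, hk⟩, hke⟩ : x' ∈ Set.range fun k : X => (k : G) * x * (k : G)⁻¹ := by
    rw [he]; exact ⟨hx', hx1'⟩
  exact ⟨k, hk, hke⟩

end Cfsg.Lib.MathieuEleven
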