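import Cfsg.Agent.Recognition.MathieuEleven.ThreeSelf

/-!
A Sylow two-subgroup inside the normaliser of a Sylow three-subgroup, and the centraliser of its centre.
-/

set_option autoImplicit false

namespace Cfsg.Lib.MathieuEleven

open MulAction Cfsg.Lib.Small
open scoped Pointwise IsMulCommutative

variable {G : Type*} [Group G] [Finite G] [IsSimpleGroup G]

local instance fact_five3 : Fact (Nat.Prime 5) := ⟨by norm_num⟩

/-- An involution inverting every element of the Sylow three-subgroup `R`. -/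
def Inverts (z : G) (R : Sylow 3 G) : Prop :=
  z * z = 1 ∧ z ≠ 1 ∧ z ∈ Subgroup.normalizer ((R : Subgroup G) : Set G) ∧
    ∀ a ∈ (R : Subgroup G), z * a * z = a⁻¹

omit [Finite G] [IsSimpleGroup G] in
theorem Inverts.orderOf_two {z : G} {R : Sylow 3 G} (h : Inverts z R) : orderOf z = 2 :=
  orderOf_eq_prime (by rw [pow_two]; exact h.1) h.2.1

omit [Finite G] [IsSimpleGroup G] in
theorem Inverts.inv_eq {z : G} {R : Sylow 3 G} (h : Inverts z R) : z⁻¹ = z :=
  inv_eq_of_mul_eq_one_right h.1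

theorem two_not_dvd_three (hG : Nat.card G = 7920) (R : Sylow 3 G) {a : G} (ha : a ∈ (R : Subgroup G))
    (h : a * a = 1) : a = 1 := by
  by_contra h1
  have h2 : orderOf a ∣ 2 := orderOf_dvd_of_pow_eq_one (by rw [pow_two]; exact h)
  rw [exponent_three hG R ha h1] at h2
  omega

theorem Inverts.conj {z : G} {R : Sylow 3 G} (h : Inverts z R) (g : G) : Inverts (g * z * g⁻¹) (g • R) := by
  obtain ⟨h1, h2, h3, h4⟩ := h
  refine ⟨?_, fun e => h2 (by simpa using e), ?_, ?_⟩
  · rw [show g * z * g⁻¹ * (g * z * g⁻¹) = g * (z * z) * g⁻¹ by group, h1]; group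
  · refine mem_normalizer_of_conj_le fun a ha => ?_
    have ha' : a ∈ MulAut.conj g • (R : Subgroup G) := ha
    rw [Subgroup.mem_pointwise_smul_iff_inv_smul_mem, ← map_inv, MulAut.smul_def, MulAut.conj_apply, inv_inv] at ha'
    have := Subgroup.smul_mem_pointwise_smul _ (MulAut.conj g) _ ((Subgroup.mem_normalizer_iff.1 h3 _).1 ha')
    rw [MulAut.smul_def, MulAut.conj_apply] at this
    show g * z * g⁻¹ * a * (g * z * g⁻¹)⁻¹ ∈ MulAut.conj g • (R : Subgroup G)
    convert this using 1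
    group
  · intro a ha
    have ha' : a ∈ MulAut.conj g • (R : Subgroup G) := ha
    rw [Subgroup.mem_pointwise_smul_iff_inv_smul_mem, ← map_inv, MulAut.smul_def, MulAut.conj_apply, inv_inv] at ha'
    calc g * z * g⁻¹ * a * (g * z * g⁻¹) = g * (z * (g⁻¹ * a * g) * z) * g⁻¹ := by group
      _ = g * (g⁻¹ * a * g)⁻¹ * g⁻¹ := by rw [h4 _ ha']
      _ = a⁻¹ := by group

theorem exists_inverts (hG : Nat.card G = 7920) (R : Sylow 3 G) : ∃ z, Inverts z R := by
  have hRc := card_three hG R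
  set N := Subgroup.normalizer ((R : Subgroup G) : Set G) with hNd
  have hN : Nat.card ↥N = 144 := three_normalizer hG R
  have : Fact (Nat.Prime 2) := ⟨Nat.prime_two⟩
  obtain ⟨S0⟩ : Nonempty (Sylow 2 ↥N) := Sylow.nonempty
  set S := (S0 : Subgroup ↥N).map N.subtype with hSd
  have hSc : Nat.card ↥S = 16 := by
    rw [hSd, Subgroup.card_map_of_injective N.subtype_injective]
    simpa using card_sylow_of_factor S0 (a := 4) (m := 9) (by rw [hN]; norm_num) (by norm_num)
  have hSN : S ≤ N := Subgroup.map_subtype_le _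
  obtain ⟨⟨i, hiS⟩, hio⟩ := exists_prime_orderOf_dvd_card' (G := ↥S) 2 (by rw [hSc]; norm_num)
  rw [← Subgroup.orderOf_coe] at hio
  change orderOf i = 2 at hio
  obtain ⟨z, hzS, hzo, hzc⟩ := exists_fixed_involution (C := S)
    (IsPGroup.of_card (p := 2) (n := 4) (by rw [hSc]; norm_num))
    (fun s hs a ha => S.mul_mem (S.mul_mem hs ha) (S.inv_mem hs)) hiS hiS (fun e => by simp [e] at hio)
  have hz2 : z * z = 1 := by rw [← pow_two, ← hzo, pow_orderOf_eq_one]
  have hzinv : z⁻¹ = z := inv_eq_of_mul_eq_one_right hz2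
  have hzn : ∀ a ∈ (R : Subgroup G), z * a * z ∈ (R : Subgroup G) := fun a ha => by
    have := (Subgroup.mem_normalizer_iff.1 (hSN hzS) a).1 ha
    rwa [hzinv] at this
  refine ⟨z, hz2, fun e => by simp [e] at hzo, hSN hzS, fun a ha =>
    eq_inv_of_fpf hz2 (isMulCommutative_three hG R) hzn (fun b hb hzb => ?_) ha⟩
  by_contra hb1
  -- `S` fixes the subgroup of fixed points of `z` in `R`
  have hsub : ∀ s ∈ S, s * b * s⁻¹ ∈ (R : Subgroup G) ⊓ Subgroup.centralizer ({z} : Set G) := by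
    intro s hs
    refine ⟨(Subgroup.mem_normalizer_iff.1 (hSN hs) b).1 hb, Subgroup.mem_centralizer_singleton_iff.2 ?_⟩
    have hsz : s * z * s⁻¹ = z := by rw [hzc s hs, mul_inv_cancel_right]
    calc s * b * s⁻¹ * z = s * b * s⁻¹ * (s * z * s⁻¹) := by rw [hsz]
      _ = s * (b * z) * s⁻¹ := by group
      _ = s * (z * b) * s⁻¹ := by rw [hzb]
      _ = (s * z * s⁻¹) * (s * b * s⁻¹) := by group
      _ = z * (s * b * s⁻¹) := by rw [hsz]
  set F := (R : Subgroup G) ⊓ Subgroup.centralizer ({z} : Set G) with hFd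
  have hFd9 : Nat.card ↥F ∣ 9 := hRc ▸ Subgroup.card_dvd_of_le inf_le_left
  have hF3 : Nat.card ↥F ≤ 3 := by
    have hne : Nat.card ↥F ≠ 9 := fun e => by
      have hRF : (R : Subgroup G) ≤ Subgroup.centralizer ({z} : Set G) := by
        rw [← Subgroup.eq_of_le_of_card_ge (inf_le_left : F ≤ _) (by rw [e, hRc])]
        exact inf_le_right
      have hzR : z ∈ (R : Subgroup G) := by
        rw [← three_self_centralizing hG R, Subgroup.mem_centralizer_iff]
        exact fun c hc => Subgroup.mem_centralizer_singleton_iff.1 (hRF hc)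
      exact (fun e => by simp [e] at hzo : z ≠ 1) (two_not_dvd_three hG R hzR hz2)
    have : ∀ j ∈ Nat.divisors 9, j ≠ 9 → j ≤ 3 := by decide +kernel
    exact this _ (Nat.mem_divisors.2 ⟨hFd9, by norm_num⟩) hne
  have horb : (Set.range fun k : ↥S => (k : G) * b * (k : G)⁻¹).ncard ≤ 2 := by
    have hle : ((F : Set G) \ {1}).ncard ≤ 2 := by
      rw [Set.ncard_sdiff (Set.singleton_subset_iff.2 F.one_mem), Set.ncard_singleton, ← Nat.card_coe_set_eq]
      show Nat.card ↥F - 1 ≤ 2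
      omega
    refine le_trans (Set.ncard_le_ncard ?_ (Set.toFinite _)) hle
    rintro _ ⟨k, rfl⟩
    exact ⟨hsub k k.2, fun e => hb1 (by simpa using e)⟩
  have hmul := ncard_conj_orbit S b
  have hdiv : Nat.card ↥(S ⊓ Subgroup.centralizer ({b} : Set G)) ∣ 18 :=
    (nOrbit_eight hG R hb hb1).2 ▸ Subgroup.card_dvd_of_le inf_le_right
  have hd16 : Nat.card ↥(S ⊓ Subgroup.centralizer ({b} : Set G)) ∣ 16 := hSc ▸ Subgroup.card_dvd_of_le inf_le_left
  have hle2 := Nat.le_of_dvd (by norm_num) (Nat.dvd_gcd hdiv hd16)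
  rw [show Nat.gcd 18 16 = 2 by decide] at hle2
  rw [hSc] at hmul
  nlinarith

theorem inf_inverts_three (hG : Nat.card G = 7920) {R : Sylow 3 G} {z : G} (hz : Inverts z R) {a : G}
    (ha : a ∈ (R : Subgroup G)) (hc : z * a = a * z) : a = 1 := by
  refine two_not_dvd_three hG R ha ?_
  have h := hz.2.2.2 a ha
  rw [hc, mul_assoc, hz.1, mul_one] at h
  nth_rw 1 [h]
  exact inv_mul_cancel a

theorem inverts_unique (hG : Nat.card G = 7920) {R : Sylow 3 G} {z z' : G} (hz : Inverts z R) (hz' : Inverts z' R) :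
    ∃ t ∈ (R : Subgroup G), z' = t * z * t⁻¹ := by
  have hr : z' * z ∈ (R : Subgroup G) := by
    rw [← three_self_centralizing hG R, Subgroup.mem_centralizer_iff]
    intro b hb
    have e : z' * z * b * (z' * z)⁻¹ = b := by
      calc z' * z * b * (z' * z)⁻¹ = z' * (z * b * z) * z' := by rw [mul_inv_rev, hz.inv_eq, hz'.inv_eq]; group
        _ = z' * b⁻¹ * z' := by rw [hz.2.2.2 b hb]
        _ = b := by rw [hz'.2.2.2 _ ((R : Subgroup G).inv_mem hb), inv_inv]
    exact (mul_inv_eq_iff_eq_mul.1 e).symm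
  set r := z' * z with hrd
  have hr3 : r * r * r = 1 := by
    by_cases h1 : r = 1
    · rw [h1]; simp
    · rw [← pow_two, ← pow_succ]
      show r ^ 3 = 1
      rw [← exponent_three hG R hr h1, pow_orderOf_eq_one]
  have hz'e : z' = r * z := by rw [hrd, mul_assoc, hz.1, mul_one]
  refine ⟨r⁻¹, (R : Subgroup G).inv_mem hr, ?_⟩
  have h := hz.2.2.2 r hr
  calc z' = r * z := hz'e
    _ = r⁻¹ * r⁻¹ * (r * r * r) * z := by group
    _ = r⁻¹ * (z * r * z) * z := by rw [hr3, h, mul_one]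
    _ = r⁻¹ * z * r * (z * z) := by group
    _ = r⁻¹ * z * r⁻¹⁻¹ := by rw [hz.1, mul_one, inv_inv]

/-- The Sylow two-subgroup attached to an inverting involution. -/
def twoSub (R : Sylow 3 G) (z : G) : Subgroup G :=
  Subgroup.normalizer ((R : Subgroup G) : Set G) ⊓ Subgroup.centralizer ({z} : Set G)

theorem card_twoSub (hG : Nat.card G = 7920) {R : Sylow 3 G} {z : G} (hz : Inverts z R) :
    Nat.card ↥(twoSub R z) = 16 := by
  have hRc := card_three hG R
  set N := Subgroup.normalizer ((R : Subgroup G) : Set G) with hNd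
  have hN : Nat.card ↥N = 144 := three_normalizer hG R
  have h3 : ¬ 3 ∣ Nat.card ↥(twoSub R z) := by
    intro h
    have : Fact (Nat.Prime 3) := ⟨Nat.prime_three⟩
    obtain ⟨⟨a, ha⟩, hao⟩ := exists_prime_orderOf_dvd_card' 3 h
    rw [← Subgroup.orderOf_coe] at hao
    change orderOf a = 3 at hao
    have haR : a ∈ (R : Subgroup G) := mem_three_of_normalizer R (k := 1) ha.1 (by
      rw [pow_one, ← hao, pow_orderOf_eq_one])
    have := inf_inverts_three hG hz haR (Subgroup.mem_centralizer_singleton_iff.1 ha.2).symm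
    rw [this, orderOf_one] at hao
    omega
  have horb := ncard_conj_orbit N z
  change _ * Nat.card ↥(twoSub R z) = Nat.card ↥N at horb
  have hle : (Set.range fun k : ↥N => (k : G) * z * (k : G)⁻¹).ncard ≤ 9 := by
    have : (Set.range fun k : ↥N => (k : G) * z * (k : G)⁻¹) ⊆ (fun t => t * z * t⁻¹) '' ((R : Subgroup G) : Set G) := by
      rintro _ ⟨k, rfl⟩
      have hk : (k : G) • R = R := Sylow.smul_eq_iff_mem_normalizer.2 k.2
      obtain ⟨t, ht, he⟩ := inverts_unique hG hz (hk ▸ hz.conj (k : G))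
      exact ⟨t, ht, he.symm⟩
    refine ((Set.ncard_le_ncard this (Set.toFinite _)).trans (Set.ncard_image_le (Set.toFinite _))).trans ?_
    rw [← Nat.card_coe_set_eq]
    exact hRc.le
  have hd : Nat.card ↥(twoSub R z) ∣ 144 := hN ▸ Subgroup.card_dvd_of_le inf_le_left
  have hge : 16 ≤ Nat.card ↥(twoSub R z) := by rw [hN] at horb; nlinarith
  have : ∀ j ∈ Nat.divisors 144, ¬ 3 ∣ j → 16 ≤ j → j = 16 := by decide +kernel
  exact this _ (Nat.mem_divisors.2 ⟨hd, by norm_num⟩) h3 hge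

omit [Finite G] [IsSimpleGroup G] in
theorem mem_twoSub_self {R : Sylow 3 G} {z : G} (hz : Inverts z R) : z ∈ twoSub R z :=
  ⟨hz.2.2.1, Subgroup.mem_centralizer_singleton_iff.2 rfl⟩

theorem card_twoSub_fix (hG : Nat.card G = 7920) {R : Sylow 3 G} {z : G} (hz : Inverts z R) {x : G}
    (hx : x ∈ (R : Subgroup G)) (h1 : x ≠ 1) :
    Nat.card ↥(twoSub R z ⊓ Subgroup.centralizer ({x} : Set G)) = 2 := by
  set K := twoSub R z ⊓ Subgroup.centralizer ({x} : Set G) with hK
  have horb := ncard_conj_orbit (twoSub R z) x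
  rw [card_twoSub hG hz, ← hK] at horb
  have hle : (Set.range fun k : ↥(twoSub R z) => (k : G) * x * (k : G)⁻¹).ncard ≤ 8 := by
    refine le_trans (Set.ncard_le_ncard ?_ (Set.toFinite _)) (nOrbit_eight hG R hx h1).1.le
    rintro _ ⟨k, rfl⟩
    exact ⟨⟨k, k.2.1⟩, rfl⟩
  have hd : Nat.card ↥K ∣ 18 := (nOrbit_eight hG R hx h1).2 ▸ Subgroup.card_dvd_of_le inf_le_right
  have hd16 : Nat.card ↥K ∣ 16 := card_twoSub hG hz ▸ Subgroup.card_dvd_of_le inf_le_left
  have hle2 := Nat.le_of_dvd (by norm_num) (Nat.dvd_gcd hd hd16)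
  rw [show Nat.gcd 18 16 = 2 by decide] at hle2
  nlinarith

theorem twoSub_fix_eq (hG : Nat.card G = 7920) {R : Sylow 3 G} {z : G} (hz : Inverts z R) {x : G}
    (hx : x ∈ (R : Subgroup G)) (h1 : x ≠ 1) {a b : G} (ha : a ∈ twoSub R z) (hax : a * x = x * a)
    (hb : b ∈ twoSub R z) (hbx : b * x = x * b) (ha1 : a ≠ 1) (hb1 : b ≠ 1) : a = b := by
  by_contra hab
  have h : ({1, a, b} : Set G) ⊆ ((twoSub R z ⊓ Subgroup.centralizer ({x} : Set G) : Subgroup G) : Set G) := by
    rintro c (rfl | rfl | rfl)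
    · exact one_mem _
    · exact ⟨ha, Subgroup.mem_centralizer_singleton_iff.2 hax⟩
    · exact ⟨hb, Subgroup.mem_centralizer_singleton_iff.2 hbx⟩
  have h' := Set.ncard_le_ncard h (Set.toFinite _)
  rw [Set.ncard_insert_of_notMem (by simp [ha1.symm, hb1.symm]), Set.ncard_pair hab, ← Nat.card_coe_set_eq] at h'
  have e := card_twoSub_fix hG hz hx h1
  change 2 + 1 ≤ Nat.card ↥(twoSub R z ⊓ Subgroup.centralizer ({x} : Set G)) at h'
  omega

/-- The elements of `R` fixed by a non-trivial element of the two-group form one line. -/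
theorem fixed_line (hG : Nat.card G = 7920) {R : Sylow 3 G} {z : G} (hz : Inverts z R) {s : G}
    (hs : s ∈ twoSub R z) (hs1 : s ≠ 1) {x y : G} (hx : x ∈ (R : Subgroup G)) (hx1 : x ≠ 1)
    (hy : y ∈ (R : Subgroup G)) (hsx : s * x = x * s) (hsy : s * y = y * s) :
    y ∈ Subgroup.zpowers x := by
  by_contra hyx
  have hle : (R : Subgroup G) ≤ Subgroup.centralizer ({s} : Set G) := by
    rw [← zpowers_sup_eq hG R hx hx1 hy hyx]
    exact sup_le (Subgroup.zpowers_le.2 (Subgroup.mem_centralizer_singleton_iff.2 hsx.symm))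
      (Subgroup.zpowers_le.2 (Subgroup.mem_centralizer_singleton_iff.2 hsy.symm))
  have hsR : s ∈ (R : Subgroup G) := by
    rw [← three_self_centralizing hG R, Subgroup.mem_centralizer_iff]
    exact fun c hc => Subgroup.mem_centralizer_singleton_iff.1 (hle hc)
  exact hs1 (inf_inverts_three hG hz hsR (Subgroup.mem_centralizer_singleton_iff.1 hs.2).symm)

theorem square_cases (hG : Nat.card G = 7920) {R : Sylow 3 G} {z : G} (hz : Inverts z R) {g : G}
    (hg : g ∈ twoSub R z) (h4 : g * g * (g * g) = 1) (h2 : g * g ≠ 1) : g * g = z := by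
  by_contra hne
  set i := g * g with hi
  have hiS : i ∈ twoSub R z := (twoSub R z).mul_mem hg hg
  have hiinv : i⁻¹ = i := inv_eq_of_mul_eq_one_right h4
  have hin : ∀ a ∈ (R : Subgroup G), i * a * i ∈ (R : Subgroup G) := fun a ha => by
    have := (Subgroup.mem_normalizer_iff.1 hiS.1 a).1 ha
    rwa [hiinv] at this
  have hgi : g * i = i * g := by rw [hi, mul_assoc]
  obtain ⟨x, hx, hx1, hix⟩ : ∃ x ∈ (R : Subgroup G), x ≠ 1 ∧ i * x = x * i := by
    by_contra! hno
    have hinv : Inverts i R := ⟨h4, h2, hiS.1, fun a ha =>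
      eq_inv_of_fpf h4 (isMulCommutative_three hG R) hin (fun b hb hib => by
        by_contra hb1; exact hno b hb hb1 hib) ha⟩
    obtain ⟨t, ht, he⟩ := inverts_unique hG hz hinv
    refine hne ?_
    have hzi : z * i = i * z := (Subgroup.mem_centralizer_singleton_iff.1 hiS.2).symm
    have h := hz.2.2.2 t ht
    have e2 : t * z * t⁻¹ = t * t * z := by
      calc t * z * t⁻¹ = t * (z * t⁻¹ * z) * z := by rw [show t * (z * t⁻¹ * z) * z = t * z * t⁻¹ * (z * z) by group, hz.1, mul_one]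
        _ = t * t * z := by rw [hz.2.2.2 _ ((R : Subgroup G).inv_mem ht), inv_inv]
    rw [e2] at he
    have htt : z * (t * t) = t * t * z := by
      rw [he, ← mul_assoc, mul_assoc (t * t) z z, hz.1, mul_one] at hzi
      calc z * (t * t) = z * (t * t) * (z * z) := by rw [hz.1, mul_one]
        _ = z * (t * t * z) * z := by group
        _ = t * t * z := by rw [show z * (t * t * z) = z * (t * t) * z by group, hzi]
    rw [he, inf_inverts_three hG hz ((R : Subgroup G).mul_mem ht ht) htt, one_mul]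
  have hgx : g * x * g⁻¹ ∈ (R : Subgroup G) := (Subgroup.mem_normalizer_iff.1 hg.1 x).1 hx
  have hline : g * x * g⁻¹ ∈ Subgroup.zpowers x := by
    refine fixed_line hG hz hiS h2 hx hx1 hgx hix ?_
    calc i * (g * x * g⁻¹) = (i * g) * x * g⁻¹ := by group
      _ = g * (i * x) * g⁻¹ := by rw [← hgi]; group
      _ = g * (x * i) * g⁻¹ := by rw [hix]
      _ = g * x * g⁻¹ * ((g * i) * g⁻¹) := by group
      _ = g * x * g⁻¹ * i := by rw [hgi, mul_inv_cancel_right]
  rcases mem_zpowers_three (exponent_three hG R hx hx1) hline (fun e => hx1 (by simpa using e)) with e | e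
  · have e' := mul_inv_eq_iff_eq_mul.1 e
    have hg1 : g ≠ 1 := fun e1 => h2 (by simp [hi, e1])
    have := twoSub_fix_eq hG hz hx hx1 hg e' hiS hix hg1 h2
    exact hg1 (by
      have h' := congrArg (g⁻¹ * ·) this
      simpa [hi, ← mul_assoc] using h'.symm)
  · have hzg : z * g ∈ twoSub R z := (twoSub R z).mul_mem (mem_twoSub_self hz) hg
    have hzgx : z * g * x = x * (z * g) := by
      rw [mul_assoc, mul_inv_eq_iff_eq_mul.1 e]
      calc z * (x⁻¹ * g) = (z * x⁻¹ * z) * (z * g) := by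
            rw [show z * x⁻¹ * z * (z * g) = z * x⁻¹ * (z * z) * g by group, hz.1]; group
        _ = x * (z * g) := by rw [hz.2.2.2 _ ((R : Subgroup G).inv_mem hx), inv_inv]
    have hzg1 : z * g ≠ 1 := fun e1 => h2 (by
      rw [hi, eq_inv_of_mul_eq_one_right e1, hz.inv_eq, hz.1])
    have := twoSub_fix_eq hG hz hx hx1 hzg hzgx hiS hix hzg1 h2
    have hgz : g = z := by
      have h' := congrArg (· * g⁻¹) this
      simpa [hi, mul_assoc] using h'.symm
    exact h2 (by rw [hi, hgz, hz.1])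

theorem central_eq (hG : Nat.card G = 7920) {R : Sylow 3 G} {z : G} (hz : Inverts z R) {c : G}
    (hc : c ∈ twoSub R z) (hcen : ∀ s ∈ twoSub R z, c * s = s * c) : c = 1 ∨ c = z := by
  by_cases hc1 : c = 1
  · exact Or.inl hc1
  refine Or.inr ?_
  have hline : ∀ x ∈ (R : Subgroup G), x ≠ 1 → c * x * c⁻¹ = x ∨ c * x * c⁻¹ = x⁻¹ := by
    intro x hx hx1
    set K := twoSub R z ⊓ Subgroup.centralizer ({x} : Set G) with hK
    have : Nontrivial ↥K := Finite.one_lt_card_iff_nontrivial.1 (by rw [hK, card_twoSub_fix hG hz hx hx1]; norm_num)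
    obtain ⟨⟨s, hs⟩, hs1⟩ := exists_ne (1 : ↥K)
    have hs1' : s ≠ 1 := fun e => hs1 (Subtype.ext e)
    have hsx : s * x = x * s := Subgroup.mem_centralizer_singleton_iff.1 hs.2
    have hcx := (Subgroup.mem_normalizer_iff.1 hc.1 x).1 hx
    have hcs : c * s = s * c := hcen s hs.1
    refine mem_zpowers_three (exponent_three hG R hx hx1) (fixed_line hG hz hs.1 hs1' hx hx1 hcx hsx ?_)
      (fun e => hx1 (by simpa using e))
    calc s * (c * x * c⁻¹) = (s * c) * x * c⁻¹ := by group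
      _ = c * (s * x) * c⁻¹ := by rw [← hcs]; group
      _ = c * (x * s) * c⁻¹ := by rw [hsx]
      _ = c * x * c⁻¹ * ((c * s) * c⁻¹) := by group
      _ = c * x * c⁻¹ * s := by rw [hcs, mul_inv_cancel_right]
  obtain ⟨a, ha, hca⟩ : ∃ a ∈ (R : Subgroup G), c * a ≠ a * c := by
    by_contra! hall
    have hcR : c ∈ (R : Subgroup G) := by
      rw [← three_self_centralizing hG R, Subgroup.mem_centralizer_iff]
      exact fun b hb => (hall b hb).symm
    exact hc1 (inf_inverts_three hG hz hcR (Subgroup.mem_centralizer_singleton_iff.1 hc.2).symm)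
  have ha1 : a ≠ 1 := fun e => hca (by simp [e])
  have hcainv : c * a * c⁻¹ = a⁻¹ :=
    (hline a ha ha1).resolve_left fun e => hca (mul_inv_eq_iff_eq_mul.1 e)
  have hall : ∀ b ∈ (R : Subgroup G), c * b * c⁻¹ = b⁻¹ := by
    intro b hb
    by_cases hb1 : b = 1
    · rw [hb1]; simp
    refine (hline b hb hb1).resolve_left fun eb => ?_
    have hab : a * b = b * a := congrArg Subtype.val
      ((isMulCommutative_three hG R).is_comm.comm ⟨a, ha⟩ ⟨b, hb⟩)
    have e1 : c * (a * b) * c⁻¹ = a⁻¹ * b := by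
      rw [show c * (a * b) * c⁻¹ = (c * a * c⁻¹) * (c * b * c⁻¹) by group, hcainv, eb]
    by_cases hab1 : a * b = 1
    · rw [hab1, mul_one, mul_inv_cancel] at e1
      have : a = b := inv_mul_eq_one.1 e1.symm
      exact hca (mul_inv_eq_iff_eq_mul.1 (this ▸ eb))
    rcases hline _ ((R : Subgroup G).mul_mem ha hb) hab1 with e | e <;> rw [e1] at e
    · exact ha1 (two_not_dvd_three hG R ha (by
        have h' := mul_right_cancel e
        nth_rw 1 [← h']
        exact inv_mul_cancel a))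
    · rw [hab, mul_inv_rev] at e
      have h' : b = b⁻¹ := mul_left_cancel e
      exact hb1 (two_not_dvd_three hG R hb (by nth_rw 1 [h']; exact inv_mul_cancel b))
  by_contra hcz
  have hzc : z * c ≠ 1 := fun e => hcz ((eq_inv_of_mul_eq_one_right e).trans hz.inv_eq)
  have hzcR : z * c ∈ (R : Subgroup G) := by
    rw [← three_self_centralizing hG R, Subgroup.mem_centralizer_iff]
    intro b hb
    have e : z * c * b * (z * c)⁻¹ = b := by
      rw [show z * c * b * (z * c)⁻¹ = z * (c * b * c⁻¹) * z⁻¹ by group, hall b hb, hz.inv_eq,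
        hz.2.2.2 _ ((R : Subgroup G).inv_mem hb), inv_inv]
    exact (mul_inv_eq_iff_eq_mul.1 e).symm
  have hmem : z * c ∈ twoSub R z := (twoSub R z).mul_mem (mem_twoSub_self hz) hc
  exact hzc (inf_inverts_three hG hz hzcR (Subgroup.mem_centralizer_singleton_iff.1 hmem.2).symm)

theorem involutions_le (hG : Nat.card G = 7920) {R : Sylow 3 G} {z : G} (hz : Inverts z R) :
    {i ∈ (twoSub R z : Set G) | i * i = 1 ∧ i ≠ 1 ∧ i ≠ z}.ncard ≤ 4 := by
  set I := {i ∈ (twoSub R z : Set G) | i * i = 1 ∧ i ≠ 1 ∧ i ≠ z} with hI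
  set X := ((R : Subgroup G) : Set G) \ {1} with hX
  have hX8 : X.ncard = 8 := by
    rw [hX, Set.ncard_sdiff (Set.singleton_subset_iff.2 (R : Subgroup G).one_mem), Set.ncard_singleton,
      show ((R : Subgroup G) : Set G).ncard = 9 from (Nat.card_coe_set_eq _).symm.trans (card_three hG R)]
  have hex : ∀ i ∈ I, ∃ x ∈ X, i * x = x * i := by
    rintro i ⟨hiS, hi2, hi1, hiz⟩
    by_contra! hno
    have hiinv : i⁻¹ = i := inv_eq_of_mul_eq_one_right hi2
    have hin : ∀ a ∈ (R : Subgroup G), i * a * i ∈ (R : Subgroup G) := fun a ha => by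
      have := (Subgroup.mem_normalizer_iff.1 hiS.1 a).1 ha
      rwa [hiinv] at this
    have hall : ∀ b ∈ (R : Subgroup G), i * b * i = b⁻¹ := fun b hb =>
      eq_inv_of_fpf hi2 (isMulCommutative_three hG R) hin (fun b hb hib => by
        by_contra hb1; exact hno b ⟨hb, hb1⟩ hib) hb
    have hziR : z * i ∈ (R : Subgroup G) := by
      rw [← three_self_centralizing hG R, Subgroup.mem_centralizer_iff]
      intro b hb
      have e : z * i * b * (z * i)⁻¹ = b := by
        rw [show z * i * b * (z * i)⁻¹ = z * (i * b * i⁻¹) * z⁻¹ by group, hiinv, hall b hb, hz.inv_eq,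
          hz.2.2.2 _ ((R : Subgroup G).inv_mem hb), inv_inv]
      exact (mul_inv_eq_iff_eq_mul.1 e).symm
    have h1 := inf_inverts_three hG hz hziR (Subgroup.mem_centralizer_singleton_iff.1
      ((twoSub R z).mul_mem (mem_twoSub_self hz) hiS).2).symm
    exact hiz ((eq_inv_of_mul_eq_one_right h1).trans hz.inv_eq)
  choose! f hfX hfc using hex
  set P := {p : G × G | p.1 ∈ I ∧ p.2 ∈ ({f p.1, (f p.1)⁻¹} : Set G)} with hP
  have hPc : P.ncard = I.ncard * 2 := by
    refine ncard_pairs I (fun i => {f i, (f i)⁻¹}) 2 fun i hi => ?_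
    refine Set.ncard_pair fun e => (hfX i hi).2 (two_not_dvd_three hG R (hfX i hi).1 ?_)
    nth_rw 1 [e]
    exact inv_mul_cancel _
  have hinj : Set.InjOn Prod.snd P := by
    rintro ⟨i, x⟩ ⟨hi, hx⟩ ⟨j, y⟩ ⟨hj, hy⟩ (rfl : x = y)
    have hcx : ∀ k ∈ I, x ∈ ({f k, (f k)⁻¹} : Set G) → k * x = x * k ∧ x ∈ X := by
      rintro k hk (rfl | rfl)
      · exact ⟨hfc k hk, hfX k hk⟩
      · refine ⟨(show Commute k (f k) from hfc k hk).inv_right.eq, (R : Subgroup G).inv_mem (hfX k hk).1, ?_⟩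
        exact fun e => (hfX k hk).2 (by simpa using e)
    obtain ⟨ci, hxX⟩ := hcx i hi hx
    obtain ⟨cj, -⟩ := hcx j hj hy
    have := twoSub_fix_eq hG hz hxX.1 hxX.2 hi.1 ci hj.1 cj hi.2.2.1 hj.2.2.1
    subst this
    rfl
  have hsub : Prod.snd '' P ⊆ X := by
    rintro _ ⟨⟨i, x⟩, ⟨hi, hx⟩, rfl⟩
    simp only [Set.mem_insert_iff, Set.mem_singleton_iff] at hx hi ⊢
    rcases hx with rfl | rfl
    · exact hfX i hi
    · exact ⟨(R : Subgroup G).inv_mem (hfX i hi).1, fun e => (hfX i hi).2 (by simpa using e)⟩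
  have h := Set.ncard_le_ncard hsub (Set.toFinite _)
  rw [hinj.ncard_image, hPc, hX8] at h
  omega

theorem twoSub_normalizer (hG : Nat.card G = 7920) {R : Sylow 3 G} {z : G} (hz : Inverts z R) :
    Subgroup.normalizer (twoSub R z : Set G) = twoSub R z := by
  set S := twoSub R z with hS
  have hSc : Nat.card ↥S = 16 := card_twoSub hG hz
  set NS := Subgroup.normalizer (S : Set G) with hNS
  refine le_antisymm ?_ Subgroup.le_normalizer
  by_contra hle
  obtain ⟨c, hc⟩ : 16 ∣ Nat.card ↥NS := hSc ▸ Subgroup.card_dvd_of_le Subgroup.le_normalizer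
  have hc1 : c ≠ 1 := fun e => hle (Subgroup.eq_of_le_of_card_ge Subgroup.le_normalizer (by
    rw [hSc]; exact (by rw [hc, e] : Nat.card ↥NS = 16).le)).ge
  have hd : Nat.card ↥NS ∣ 16 * 495 := by
    rw [show 16 * 495 = Nat.card G by rw [hG]]
    exact Subgroup.card_subgroup_dvd_card NS
  rw [hc] at hd
  have hc495 : c ∣ 495 := Nat.dvd_of_mul_dvd_mul_left (by norm_num) hd
  have hp : ∀ p : ℕ, p = 3 ∨ p = 5 ∨ p = 11 → p ∣ c → False := by
    intro p hp35 hpc
    have hpp : p.Prime := by rcases hp35 with rfl | rfl | rfl <;> norm_num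
    have : Fact p.Prime := ⟨hpp⟩
    obtain ⟨⟨g, hg⟩, hgo⟩ := exists_prime_orderOf_dvd_card' (G := ↥NS) p (hc ▸ Dvd.dvd.mul_left hpc 16)
    rw [← Subgroup.orderOf_coe] at hgo
    change orderOf g = p at hgo
    have hgn : ∀ a, a ∈ S ↔ g * a * g⁻¹ ∈ S := Subgroup.mem_normalizer_iff.1 hg
    have hgz : g * z * g⁻¹ = z := by
      refine (central_eq hG hz ((hgn z).1 (mem_twoSub_self hz)) fun s hs => ?_).resolve_left
        fun e => hz.2.1 (by simpa using e)
      have hs' : g⁻¹ * s * g ∈ S := (Subgroup.mem_normalizer_iff''.1 hg s).1 hs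
      have hzs : g⁻¹ * s * g * z = z * (g⁻¹ * s * g) := Subgroup.mem_centralizer_singleton_iff.1 hs'.2
      calc g * z * g⁻¹ * s = g * (z * (g⁻¹ * s * g)) * g⁻¹ := by group
        _ = g * (g⁻¹ * s * g * z) * g⁻¹ := by rw [hzs]
        _ = s * (g * z * g⁻¹) := by group
    have hgz' : g * z = z * g := mul_inv_eq_iff_eq_mul.1 hgz
    set F := S ⊓ Subgroup.centralizer ({g} : Set G) with hF
    have hzF : z ∈ F := ⟨mem_twoSub_self hz, Subgroup.mem_centralizer_singleton_iff.2 hgz'.symm⟩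
    have hmod : 16 % p = Nat.card ↥F % p := by
      have h := ncard_conj_mod (p := p) (x := g) (k := 1) (s := (S : Set G))
        (by rw [pow_one, ← hgo, pow_orderOf_eq_one]) fun a ha => (hgn a).1 ha
      have e : {a ∈ (S : Set G) | g * a = a * g} = (F : Set G) := by
        ext a
        simp [hF, Subgroup.mem_centralizer_singleton_iff, eq_comm]
      rwa [e, ← Nat.card_coe_set_eq, ← Nat.card_coe_set_eq, SetLike.coe_sort_coe, SetLike.coe_sort_coe, hSc] at h
    have hF16 : Nat.card ↥F ∣ 16 := hSc ▸ Subgroup.card_dvd_of_le inf_le_left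
    have hg1 : g ≠ 1 := fun e => by rw [e, orderOf_one] at hgo; exact hpp.one_lt.ne hgo
    have hF2 : 2 ≤ Nat.card ↥F := by
      have : Nontrivial ↥F := ⟨⟨⟨z, hzF⟩, 1, fun e => hz.2.1 (congrArg Subtype.val e)⟩⟩
      exact Finite.one_lt_card
    have hFg : Nat.card ↥F ∣ Nat.card ↥(Subgroup.centralizer ({g} : Set G)) := Subgroup.card_dvd_of_le inf_le_right
    rcases hp35 with rfl | rfl | rfl
    · obtain ⟨P, hP⟩ : ∃ P : Sylow 3 G, Subgroup.zpowers g ≤ (P : Subgroup G) :=
        IsPGroup.exists_le_sylow (IsPGroup.of_card (p := 3) (n := 1) (by rw [Nat.card_zpowers, hgo, pow_one]))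
      rw [(nOrbit_eight hG P (hP (Subgroup.mem_zpowers g)) hg1).2] at hFg
      have : ∀ j ∈ Nat.divisors 16, j ∣ 18 → 2 ≤ j → 16 % 3 ≠ j % 3 := by decide +kernel
      exact this _ (Nat.mem_divisors.2 ⟨hF16, by norm_num⟩) hFg hF2 hmod
    · have h4 : ¬ 4 ∣ Nat.card ↥F := fun h => four_not_dvd_five hG hgo (h.trans hFg)
      have : ∀ j ∈ Nat.divisors 16, ¬ 4 ∣ j → 2 ≤ j → 16 % 5 ≠ j % 5 := by decide +kernel
      exact this _ (Nat.mem_divisors.2 ⟨hF16, by norm_num⟩) h4 hF2 hmod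
    · refine not_eleven_dvd_centralizer hG (g := z) hz.2.1 (by rw [hz.orderOf_two]; norm_num) (hgo ▸ ?_)
      exact Subgroup.orderOf_dvd_natCard _ (Subgroup.mem_centralizer_singleton_iff.2 hgz')
  have : ∀ j ∈ Nat.divisors 495, j ≠ 1 → 3 ∣ j ∨ 5 ∣ j ∨ 11 ∣ j := by decide +kernel
  rcases this _ (Nat.mem_divisors.2 ⟨hc495, by norm_num⟩) hc1 with h | h | h
  · exact hp 3 (Or.inl rfl) h
  · exact hp 5 (Or.inr (Or.inl rfl)) h
  · exact hp 11 (Or.inr (Or.inr rfl)) h

theorem centralizer_inverts_le (hG : Nat.card G = 7920) {R : Sylow 3 G} {z : G} (hz : Inverts z R) :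
    Nat.card ↥(Subgroup.centralizer ({z} : Set G)) = 16 ∨ Nat.card ↥(Subgroup.centralizer ({z} : Set G)) = 48 := by
  set Cz := Subgroup.centralizer ({z} : Set G) with hCz
  have hSC : twoSub R z ≤ Cz := inf_le_right
  have h16 : 16 ∣ Nat.card ↥Cz := card_twoSub hG hz ▸ Subgroup.card_dvd_of_le hSC
  have h11 : ¬ 11 ∣ Nat.card ↥Cz := not_eleven_dvd_centralizer hG hz.2.1 (by rw [hz.orderOf_two]; norm_num)
  have h9 : ¬ 9 ∣ Nat.card ↥Cz := not_nine_dvd_centralizer_involution hG hz.orderOf_two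
  have hd : Nat.card ↥Cz ∣ 7920 := hG ▸ Subgroup.card_subgroup_dvd_card Cz
  have h5 : ¬ 5 ∣ Nat.card ↥Cz := by
    intro h
    obtain ⟨⟨q, hq⟩, hqo⟩ := exists_prime_orderOf_dvd_card' 5 h
    rw [← Subgroup.orderOf_coe] at hqo
    change orderOf q = 5 at hqo
    obtain ⟨Q, hQ⟩ := exists_sylow_five hG hqo
    have hQC : (Q : Subgroup G) ≤ Cz := hQ ▸ Subgroup.zpowers_le.2 hq
    have hQc : Nat.card ↥(Q : Subgroup G) = 5 := card_five hG Q
    have h25 : ¬ 5 ^ (1 + 1) ∣ Nat.card ↥Cz := fun h' => by have := h'.trans hd; omega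
    obtain ⟨hs, hsm⟩ := sylow_count Cz hQC (p := 5) (n := 1) (by rw [hQc]; norm_num) h25
    set k := Nat.card ↥(Cz ⊓ Subgroup.normalizer ((Q : Subgroup G) : Set G)) with hk
    have hk20 : k ∣ 20 := five_sylow hG Q ▸ Subgroup.card_dvd_of_le inf_le_right
    have hk10 : 10 ∣ k := by
      have a1 : 5 ∣ k := hQc ▸ Subgroup.card_dvd_of_le (le_inf hQC Subgroup.le_normalizer)
      have a2 : 2 ∣ k := hz.orderOf_two ▸ Subgroup.orderOf_dvd_natCard _ (⟨Subgroup.mem_centralizer_singleton_iff.2 rfl,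
        mem_normalizer_of_conj_le fun a ha => by
          obtain ⟨i, rfl⟩ := Subgroup.mem_zpowers_iff.1 (hQ ▸ ha)
          have hc : z * q ^ i = q ^ i * z :=
            ((show Commute z q from (Subgroup.mem_centralizer_singleton_iff.1 hq).symm).zpow_right i).eq
          rw [hc, mul_inv_cancel_right]; exact ha⟩ : z ∈ Cz ⊓ Subgroup.normalizer ((Q : Subgroup G) : Set G))
      omega
    obtain ⟨k', hk'⟩ := hk10
    have hk'2 : k' = 1 ∨ k' = 2 := by
      rw [hk', show 20 = 10 * 2 from rfl] at hk20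
      exact (Nat.dvd_prime Nat.prime_two).1 (Nat.dvd_of_mul_dvd_mul_left (by norm_num) hk20)
    set n := Nat.card (Sylow 5 ↥Cz) with hn
    have hn1584 : n ∣ 792 := by
      have h1 : n * (10 * k') ∣ 7920 := by rw [← hk', hs]; exact hd
      rw [show n * (10 * k') = n * k' * 10 by ring, show 7920 = 792 * 10 from rfl] at h1
      exact (Dvd.intro k' rfl).trans (Nat.dvd_of_mul_dvd_mul_right (by norm_num) h1)
    have hn8 : 8 ∣ n * k' := by
      have h1 : 16 ∣ n * (10 * k') := by rw [← hk', hs]; exact h16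
      rw [show n * (10 * k') = 2 * (5 * (n * k')) by ring, show 16 = 2 * 8 from rfl] at h1
      exact (Nat.Coprime.dvd_mul_left (show Nat.Coprime 8 5 by norm_num)).1 (Nat.dvd_of_mul_dvd_mul_left (by norm_num) h1)
    have hn11 : ¬ 11 ∣ n := fun h' => h11 (hs ▸ Dvd.dvd.mul_right h' k)
    have hn9 : ¬ 9 ∣ n := fun h' => h9 (hs ▸ Dvd.dvd.mul_right h' k)
    have : ∀ j ∈ Nat.divisors 792, j % 5 = 1 → ¬ 11 ∣ j → ¬ 9 ∣ j → j = 1 ∨ j = 6 := by decide +kernel
    rcases this _ (Nat.mem_divisors.2 ⟨hn1584, by norm_num⟩) hsm hn11 hn9 with e | e <;>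
      rcases hk'2 with e' | e' <;> rw [e, e'] at hn8 <;> omega
  have hall : ∀ j ∈ Nat.divisors 7920, 16 ∣ j → ¬ 11 ∣ j → ¬ 9 ∣ j → ¬ 5 ∣ j → j = 16 ∨ j = 48 := by
    decide +kernel
  exact hall _ (Nat.mem_divisors.2 ⟨hd, by norm_num⟩) h16 h11 h9 h5

end Cfsg.Lib.MathieuEleven
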