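import Cfsg.Agent.Recognition.MathieuEleven.Local

/-!
Fusion and centralisers of elements of a Sylow three-subgroup in a simple group of order 7920.
-/

set_option autoImplicit false

namespace Cfsg.Lib.MathieuEleven

open MulAction Cfsg.Lib.Small
open scoped Pointwise IsMulCommutative

variable {G : Type*} [Group G]

local instance fact_five' : Fact (Nat.Prime 5) := ⟨by norm_num⟩

/-- Pairs over a set, each fibre of the same size. -/
theorem ncard_pairs [Finite G] (X : Set G) (F : G → Set G) (c : ℕ) (h : ∀ x ∈ X, (F x).ncard = c) :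
    {p : G × G | p.1 ∈ X ∧ p.2 ∈ F p.1}.ncard = X.ncard * c := by
  classical
  have := Fintype.ofFinite G
  rw [← Nat.card_coe_set_eq, ← Nat.card_coe_set_eq X]
  let e : ↥{p : G × G | p.1 ∈ X ∧ p.2 ∈ F p.1} ≃ (Σ x : ↥X, ↥(F x.1)) :=
    { toFun := fun p => ⟨⟨p.1.1, p.2.1⟩, ⟨p.1.2, p.2.2⟩⟩
      invFun := fun s => ⟨(s.1.1, s.2.1), s.1.2, s.2.2⟩
      left_inv := fun p => rfl
      right_inv := fun s => rfl }
  rw [Nat.card_congr e, Nat.card_sigma, Finset.sum_congr rfl fun x _ =>
    show Nat.card ↥(F x.1) = c by rw [Nat.card_coe_set_eq]; exact h x.1 x.2]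
  rw [Finset.sum_const, Finset.card_univ, smul_eq_mul, Nat.card_eq_fintype_card]

/-- A subgroup acting freely by conjugation on an invariant set. -/
theorem dvd_of_free [Finite G] (K : Subgroup G) (s : Set G) (hs : ∀ k ∈ K, ∀ a ∈ s, k * a * k⁻¹ ∈ s)
    (hfree : ∀ k ∈ K, ∀ a ∈ s, k * a = a * k → k = 1) : Nat.card ↥K ∣ s.ncard := by
  let _ : MulAction ↥K G := MulAction.compHom G ((ConjAct.toConjAct : G ≃* ConjAct G).toMonoidHom.comp K.subtype)
  have he : ∀ (k : K) (a : G), k • a = (k : G) * a * (k : G)⁻¹ := fun k a => ConjAct.toConjAct_smul _ a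
  let S : SubMulAction ↥K G :=
    { carrier := s
      smul_mem' := fun k a ha => (he k a).symm ▸ hs k k.2 a ha }
  have hb : ∀ b : ↥S, stabilizer ↥K b = ⊥ := by
    rintro ⟨a, ha⟩
    rw [Subgroup.eq_bot_iff_forall]
    intro k hk
    have h1 : k • a = a := congrArg Subtype.val (mem_stabilizer_iff.1 hk)
    rw [he, mul_inv_eq_iff_eq_mul] at h1
    exact Subtype.ext (hfree k k.2 a ha h1)
  have hcard := Nat.card_congr (selfEquivOrbitsQuotientProd hb)
  rw [Nat.card_prod] at hcard
  rw [← Nat.card_coe_set_eq]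
  exact ⟨_, hcard.trans (mul_comm _ _)⟩

variable [Finite G] [IsSimpleGroup G]

/-- The conjugates of `x` under the normaliser of a Sylow three-subgroup. -/
def nOrbit (R : Sylow 3 G) (x : G) : Set G :=
  Set.range fun k : ↥(Subgroup.normalizer ((R : Subgroup G) : Set G)) => (k : G) * x * (k : G)⁻¹

/-- The Sylow three-subgroups containing `x`. -/
def cont (x : G) : Set (Sylow 3 G) := {P | x ∈ (P : Subgroup G)}

omit [IsSimpleGroup G] in
theorem self_mem_nOrbit (R : Sylow 3 G) (x : G) : x ∈ nOrbit R x := ⟨1, by simp⟩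

omit [IsSimpleGroup G] in
theorem nOrbit_subset (R : Sylow 3 G) {x : G} (hx : x ∈ (R : Subgroup G)) {a : G} (ha : a ∈ nOrbit R x) :
    a ∈ (R : Subgroup G) := by
  obtain ⟨k, rfl⟩ := ha
  exact (Subgroup.mem_normalizer_iff.1 k.2 x).1 hx

omit [IsSimpleGroup G] in
theorem conj_mem_nOrbit (R : Sylow 3 G) {x n a : G} (hn : n ∈ Subgroup.normalizer ((R : Subgroup G) : Set G))
    (ha : a ∈ nOrbit R x) : n * a * n⁻¹ ∈ nOrbit R x := by
  obtain ⟨k, rfl⟩ := ha
  exact ⟨⟨n, hn⟩ * k, by simp [mul_assoc]⟩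

omit [IsSimpleGroup G] in
theorem nOrbit_ncard_mul (R : Sylow 3 G) (x : G) :
    (nOrbit R x).ncard *
        Nat.card ↥(Subgroup.normalizer ((R : Subgroup G) : Set G) ⊓ Subgroup.centralizer ({x} : Set G)) =
      Nat.card ↥(Subgroup.normalizer ((R : Subgroup G) : Set G)) := ncard_conj_orbit _ x

/-- Conjugate elements of an abelian Sylow subgroup are conjugate in its normaliser. -/
theorem fusion (hG : Nat.card G = 7920) (R : Sylow 3 G) {x g : G} (hx : x ∈ (R : Subgroup G))
    (hg : g * x * g⁻¹ ∈ (R : Subgroup G)) : g * x * g⁻¹ ∈ nOrbit R x := by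
  have := isMulCommutative_three hG R
  obtain ⟨n, hn, he⟩ := R.conj_eq_normalizer_conj_of_mem x g⁻¹ hx (by rw [inv_inv]; exact hg)
  refine ⟨⟨n⁻¹, inv_mem hn⟩, ?_⟩
  simpa using he.symm

theorem nOrbit_ncard_le (hG : Nat.card G = 7920) (R : Sylow 3 G) {x : G} (hx : x ∈ (R : Subgroup G))
    (h1 : x ≠ 1) : (nOrbit R x).ncard ≤ 8 := by
  have hsub : nOrbit R x ⊆ ((R : Subgroup G) : Set G) \ {1} := fun a ha => by
    refine ⟨nOrbit_subset R hx ha, ?_⟩
    obtain ⟨k, rfl⟩ := ha
    exact fun e => h1 (by simpa using e)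
  have hcard : (((R : Subgroup G) : Set G) \ {1}).ncard = 8 := by
    rw [Set.ncard_sdiff (Set.singleton_subset_iff.2 (R : Subgroup G).one_mem), Set.ncard_singleton,
      ← Nat.card_coe_set_eq]
    show Nat.card ↥(R : Subgroup G) - 1 = 8
    rw [card_three hG R]
  exact hcard ▸ Set.ncard_le_ncard hsub (Set.toFinite _)

theorem nOrbit_cases (hG : Nat.card G = 7920) (R : Sylow 3 G) {x : G} (hx : x ∈ (R : Subgroup G))
    (h1 : x ≠ 1) : (nOrbit R x).ncard ∈ ({2, 4, 8} : Finset ℕ) := by
  set N := Subgroup.normalizer ((R : Subgroup G) : Set G) with hN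
  have hmul := nOrbit_ncard_mul R x
  have hne1 : (nOrbit R x).ncard ≠ 1 := by
    intro h
    obtain ⟨a, ha⟩ := Set.ncard_eq_one.1 h
    refine h1 (FiveZeroFour.eq_one_of_central (hnc hG) R (isMulCommutative_three hG R) hx fun n hn => ?_)
    have h2 : n * x * n⁻¹ ∈ nOrbit R x := conj_mem_nOrbit R hn (self_mem_nOrbit R x)
    have h3 := self_mem_nOrbit R x
    rw [ha, Set.mem_singleton_iff] at h2 h3
    exact mul_inv_eq_iff_eq_mul.1 (h2.trans h3.symm)
  obtain ⟨c, hc⟩ : 9 ∣ Nat.card ↥(N ⊓ Subgroup.centralizer ({x} : Set G)) :=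
    card_three hG R ▸ Subgroup.card_dvd_of_le (le_inf Subgroup.le_normalizer (three_le_centralizer hG R hx))
  rw [hc] at hmul
  have h16 : (nOrbit R x).ncard ∣ 16 := by
    rcases three_normalizer_cases hG R with e | e <;> rw [← hN] at e <;> rw [← hN, e] at hmul
    · exact ⟨c, by linarith⟩
    · exact Nat.dvd_trans (show (nOrbit R x).ncard ∣ 4 from Dvd.intro c (by linarith)) (by norm_num)
  have h8 := nOrbit_ncard_le hG R hx h1
  have : ∀ j ∈ Nat.divisors 16, j ≤ 8 → j ≠ 1 → j ∈ ({2, 4, 8} : Finset ℕ) := by decide +kernel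
  exact this _ (Nat.mem_divisors.2 ⟨h16, by norm_num⟩) h8 hne1

omit [IsSimpleGroup G] [Finite G] in
theorem no_four {A : Type*} [CommGroup A] (h3 : ∀ x : A, x ^ 3 = 1) {a b c d : A} (hab : a ≠ b) (hcd : c ≠ d)
    (ha : a ≠ 1) (hb : b ≠ 1) (hc : c ≠ 1) (hd : d ≠ 1) (hp : a * b * c * d = 1) (hne : a * b ≠ 1)
    (hcov : ∀ x : A, x ≠ 1 → x = a ∨ x = b ∨ x = c ∨ x = d ∨ x⁻¹ = a ∨ x⁻¹ = b ∨ x⁻¹ = c ∨ x⁻¹ = d) :
    False := by
  have cube : ∀ x y : A, x * x * y = 1 → y = x := fun x y h => by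
    have hx : x * x * x = 1 := by rw [← h3 x, pow_succ, pow_two]
    exact mul_left_cancel (h.trans hx.symm)
  rcases hcov (a * b) hne with h | h | h | h | h | h | h | h
  · exact hb (mul_eq_left.1 h)
  · exact ha (mul_eq_right.1 h)
  · exact hcd (cube c d (by rw [h] at hp; exact hp)).symm
  · refine hcd (cube d c ?_)
    rw [h, mul_right_comm] at hp
    exact hp
  · rw [inv_eq_iff_eq_inv] at h
    refine hab (cube a b ?_).symm
    rw [mul_assoc, h, mul_inv_cancel]
  · rw [inv_eq_iff_eq_inv] at h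
    refine hab (cube b a ?_)
    rw [mul_comm a b] at h
    rw [mul_assoc, h, mul_inv_cancel]
  · rw [inv_eq_iff_eq_inv] at h
    rw [h, inv_mul_cancel, one_mul] at hp
    exact hd hp
  · rw [inv_eq_iff_eq_inv] at h
    rw [h, mul_right_comm, inv_mul_cancel, one_mul] at hp
    exact hc hp

/-- Every element of a Sylow three-subgroup is inverted in its normaliser. -/
theorem inv_mem_nOrbit (hG : Nat.card G = 7920) (R : Sylow 3 G) {x : G} (hx : x ∈ (R : Subgroup G))
    (h1 : x ≠ 1) : x⁻¹ ∈ nOrbit R x := by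
  classical
  have hx' : x⁻¹ ∈ (R : Subgroup G) := (R : Subgroup G).inv_mem hx
  have hsub : nOrbit R x ⊆ ((R : Subgroup G) : Set G) \ {1} := fun a ha => by
    refine ⟨nOrbit_subset R hx ha, ?_⟩
    obtain ⟨k, rfl⟩ := ha
    exact fun e => h1 (by simpa using e)
  have hcard : (((R : Subgroup G) : Set G) \ {1}).ncard = 8 := by
    rw [Set.ncard_sdiff (Set.singleton_subset_iff.2 (R : Subgroup G).one_mem), Set.ncard_singleton,
      ← Nat.card_coe_set_eq]
    show Nat.card ↥(R : Subgroup G) - 1 = 8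
    rw [card_three hG R]
  by_contra hinv
  have hc := nOrbit_cases hG R hx h1
  simp only [Finset.mem_insert, Finset.mem_singleton] at hc
  rcases hc with h | h | h
  · exact hinv (inv_mem_orbit_of_two hG R hx h)
  rotate_left
  · exact hinv ((Set.eq_of_subset_of_ncard_le hsub (by rw [hcard, h]) (Set.toFinite _)).symm ▸
      ⟨hx', by simpa using h1⟩)
  -- orbit of size four without inverse pairs
  have hdis : ∀ a ∈ nOrbit R x, a⁻¹ ∉ nOrbit R x := by
    rintro _ ⟨k, rfl⟩ ⟨k', hk'⟩
    refine hinv ⟨k⁻¹ * k', ?_⟩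
    calc _ = (k : G)⁻¹ * ((k' : G) * x * (k' : G)⁻¹) * k := by
          simp only [Subgroup.coe_mul, Subgroup.coe_inv]; group
      _ = x⁻¹ := by
          simp only at hk'
          rw [hk']; group
  have hcov : ((R : Subgroup G) : Set G) \ {1} = nOrbit R x ∪ (fun a => a⁻¹) '' nOrbit R x := by
    refine (Set.eq_of_subset_of_ncard_le ?_ ?_ (Set.toFinite _)).symm
    · rintro a (ha | ⟨b, hb, rfl⟩)
      · exact hsub ha
      · exact ⟨(R : Subgroup G).inv_mem (hsub hb).1, fun e => (hsub hb).2 (by simpa using e)⟩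
    · rw [hcard, Set.ncard_union_eq ?_ (Set.toFinite _) (Set.toFinite _),
        Set.ncard_image_of_injective _ inv_injective, h]
      rw [Set.disjoint_left]
      rintro a ha ⟨b, hb, rfl⟩
      exact hdis b hb ha
  have hord : ∀ a : G, a ∈ (R : Subgroup G) → a ≠ 1 → orderOf a = orderOf x := by
    intro a ha ha1
    have hmem : a ∈ ((R : Subgroup G) : Set G) \ {1} := ⟨ha, ha1⟩
    rw [hcov] at hmem
    rcases hmem with ⟨k, rfl⟩ | ⟨_, ⟨k, rfl⟩, rfl⟩
    · exact orderOf_injective (MulAut.conj (k : G)).toMonoidHom (MulAut.conj (k : G)).injective x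
    · rw [orderOf_inv]
      exact orderOf_injective (MulAut.conj (k : G)).toMonoidHom (MulAut.conj (k : G)).injective x
  obtain ⟨⟨t, ht⟩, hto⟩ := exists_prime_orderOf_dvd_card' (G := ↥(R : Subgroup G)) 3 (by rw [card_three hG R]; norm_num)
  rw [← Subgroup.orderOf_coe] at hto
  have hx3 : orderOf x = 3 := (hord t ht fun e => by simp [e] at hto).symm.trans hto
  have h3 : ∀ a : ↥(R : Subgroup G), a ^ 3 = 1 := fun a => by
    by_cases ha : (a : G) = 1
    · rw [show a = 1 from Subtype.ext ha, one_pow]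
    · refine Subtype.ext ?_
      show (a : G) ^ 3 = 1
      have e := pow_orderOf_eq_one (a : G)
      rw [hord a a.2 ha, hx3] at e
      exact e
  have := isMulCommutative_three hG R
  have := Fintype.ofFinite ↥(R : Subgroup G)
  set O := Finset.univ.filter (fun a : ↥(R : Subgroup G) => (a : G) ∈ nOrbit R x) with hO
  have hO4 : O.card = 4 := by
    rw [← h, ← Set.ncard_coe_finset, ← Set.ncard_image_of_injective _ Subtype.val_injective]
    congr 1
    ext a
    simp only [hO, Finset.coe_filter, Finset.mem_univ, true_and, Set.mem_image, Set.mem_setOf_eq]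
    exact ⟨fun ⟨b, hb, he⟩ => he ▸ hb, fun ha => ⟨⟨a, nOrbit_subset R hx ha⟩, ha, rfl⟩⟩
  have hfix : ((∏ a ∈ O, a : ↥(R : Subgroup G)) : G) = 1 := by
    refine FiveZeroFour.eq_one_of_central (hnc hG) R (isMulCommutative_three hG R) (SetLike.coe_mem _) fun n hn => ?_
    set σ := (R : Subgroup G).normalizerMonoidHom ⟨n, hn⟩ with hσ
    have hσa : ∀ a : ↥(R : Subgroup G), ((σ a : ↥(R : Subgroup G)) : G) = n * a * n⁻¹ := fun a => rfl
    have hmap : σ (∏ a ∈ O, a) = ∏ a ∈ O, a := by
      rw [map_prod]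
      refine Finset.prod_nbij (fun a => σ a) (fun a ha => ?_) σ.injective.injOn (fun b hb => ?_) fun a _ => rfl
      · simp only [hO, Finset.mem_filter, Finset.mem_univ, true_and, hσa] at ha ⊢
        exact conj_mem_nOrbit R hn ha
      · refine ⟨σ.symm b, ?_, σ.apply_symm_apply b⟩
        simp only [hO, Finset.coe_filter, Finset.mem_univ, true_and, Set.mem_setOf_eq] at hb ⊢
        have h2 : n * (σ.symm b : G) * n⁻¹ = (b : G) := by rw [← hσa, σ.apply_symm_apply]
        rw [← h2] at hb
        have := conj_mem_nOrbit R (inv_mem hn) hb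
        simpa [mul_assoc] using this
    have := congrArg Subtype.val hmap
    rw [hσa] at this
    exact mul_inv_eq_iff_eq_mul.1 this
  obtain ⟨a, b, c, d, hab, hac, had, hbc, hbd, hcd, hOe⟩ := Finset.card_eq_four.1 hO4
  have hprod : a * b * c * d = 1 := by
    refine Subtype.ext ?_
    rw [show a * b * c * d = ∏ i ∈ O, i by
      rw [hOe, Finset.prod_insert (by simp [hab, hac, had]), Finset.prod_insert (by simp [hbc, hbd]),
        Finset.prod_insert (by simp [hcd]), Finset.prod_singleton, mul_assoc, mul_assoc]]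
    exact hfix
  have hmemO : ∀ i : ↥(R : Subgroup G), i ∈ O → (i : G) ∈ nOrbit R x := fun i hi => (Finset.mem_filter.1 hi).2
  have hO1 : ∀ i : ↥(R : Subgroup G), i ∈ O → i ≠ 1 := fun i hi e =>
    (hsub (hmemO i hi)).2 (by rw [e]; rfl)
  have haO : a ∈ O := by rw [hOe]; simp
  have hbO : b ∈ O := by rw [hOe]; simp
  have hcO : c ∈ O := by rw [hOe]; simp
  have hdO : d ∈ O := by rw [hOe]; simp
  refine no_four h3 hab hcd (hO1 a haO) (hO1 b hbO) (hO1 c hcO) (hO1 d hdO) hprod ?_ ?_
  · intro e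
    refine hdis _ (hmemO a haO) ?_
    rw [show ((a : G))⁻¹ = ((b : ↥(R : Subgroup G)) : G) from
      inv_eq_of_mul_eq_one_right (by simpa using congrArg Subtype.val e)]
    exact hmemO b hbO
  · intro i hi
    have hmem : (i : G) ∈ ((R : Subgroup G) : Set G) \ {1} := ⟨i.2, fun e => hi (Subtype.ext e)⟩
    rw [hcov] at hmem
    have key : ∀ j : ↥(R : Subgroup G), (j : G) ∈ nOrbit R x → j = a ∨ j = b ∨ j = c ∨ j = d := fun j hj => by
      have : j ∈ O := Finset.mem_filter.2 ⟨Finset.mem_univ _, hj⟩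
      simpa [hOe] using this
    rcases hmem with h' | ⟨w, hw, hwe⟩
    · rcases key i h' with e | e | e | e <;> simp [e]
    · have h'' : ((i⁻¹ : ↥(R : Subgroup G)) : G) ∈ nOrbit R x := by
        rw [Subgroup.coe_inv, ← hwe]
        show (w⁻¹)⁻¹ ∈ _
        rwa [inv_inv]
      rcases key _ h'' with e | e | e | e <;> simp [e]

/-- An element inverting `x` in the normaliser. -/
theorem exists_inverter (hG : Nat.card G = 7920) (R : Sylow 3 G) {x : G} (hx : x ∈ (R : Subgroup G))
    (h1 : x ≠ 1) : ∃ g ∈ Subgroup.normalizer ((R : Subgroup G) : Set G), g * x * g⁻¹ = x⁻¹ := by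
  obtain ⟨k, hk⟩ := inv_mem_nOrbit hG R hx h1
  exact ⟨k, k.2, hk⟩

theorem orderOf_three_elt (hG : Nat.card G = 7920) (R : Sylow 3 G) {x : G} (hx : x ∈ (R : Subgroup G))
    (h1 : x ≠ 1) : orderOf x = 3 ∨ orderOf x = 9 := by
  have h := Subgroup.orderOf_dvd_natCard _ hx
  rw [card_three hG R] at h
  have : ∀ j ∈ Nat.divisors 9, j ≠ 1 → j = 3 ∨ j = 9 := by decide +kernel
  exact this _ (Nat.mem_divisors.2 ⟨h, by norm_num⟩) fun e => h1 (orderOf_eq_one_iff.1 e)

theorem centralizer_le_normalizer_zpowers (x : G) :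
    Subgroup.centralizer ({x} : Set G) ≤ Subgroup.normalizer (Subgroup.zpowers x : Set G) := by
  rw [← Subgroup.centralizer_closure, ← Subgroup.zpowers_eq_closure]
  exact Subgroup.centralizer_le_normalizer _

theorem normalizer_zpowers_dvd (hG : Nat.card G = 7920) (R : Sylow 3 G) {x : G} (hx : x ∈ (R : Subgroup G))
    (h1 : x ≠ 1) : Nat.card ↥(Subgroup.normalizer (Subgroup.zpowers x : Set G)) ∣ 144 := by
  set M := Subgroup.normalizer (Subgroup.zpowers x : Set G) with hM
  have hX : Nat.card ↥(Subgroup.zpowers x) = orderOf x := Nat.card_zpowers x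
  have ho := orderOf_three_elt hG R hx h1
  have h11 : ¬ 11 ∣ Nat.card ↥M := not_eleven_dvd_normalizer hG (by omega) (by omega)
  have h5 : ¬ 5 ∣ Nat.card ↥M := by
    intro h
    obtain ⟨⟨q, hq⟩, hqo⟩ := exists_prime_orderOf_dvd_card' 5 h
    rw [← Subgroup.orderOf_coe] at hqo
    refine five_three hG hqo ?_
    have hc : q * x = x * q := by
      rcases ho with e | e
      · exact commute_of_small hqo hq (by omega) x (Subgroup.mem_zpowers x)
      · exact commute_nine hqo (by omega) hq x (Subgroup.mem_zpowers x)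
    have hd : orderOf x ∣ Nat.card ↥(Subgroup.centralizer ({q} : Set G)) :=
      Subgroup.orderOf_dvd_natCard _ (Subgroup.mem_centralizer_singleton_iff.2 hc.symm)
    exact (show 3 ∣ orderOf x by rcases ho with e | e <;> rw [e] <;> norm_num).trans hd
  have hd : Nat.card ↥M ∣ 55 * 144 := by
    rw [show 55 * 144 = Nat.card G by rw [hG]]
    exact Subgroup.card_subgroup_dvd_card M
  refine (Nat.Coprime.dvd_mul_left ?_).1 hd
  rw [show (55 : ℕ) = 5 * 11 from rfl]
  exact Nat.Coprime.mul_right ((Nat.Prime.coprime_iff_not_dvd (by norm_num)).2 h5).symm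
    ((Nat.Prime.coprime_iff_not_dvd (by norm_num)).2 h11).symm

theorem centralizer_dvd (hG : Nat.card G = 7920) (R : Sylow 3 G) {x : G} (hx : x ∈ (R : Subgroup G))
    (h1 : x ≠ 1) : Nat.card ↥(Subgroup.centralizer ({x} : Set G)) ∣ 144 :=
  (Subgroup.card_dvd_of_le (centralizer_le_normalizer_zpowers x)).trans (normalizer_zpowers_dvd hG R hx h1)

theorem centralizer_le_seventy_two (hG : Nat.card G = 7920) (R : Sylow 3 G) {x : G}
    (hx : x ∈ (R : Subgroup G)) (h1 : x ≠ 1) :
    2 * Nat.card ↥(Subgroup.centralizer ({x} : Set G)) ≤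
        Nat.card ↥(Subgroup.normalizer (Subgroup.zpowers x : Set G)) ∧
      Nat.card ↥(Subgroup.centralizer ({x} : Set G)) ≤ 72 := by
  set M := Subgroup.normalizer (Subgroup.zpowers x : Set G) with hM
  set C := Subgroup.centralizer ({x} : Set G) with hC
  have hle : C ≤ M := centralizer_le_normalizer_zpowers x
  obtain ⟨g, -, hg⟩ := exists_inverter hG R hx h1
  have hgM : g ∈ M := mem_normalizer_zpowers (hg ▸ Subgroup.inv_mem _ (Subgroup.mem_zpowers x))
  have hne : C.relIndex M ≠ 1 := fun e => by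
    have hgC := Subgroup.relIndex_eq_one.1 e hgM
    rw [hC, Subgroup.mem_centralizer_singleton_iff] at hgC
    rw [hgC, mul_inv_cancel_right] at hg
    have h2 : orderOf x ∣ 2 := orderOf_dvd_of_pow_eq_one (by rw [pow_two]; nth_rw 1 [hg]; simp)
    rcases orderOf_three_elt hG R hx h1 with e | e <;> rw [e] at h2 <;> omega
  have hmul := card_inf_mul_relIndex C M
  rw [inf_eq_right.2 hle] at hmul
  have h144 := Nat.le_of_dvd (by norm_num) (normalizer_zpowers_dvd hG R hx h1)
  have hr2 : 2 ≤ C.relIndex M := by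
    have h0 : C.relIndex M ≠ 0 := fun e => by
      rw [e, mul_zero] at hmul
      exact Nat.card_pos.ne hmul
    omega
  have h2 := Nat.mul_le_mul_left (Nat.card ↥C) hr2
  rw [← hM] at h144
  omega

/-- The Sylow three-subgroups through `x` correspond to those of its centraliser. -/
theorem cont_ncard_mul (hG : Nat.card G = 7920) (R : Sylow 3 G) {x : G} (hx : x ∈ (R : Subgroup G))
    (h1 : x ≠ 1) :
    (cont x).ncard *
        Nat.card ↥(Subgroup.normalizer ((R : Subgroup G) : Set G) ⊓ Subgroup.centralizer ({x} : Set G)) =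
      Nat.card ↥(Subgroup.centralizer ({x} : Set G)) ∧ (cont x).ncard % 3 = 1 := by
  set C := Subgroup.centralizer ({x} : Set G) with hC
  have h27 : ¬ 3 ^ (2 + 1) ∣ Nat.card ↥C := fun h => by
    have := h.trans (centralizer_dvd hG R hx h1); omega
  have hRC := three_le_centralizer hG R hx
  have horb : orbit ↥C R = cont x := by
    ext P
    constructor
    · rintro ⟨⟨c, hc⟩, rfl⟩
      show x ∈ (c • R : Sylow 3 G)
      have hcx := Subgroup.mem_centralizer_singleton_iff.1 hc
      have h := Subgroup.smul_mem_pointwise_smul x (MulAut.conj c) _ hx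
      rw [MulAut.smul_def, MulAut.conj_apply, hcx, mul_inv_cancel_right] at h
      exact h
    · intro hP
      obtain ⟨c, hc, hcb⟩ := exists_conj_in C hRC (three_le_centralizer hG P hP)
        (n := 2) (by rw [card_three hG R]; norm_num) (by rw [card_three hG P]; norm_num) h27
      refine ⟨⟨c, hc⟩, Sylow.ext ?_⟩
      show MulAut.conj c • (R : Subgroup G) = P
      ext a
      rw [Subgroup.mem_pointwise_smul_iff_inv_smul_mem, ← map_inv, MulAut.smul_def, MulAut.conj_apply, inv_inv]
      rw [hcb (c⁻¹ * a * c)]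
      simp [mul_assoc]
  have hst : stabilizer ↥C R = (Subgroup.normalizer ((R : Subgroup G) : Set G) ⊓ C).subgroupOf C := by
    ext c
    rw [Subgroup.inf_subgroupOf_right, Subgroup.mem_subgroupOf, mem_stabilizer_iff]
    exact Sylow.smul_eq_iff_mem_normalizer
  have h := (stabilizer ↥C R).index_mul_card
  rw [index_stabilizer, horb, hst, Nat.card_congr (Subgroup.subgroupOfEquivOfLe inf_le_right).toEquiv] at h
  refine ⟨h, ?_⟩
  obtain ⟨hs, hsm⟩ := sylow_count C hRC (n := 2) (by rw [card_three hG R]; norm_num) h27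
  rw [inf_comm, ← h] at hs
  rwa [← Nat.eq_of_mul_eq_mul_right Nat.card_pos hs]

omit [IsSimpleGroup G] in
theorem cont_conj (x g : G) : (cont (g * x * g⁻¹)).ncard = (cont x).ncard := by
  have : cont (g * x * g⁻¹) = (fun P : Sylow 3 G => g • P) '' cont x := by
    ext P
    constructor
    · intro hP
      refine ⟨g⁻¹ • P, ?_, smul_inv_smul g P⟩
      show x ∈ MulAut.conj g⁻¹ • (P : Subgroup G)
      rw [Subgroup.mem_pointwise_smul_iff_inv_smul_mem, ← map_inv, inv_inv, MulAut.smul_def, MulAut.conj_apply]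
      exact hP
    · rintro ⟨Q, hQ, rfl⟩
      exact Subgroup.smul_mem_pointwise_smul x (MulAut.conj g) _ hQ
  rw [this, Set.ncard_image_of_injective _ (MulAction.injective g)]

/-- The three possible configurations. -/
theorem cont_cases (hG : Nat.card G = 7920) (R : Sylow 3 G) {x : G} (hx : x ∈ (R : Subgroup G))
    (h1 : x ≠ 1) : (cont x).ncard = 1 ∨ ((cont x).ncard = 4 ∧
      (Nat.card ↥(Subgroup.normalizer ((R : Subgroup G) : Set G)) = 144 → (nOrbit R x).ncard = 8)) := by
  obtain ⟨h, hm⟩ := cont_ncard_mul hG R hx h1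
  have horb := nOrbit_ncard_mul R x
  have hC := centralizer_dvd hG R hx h1
  have h72 := (centralizer_le_seventy_two hG R hx h1).2
  obtain ⟨c, hc⟩ : 9 ∣ Nat.card ↥(Subgroup.normalizer ((R : Subgroup G) : Set G) ⊓
      Subgroup.centralizer ({x} : Set G)) :=
    card_three hG R ▸ Subgroup.card_dvd_of_le (le_inf Subgroup.le_normalizer (three_le_centralizer hG R hx))
  rw [hc] at h horb
  have h16 : (cont x).ncard ∣ 16 := by
    rw [← h, show (cont x).ncard * (9 * c) = (cont x).ncard * c * 9 by ring, show (144 : ℕ) = 16 * 9 from rfl] at hC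
    exact (Dvd.intro c rfl).trans (Nat.dvd_of_mul_dvd_mul_right (by norm_num) hC)
  have hcases : (cont x).ncard = 1 ∨ (cont x).ncard = 4 ∨ (cont x).ncard = 16 := by
    have : ∀ j ∈ Nat.divisors 16, j % 3 = 1 → j = 1 ∨ j = 4 ∨ j = 16 := by decide +kernel
    exact this _ (Nat.mem_divisors.2 ⟨h16, by norm_num⟩) hm
  have hO := nOrbit_cases hG R hx h1
  simp only [Finset.mem_insert, Finset.mem_singleton] at hO
  rcases hcases with e | e | e
  · exact Or.inl e
  · refine Or.inr ⟨e, fun hN => ?_⟩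
    rw [e] at h
    rw [hN] at horb
    rcases hO with o | o | o <;> rw [o] at horb <;> omega
  · exfalso
    rw [e] at h
    rcases three_normalizer_cases hG R with hN | hN <;> rw [hN] at horb <;>
      rcases hO with o | o | o <;> rw [o] at horb <;> omega

/-- The orbit count of a Sylow three-subgroup on all of them. -/
theorem nine_dvd_sum (hG : Nat.card G = 7920) (R : Sylow 3 G) :
    9 ∣ Nat.card (Sylow 3 G) + ((((R : Subgroup G) : Set G) \ {1}).toFinite.toFinset.sum fun r => (cont r).ncard) := by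
  classical
  have := Fintype.ofFinite G
  have := Fintype.ofFinite (Sylow 3 G)
  have := Fintype.ofFinite ↥(R : Subgroup G)
  have := Fintype.ofFinite (Quotient (MulAction.orbitRel ↥(R : Subgroup G) (Sylow 3 G)))
  have key : ∀ r : ↥(R : Subgroup G), Fintype.card (fixedBy (Sylow 3 G) r) = (cont (r : G)).ncard := by
    intro r
    rw [← Nat.card_eq_fintype_card, ← Nat.card_coe_set_eq]
    refine Nat.card_congr (Equiv.setCongr ?_)
    ext P
    show (r : G) • P = P ↔ (r : G) ∈ (P : Subgroup G)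
    rw [Sylow.smul_eq_iff_mem_normalizer]
    refine ⟨fun h => ?_, fun h => Subgroup.le_normalizer h⟩
    have h2 : (r : G) ∈ (R : Subgroup G) ⊓ (P : Subgroup G) := by
      rw [← R.2.inf_normalizer_sylow P]; exact ⟨r.2, h⟩
    exact h2.2
  have h := sum_card_fixedBy_eq_card_orbits_mul_card_group ↥(R : Subgroup G) (Sylow 3 G)
  rw [Finset.sum_congr rfl fun r _ => key r, ← Finset.add_sum_erase _ _ (Finset.mem_univ 1)] at h
  have h1 : (cont ((1 : ↥(R : Subgroup G)) : G)).ncard = Nat.card (Sylow 3 G) := by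
    have : cont ((1 : ↥(R : Subgroup G)) : G) = Set.univ := Set.eq_univ_of_forall fun P => P.1.one_mem
    rw [this, Set.ncard_univ]
  have h2 : ∑ r ∈ (Finset.univ : Finset ↥(R : Subgroup G)).erase 1, (cont (r : G)).ncard =
      ((((R : Subgroup G) : Set G) \ {1}).toFinite.toFinset.sum fun r => (cont r).ncard) := by
    refine Finset.sum_bij (fun r _ => (r : G)) (fun r hr => ?_) (fun a _ b _ e => Subtype.ext e) (fun a ha => ?_)
      fun r _ => rfl
    · rw [Set.Finite.mem_toFinset]
      exact ⟨r.2, fun e => (Finset.ne_of_mem_erase hr) (Subtype.ext e)⟩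
    · rw [Set.Finite.mem_toFinset] at ha
      exact ⟨⟨a, ha.1⟩, Finset.mem_erase.2 ⟨fun e => ha.2 (congrArg Subtype.val e), Finset.mem_univ _⟩, rfl⟩
  rw [h1, h2, ← Nat.card_eq_fintype_card (α := ↥(R : Subgroup G)), card_three hG R] at h
  exact Dvd.intro_left _ h.symm

/-- The number of non-identity elements of a Sylow three-subgroup lying in four of them, modulo three. -/
theorem cont_four_count (hG : Nat.card G = 7920) (R : Sylow 3 G) :
    9 ∣ Nat.card (Sylow 3 G) + 8 + 3 *
      {r ∈ ((R : Subgroup G) : Set G) | r ≠ 1 ∧ (cont r).ncard = 4}.ncard := by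
  classical
  have h := nine_dvd_sum hG R
  set S := (((R : Subgroup G) : Set G) \ {1}).toFinite.toFinset with hS
  have hS8 : S.card = 8 := by
    rw [hS, ← Set.ncard_eq_toFinset_card, Set.ncard_sdiff (Set.singleton_subset_iff.2 (R : Subgroup G).one_mem),
      Set.ncard_singleton, ← Nat.card_coe_set_eq]
    show Nat.card ↥(R : Subgroup G) - 1 = 8
    rw [card_three hG R]
  have hm : {r ∈ ((R : Subgroup G) : Set G) | r ≠ 1 ∧ (cont r).ncard = 4}.ncard =
      (S.filter fun r => (cont r).ncard = 4).card := by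
    rw [← Set.ncard_coe_finset]
    congr 1
    ext r
    simp [hS, and_assoc]
  have hsum : (S.sum fun r => (cont r).ncard) = S.card + 3 * (S.filter fun r => (cont r).ncard = 4).card := by
    rw [Finset.card_filter, Finset.mul_sum, Finset.card_eq_sum_ones, ← Finset.sum_add_distrib]
    refine Finset.sum_congr rfl fun r hr => ?_
    rw [hS, Set.Finite.mem_toFinset] at hr
    rcases cont_cases hG R hr.1 hr.2 with e | ⟨e, -⟩ <;> simp [e]
  rwa [hsum, hS8, ← hm, ← add_assoc] at h

/-- When the normaliser has order 144 the Sylow subgroups meet trivially. -/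
theorem cont_one_of_card (hG : Nat.card G = 7920) (R : Sylow 3 G)
    (hN : Nat.card ↥(Subgroup.normalizer ((R : Subgroup G) : Set G)) = 144) {x : G}
    (hx : x ∈ (R : Subgroup G)) (h1 : x ≠ 1) : (cont x).ncard = 1 := by
  refine (cont_cases hG R hx h1).resolve_right fun ⟨h4, h8⟩ => ?_
  have hn : Nat.card (Sylow 3 G) = 55 := by
    have h := card_normalizer_mul R
    rw [hN, hG] at h
    omega
  have hall : {r ∈ ((R : Subgroup G) : Set G) | r ≠ 1 ∧ (cont r).ncard = 4}.ncard = 8 := by
    have hsub : nOrbit R x ⊆ {r ∈ ((R : Subgroup G) : Set G) | r ≠ 1 ∧ (cont r).ncard = 4} := by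
      intro a ha
      refine ⟨nOrbit_subset R hx ha, ?_, ?_⟩ <;> obtain ⟨k, rfl⟩ := ha
      · exact fun e => h1 (by simpa using e)
      · show (cont _).ncard = 4
        rw [cont_conj, h4]
    have hle : {r ∈ ((R : Subgroup G) : Set G) | r ≠ 1 ∧ (cont r).ncard = 4}.ncard ≤
        (((R : Subgroup G) : Set G) \ {1}).ncard :=
      Set.ncard_le_ncard (fun r hr => ⟨hr.1, hr.2.1⟩) (Set.toFinite _)
    have hR9 : ((R : Subgroup G) : Set G).ncard = 9 :=
      (Nat.card_coe_set_eq _).symm.trans (card_three hG R)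
    rw [Set.ncard_sdiff (Set.singleton_subset_iff.2 (R : Subgroup G).one_mem), Set.ncard_singleton,
      hR9] at hle
    have := Set.ncard_le_ncard hsub (Set.toFinite _)
    rw [h8 hN] at this
    omega
  have h := cont_four_count hG R
  rw [hn, hall] at h
  omega

end Cfsg.Lib.MathieuEleven
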