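import Cfsg.Agent.Recognition.MathieuEleven.ThreeBasic

/-!
Two hundred and twenty Sylow three-subgroups are impossible when one of them has a centraliser of even
order: a count of products of conjugate involutions.
-/

set_option autoImplicit false

namespace Cfsg.Lib.MathieuEleven

open MulAction Cfsg.Lib.Small
open scoped Pointwise IsMulCommutative

variable {G : Type*} [Group G]

/-- The conjugacy class of an element, as a set. -/
def cls (x : G) : Set G := Set.range fun g : G => g * x * g⁻¹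

theorem self_mem_cls (x : G) : x ∈ cls x := ⟨1, by simp⟩

theorem conj_mem_cls {x a : G} (g : G) (ha : a ∈ cls x) : g * a * g⁻¹ ∈ cls x := by
  obtain ⟨h, rfl⟩ := ha
  exact ⟨g * h, by simp [mul_assoc]⟩

theorem mem_zpowers_three {a b : G} (hb : orderOf b = 3) (ha : a ∈ Subgroup.zpowers b) (h1 : a ≠ 1) :
    a = b ∨ a = b⁻¹ := by
  obtain ⟨i, rfl⟩ := Subgroup.mem_zpowers_iff.1 ha
  rw [← zpow_mod_orderOf, hb] at h1 ⊢
  have : i % (3 : ℕ) = 0 ∨ i % (3 : ℕ) = 1 ∨ i % (3 : ℕ) = 2 := by omega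
  rcases this with e | e | e <;> rw [e] at h1 ⊢
  · exact absurd (zpow_zero b) h1
  · exact Or.inl (zpow_one b)
  · refine Or.inr ?_
    rw [eq_inv_iff_mul_eq_one, show b ^ (2 : ℤ) = b ^ 2 from zpow_ofNat b 2, ← pow_succ]
    show b ^ 3 = 1
    rw [← hb, pow_orderOf_eq_one]

variable [Finite G]

theorem ncard_cls_mul (x : G) : (cls x).ncard * Nat.card ↥(Subgroup.centralizer ({x} : Set G)) = Nat.card G := by
  have h := ncard_conj_orbit (⊤ : Subgroup G) x
  rw [top_inf_eq, Subgroup.card_top] at h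
  have : (Set.range fun k : ↥(⊤ : Subgroup G) => (k : G) * x * (k : G)⁻¹) = cls x := by
    ext a
    exact ⟨fun ⟨k, hk⟩ => ⟨k, hk⟩, fun ⟨k, hk⟩ => ⟨⟨k, trivial⟩, hk⟩⟩
  rwa [this] at h

variable [IsSimpleGroup G]

/-- The number of non-commuting partners in the class of an involution. -/
theorem four_dvd_noncommuting (hG : Nat.card G = 7920) {w : G} (hw : w * w = 1) :
    4 ∣ {a ∈ cls w | w * a ≠ a * w}.ncard := by
  let _ : MulAction G ↥(cls w) :=
    { smul := fun g a => ⟨g * a * g⁻¹, conj_mem_cls g a.2⟩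
      one_smul := fun a => Subtype.ext (show (1 : G) * a * (1 : G)⁻¹ = a by simp)
      mul_smul := fun g h a => Subtype.ext
        (show g * h * a * (g * h)⁻¹ = g * (h * a * h⁻¹) * g⁻¹ by group) }
  have h := four_dvd_moved (hnc hG) (α := ↥(cls w)) hw
  have e : {a ∈ cls w | w * a ≠ a * w} = Subtype.val '' {a : ↥(cls w) | w • a ≠ a} := by
    ext a
    constructor
    · rintro ⟨ha, hne⟩
      refine ⟨⟨a, ha⟩, fun h' => hne ?_, rfl⟩
      have h2 : w * a * w⁻¹ = a := congrArg Subtype.val h'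
      exact mul_inv_eq_iff_eq_mul.1 h2
    · rintro ⟨⟨b, hb⟩, hne, rfl⟩
      refine ⟨hb, fun h' => hne (Subtype.ext ?_)⟩
      exact mul_inv_eq_iff_eq_mul.2 h'
  rw [e, Set.ncard_image_of_injective _ Subtype.val_injective]
  exact h

theorem case18_setup (hG : Nat.card G = 7920) (R : Sylow 3 G)
    (hN : Nat.card ↥(Subgroup.normalizer ((R : Subgroup G) : Set G)) = 36)
    (hC : Nat.card ↥(Subgroup.centralizer ((R : Subgroup G) : Set G)) = 18) {w : G}
    (hw : orderOf w = 2) (hwC : w ∈ Subgroup.centralizer ((R : Subgroup G) : Set G))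
    (hwN : Subgroup.normalizer ((R : Subgroup G) : Set G) ≤ Subgroup.centralizer ({w} : Set G))
    (hwu : ∀ u ∈ Subgroup.centralizer ((R : Subgroup G) : Set G), u * u = 1 → u = 1 ∨ u = w)
    {y : G} (hy : y ∈ (R : Subgroup G)) (hyo : orderOf y = 3) (hy4 : (cont y).ncard = 4) :
    Nat.card ↥(Subgroup.centralizer ({y} : Set G)) = 72 ∧
      Subgroup.normalizer (Subgroup.zpowers y : Set G) = Subgroup.centralizer ({w} : Set G) ∧
      Nat.card ↥(Subgroup.centralizer ({w} : Set G)) = 144 := by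
  have hRc := card_three hG R
  have hy1 : y ≠ 1 := fun e => by simp [e] at hyo
  set N := Subgroup.normalizer ((R : Subgroup G) : Set G) with hNd
  set CR := Subgroup.centralizer ((R : Subgroup G) : Set G) with hCRd
  set Cy := Subgroup.centralizer ({y} : Set G) with hCyd
  set Cw := Subgroup.centralizer ({w} : Set G) with hCwd
  have hCRle : CR ≤ N ⊓ Cy := le_inf (Subgroup.centralizer_le_normalizer _)
    (Subgroup.centralizer_le (Set.singleton_subset_iff.2 hy))
  have hmul := nOrbit_ncard_mul R y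
  rw [hN] at hmul
  change _ * Nat.card ↥(N ⊓ Cy) = 36 at hmul
  have hO := nOrbit_cases hG R hy hy1
  simp only [Finset.mem_insert, Finset.mem_singleton] at hO
  have hk : Nat.card ↥(N ⊓ Cy) = 18 := by
    have h18 := Subgroup.card_le_of_le hCRle
    rw [hC] at h18
    rcases hO with o | o | o <;> rw [o] at hmul <;> omega
  have hinf : N ⊓ Cy = CR := (Subgroup.eq_of_le_of_card_ge hCRle (by rw [hk, hC])).symm
  have hCy : Nat.card ↥Cy = 72 := by
    have h := (cont_ncard_mul hG R hy hy1).1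
    rw [hy4, hk] at h
    exact h.symm
  have hRCy : (R : Subgroup G) ≤ Cy := three_le_centralizer hG R hy
  have h27 : ¬ 3 ^ (2 + 1) ∣ Nat.card ↥Cy := by rw [hCy]; norm_num
  obtain ⟨R', hR'⟩ := exists_sylow_in Cy hRCy (p := 3) (n := 2) (by rw [hRc]; norm_num) h27
  have hcen : Subgroup.normalizer ((R' : Subgroup ↥Cy) : Set ↥Cy) ≤
      Subgroup.centralizer ((R' : Subgroup ↥Cy) : Set ↥Cy) := by
    rw [hR', ← Subgroup.subgroupOf_normalizer_eq hRCy]
    intro a ha
    have haC : (a : G) ∈ CR := hinf ▸ ⟨ha, a.2⟩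
    exact Subgroup.mem_centralizer_iff.2 fun b hb =>
      Subtype.ext (Subgroup.mem_centralizer_iff.1 haC (b : G) hb)
  obtain ⟨K0, hK0n, hK0c, hK0⟩ := exists_complement R' hcen
  rw [show Nat.card ↥(R' : Subgroup ↥Cy) = 9 by
    rw [hR', Nat.card_congr (Subgroup.subgroupOfEquivOfLe hRCy).toEquiv, hRc], hCy] at hK0c
  set K := K0.map Cy.subtype with hKd
  have hKc : Nat.card ↥K = 8 := by
    rw [hKd, Subgroup.card_map_of_injective Cy.subtype_injective]; omega
  have hKCy : K ≤ Cy := Subgroup.map_subtype_le K0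
  have hKn : ∀ c ∈ Cy, ∀ a ∈ K, c * a * c⁻¹ ∈ K := by
    rintro c hc _ ⟨a, ha, rfl⟩
    exact ⟨⟨c, hc⟩ * a * ⟨c, hc⟩⁻¹, hK0n.conj_mem a ha _, rfl⟩
  have hwCy : w ∈ Cy := (hCRle hwC).2
  have hwK : w ∈ K := ⟨⟨w, hwCy⟩, hK0 _ (by
    rw [← Subgroup.orderOf_coe]; show (orderOf w).Coprime 3; rw [hw]; norm_num), rfl⟩
  have hw1 : w ≠ 1 := fun e => by simp [e] at hw
  -- a second generator of `R`
  have hzy : ¬ (R : Subgroup G) ≤ Subgroup.zpowers y := fun h => by
    have := Subgroup.card_le_of_le h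
    rw [hRc, Nat.card_zpowers, hyo] at this
    omega
  obtain ⟨z, hz, hzy⟩ := SetLike.not_le_iff_exists.1 hzy
  have hgen : Subgroup.zpowers y ⊔ Subgroup.zpowers z = (R : Subgroup G) := by
    have hle : Subgroup.zpowers y ⊔ Subgroup.zpowers z ≤ (R : Subgroup G) :=
      sup_le (Subgroup.zpowers_le.2 hy) (Subgroup.zpowers_le.2 hz)
    refine Subgroup.eq_of_le_of_card_ge hle ?_
    have hd : Nat.card ↥(Subgroup.zpowers y ⊔ Subgroup.zpowers z) ∣ 9 := hRc ▸ Subgroup.card_dvd_of_le hle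
    have hlt : Nat.card ↥(Subgroup.zpowers y) < Nat.card ↥(Subgroup.zpowers y ⊔ Subgroup.zpowers z) := by
      refine lt_of_le_of_ne (Subgroup.card_le_of_le le_sup_left) fun e => hzy ?_
      rw [Subgroup.eq_of_le_of_card_ge (le_sup_left : Subgroup.zpowers y ≤ Subgroup.zpowers y ⊔ _) e.ge]
      exact Subgroup.mem_sup_right (Subgroup.mem_zpowers z)
    rw [Nat.card_zpowers, hyo] at hlt
    have : ∀ j ∈ Nat.divisors 9, 3 < j → 9 ≤ j := by decide +kernel
    rw [hRc]
    exact this _ (Nat.mem_divisors.2 ⟨hd, by norm_num⟩) hlt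
  set A := K ⊓ Cw with hA
  have hzCy : z ∈ Cy := hRCy hz
  have hzw : z * w = w * z := Subgroup.mem_centralizer_iff.1 hwC z hz
  have hzA : ∀ a ∈ (A : Set G), z * a * z⁻¹ ∈ (A : Set G) := by
    rintro a ⟨ha1, ha2⟩
    refine ⟨hKn z hzCy a ha1, ?_⟩
    exact Cw.mul_mem (Cw.mul_mem (Subgroup.mem_centralizer_singleton_iff.2 hzw) ha2)
      (Cw.inv_mem (Subgroup.mem_centralizer_singleton_iff.2 hzw))
  have hwA : w ∈ A := ⟨hwK, Subgroup.mem_centralizer_singleton_iff.2 rfl⟩
  have hfix : {a ∈ (A : Set G) | z * a = a * z} = {1, w} := by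
    ext a
    constructor
    · rintro ⟨⟨haK, haw⟩, haz⟩
      have hR : (R : Subgroup G) ≤ Subgroup.centralizer ({a} : Set G) := by
        rw [← hgen]
        refine sup_le (Subgroup.zpowers_le.2 ?_) (Subgroup.zpowers_le.2 (Subgroup.mem_centralizer_singleton_iff.2 haz))
        exact Subgroup.mem_centralizer_singleton_iff.2 (Subgroup.mem_centralizer_singleton_iff.1 (hKCy haK)).symm
      have haC : a ∈ CR := Subgroup.mem_centralizer_iff.2 fun b hb =>
        Subgroup.mem_centralizer_singleton_iff.1 (hR hb)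
      refine hwu a haC ?_
      have h8 : orderOf a ∣ 8 := hKc ▸ Subgroup.orderOf_dvd_natCard K haK
      have h18 : orderOf a ∣ 18 := hC ▸ Subgroup.orderOf_dvd_natCard CR haC
      have h2 : orderOf a ∣ 2 := by simpa using Nat.dvd_gcd h8 h18
      rw [← pow_two]
      exact orderOf_dvd_iff_pow_eq_one.1 h2
    · rintro (rfl | rfl)
      · exact ⟨A.one_mem, by simp⟩
      · exact ⟨hwA, hzw⟩
  have hmod := ncard_conj_mod (p := 3) (x := z) (k := 2) (by
    have := Subgroup.orderOf_dvd_natCard _ hz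
    rw [hRc] at this
    exact orderOf_dvd_iff_pow_eq_one.1 this) hzA
  rw [hfix, Set.ncard_pair hw1.symm, ← Nat.card_coe_set_eq] at hmod
  change Nat.card ↥A % 3 = 2 % 3 at hmod
  have hA8 : A = K := by
    have hAd : Nat.card ↥A ∣ 8 := hKc ▸ Subgroup.card_dvd_of_le inf_le_left
    have h28 : Nat.card ↥A = 2 ∨ Nat.card ↥A = 8 := by
      have : ∀ j ∈ Nat.divisors 8, j % 3 = 2 % 3 → j = 2 ∨ j = 8 := by decide +kernel
      exact this _ (Nat.mem_divisors.2 ⟨hAd, by norm_num⟩) hmod
    rcases h28 with e | e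
    · exfalso
      have : Fact (Nat.Prime 2) := ⟨Nat.prime_two⟩
      have hKp : IsPGroup 2 ↥K := IsPGroup.of_card (p := 2) (n := 3) (by rw [hKc]; norm_num)
      have : Nontrivial ↥K := Finite.one_lt_card_iff_nontrivial.1 (by rw [hKc]; norm_num)
      have := hKp.center_nontrivial
      obtain ⟨⟨c, hc⟩, hc1⟩ := exists_ne (1 : ↥(Subgroup.center ↥K))
      have hcc : ∀ a : ↥K, a * c = c * a := Subgroup.mem_center_iff.1 hc
      have hsub : ({1, w, (c : G)} : Set G) ⊆ (A : Set G) := by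
        rintro a (rfl | rfl | rfl)
        · exact A.one_mem
        · exact hwA
        · exact ⟨c.2, Subgroup.mem_centralizer_singleton_iff.2 (congrArg Subtype.val (hcc ⟨w, hwK⟩)).symm⟩
      by_cases hcw : (c : G) = w
      · have hKA : K ≤ A := fun a ha => ⟨ha, Subgroup.mem_centralizer_singleton_iff.2 (by
          rw [← hcw]; exact congrArg Subtype.val (hcc ⟨a, ha⟩))⟩
        have := Subgroup.card_le_of_le hKA
        omega
      · have h3 := Set.ncard_le_ncard hsub (Set.toFinite _)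
        have hc1' : (c : G) ≠ 1 := fun e' => hc1 (Subtype.ext (Subtype.ext e'))
        have h3' : ({1, w, (c : G)} : Set G).ncard = 3 := by
          rw [Set.ncard_insert_of_notMem (by simp [hw1.symm, hc1'.symm]), Set.ncard_pair (Ne.symm hcw)]
        rw [h3', ← Nat.card_coe_set_eq] at h3
        change 3 ≤ Nat.card ↥A at h3
        omega
    · exact Subgroup.eq_of_le_of_card_ge inf_le_left (by rw [hKc, e])
  have hRw : (R : Subgroup G) ≤ Cw := fun a ha =>
    Subgroup.mem_centralizer_singleton_iff.2 (Subgroup.mem_centralizer_iff.1 hwC a ha)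
  have hCyw : Cy ≤ Cw := by
    have h8 : 8 ∣ Nat.card ↥(Cy ⊓ Cw) := hKc ▸ Subgroup.card_dvd_of_le (le_inf hKCy (hA8 ▸ inf_le_right))
    have h9 : 9 ∣ Nat.card ↥(Cy ⊓ Cw) := hRc ▸ Subgroup.card_dvd_of_le (le_inf hRCy hRw)
    rw [← Subgroup.eq_of_le_of_card_ge (inf_le_left : Cy ⊓ Cw ≤ Cy) (by
      rw [hCy]; exact Nat.le_of_dvd Nat.card_pos (by omega))]
    exact inf_le_right
  set M := Subgroup.normalizer (Subgroup.zpowers y : Set G) with hMd
  have hMc : Nat.card ↥M = 144 := by
    have h1 := (centralizer_le_seventy_two hG R hy hy1).1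
    have h2 := Nat.le_of_dvd (by norm_num) (normalizer_zpowers_dvd hG R hy hy1)
    rw [← hCyd, hCy, ← hMd] at h1
    rw [← hMd] at h2
    omega
  have hMw : M ≤ Cw := by
    obtain ⟨g, hgN, hg⟩ := exists_inverter hG R hy hy1
    have hgM : g ∈ M := mem_normalizer_zpowers (hg ▸ Subgroup.inv_mem _ (Subgroup.mem_zpowers y))
    have hgC : g ∉ Cy := fun h => by
      rw [hCyd, Subgroup.mem_centralizer_singleton_iff] at h
      rw [h, mul_inv_cancel_right] at hg
      have h2 : orderOf y ∣ 2 := orderOf_dvd_of_pow_eq_one (by rw [pow_two]; nth_rw 1 [hg]; simp)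
      rw [hyo] at h2
      omega
    have hlt : Cy < M ⊓ Cw := lt_of_le_of_ne (le_inf (centralizer_le_normalizer_zpowers y) hCyw)
      fun e => hgC (e ▸ ⟨hgM, hwN hgN⟩)
    have h72 : 72 < Nat.card ↥(M ⊓ Cw) := by
      refine hCy ▸ lt_of_le_of_ne (Subgroup.card_le_of_le hlt.le) fun e => hlt.ne ?_
      exact Subgroup.eq_of_le_of_card_ge hlt.le e.ge
    have hd : Nat.card ↥(M ⊓ Cw) ∣ 144 := hMc ▸ Subgroup.card_dvd_of_le inf_le_left
    have : ∀ j ∈ Nat.divisors 144, 72 < j → j = 144 := by decide +kernel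
    rw [← Subgroup.eq_of_le_of_card_ge (inf_le_left : M ⊓ Cw ≤ M) (by
      rw [hMc, this _ (Nat.mem_divisors.2 ⟨hd, by norm_num⟩) h72])]
    exact inf_le_right
  have hCw : Nat.card ↥Cw = 144 := by
    have h144 : 144 ∣ Nat.card ↥Cw := hMc ▸ Subgroup.card_dvd_of_le hMw
    have h11 : ¬ 11 ∣ Nat.card ↥Cw := not_eleven_dvd_centralizer hG hw1 (by rw [hw]; norm_num)
    have hd : Nat.card ↥Cw ∣ 11 * 720 := by
      rw [show 11 * 720 = Nat.card G by rw [hG]]
      exact Subgroup.card_subgroup_dvd_card Cw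
    have h720 : Nat.card ↥Cw ∣ 720 := by
      refine (Nat.Coprime.dvd_mul_left ?_).1 hd
      exact ((Nat.Prime.coprime_iff_not_dvd (by norm_num)).2 h11).symm
    obtain ⟨hs, hsm⟩ := sylow_count Cw hRw (p := 3) (n := 2) (by rw [hRc]; norm_num) (fun h => by
      have := h.trans h720; omega)
    rw [inf_eq_right.2 hwN, hN] at hs
    have : ∀ j ∈ Nat.divisors 720, 144 ∣ j → j = 144 ∨ j = 720 := by decide +kernel
    rcases this _ (Nat.mem_divisors.2 ⟨h720, by norm_num⟩) h144 with e | e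
    · exact e
    · rw [e] at hs; omega
  exact ⟨hCy, Subgroup.eq_of_le_of_card_ge hMw (by rw [hMc, hCw]), hCw⟩

/-- A centraliser of order 18 of a Sylow three-subgroup with normaliser of order 36 is impossible. -/
theorem case18 (hG : Nat.card G = 7920) (R : Sylow 3 G)
    (hN : Nat.card ↥(Subgroup.normalizer ((R : Subgroup G) : Set G)) = 36)
    (hC : Nat.card ↥(Subgroup.centralizer ((R : Subgroup G) : Set G)) = 18) : False := by
  classical
  have hRc := card_three hG R
  set N := Subgroup.normalizer ((R : Subgroup G) : Set G) with hNd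
  set CR := Subgroup.centralizer ((R : Subgroup G) : Set G) with hCRd
  have hRC : (R : Subgroup G) ≤ CR :=
    Subgroup.le_centralizer_iff_isMulCommutative.2 (isMulCommutative_three hG R)
  obtain ⟨⟨w, hwC⟩, hwo⟩ := exists_prime_orderOf_dvd_card' (G := ↥CR) 2 (by rw [hC]; norm_num)
  rw [← Subgroup.orderOf_coe] at hwo
  have hw1 : w ≠ 1 := fun e => by simp [e] at hwo
  have hw2 : w * w = 1 := by rw [← pow_two, ← hwo, pow_orderOf_eq_one]
  have hnotR : ∀ a : G, a * a = 1 → a ≠ 1 → a ∉ (R : Subgroup G) := fun a ha ha1 haR => by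
    have h1 : orderOf a ∣ 2 := orderOf_dvd_of_pow_eq_one (by rw [pow_two]; exact ha)
    have h2 := Subgroup.orderOf_dvd_natCard _ haR
    rw [hRc] at h2
    exact ha1 (orderOf_eq_one_iff.1 (Nat.eq_one_of_dvd_coprimes (by norm_num) h1 h2))
  have hidx : ((R : Subgroup G).subgroupOf CR).index = 2 := by
    have h := ((R : Subgroup G).subgroupOf CR).index_mul_card
    rw [Nat.card_congr (Subgroup.subgroupOfEquivOfLe hRC).toEquiv, hRc, hC] at h
    omega
  have hwu : ∀ u ∈ CR, u * u = 1 → u = 1 ∨ u = w := by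
    intro u hu hu2
    by_cases hu1 : u = 1
    · exact Or.inl hu1
    refine Or.inr ?_
    have h := (Subgroup.mul_mem_iff_of_index_two hidx (a := ⟨u, hu⟩) (b := ⟨w, hwC⟩)).2
      ⟨fun h => absurd h (hnotR u hu2 hu1), fun h => absurd h (hnotR w hw2 hw1)⟩
    have hr : u * w ∈ (R : Subgroup G) := h
    have hc : (u * w) * w = w * (u * w) := Subgroup.mem_centralizer_iff.1 hwC _ hr
    have huw : u = (u * w) * w := by rw [mul_assoc, hw2, mul_one]
    have hsq : (u * w) * (u * w) = 1 := by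
      calc (u * w) * (u * w) = (u * w) * w * (w * (u * w)) := by
            rw [mul_assoc (u * w) w, ← mul_assoc w w, hw2, one_mul]
        _ = u * u := by rw [← hc, ← huw]
        _ = 1 := hu2
    by_contra hne
    exact hnotR _ hsq (fun e => hne (by
      have := congrArg (· * w) e
      simpa [mul_assoc, hw2] using this)) hr
  have hwN : N ≤ Subgroup.centralizer ({w} : Set G) := by
    intro n hn
    have hmem : n * w * n⁻¹ ∈ CR := by
      rw [hCRd, Subgroup.mem_centralizer_iff]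
      intro b hb
      have h1 := Subgroup.mem_centralizer_iff.1 hwC _ ((Subgroup.mem_normalizer_iff''.1 hn b).1 hb)
      calc b * (n * w * n⁻¹) = n * ((n⁻¹ * b * n) * w) * n⁻¹ := by group
        _ = n * (w * (n⁻¹ * b * n)) * n⁻¹ := by rw [h1]
        _ = n * w * n⁻¹ * b := by group
    rcases hwu _ hmem (by rw [show n * w * n⁻¹ * (n * w * n⁻¹) = n * (w * w) * n⁻¹ by group, hw2]; group) with e | e
    · exact absurd (by simpa using e) hw1
    · exact Subgroup.mem_centralizer_singleton_iff.2 (mul_inv_eq_iff_eq_mul.1 e)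
  -- an element of order three in four Sylow subgroups
  obtain ⟨y, hy, hyo, hy4⟩ : ∃ y, y ∈ (R : Subgroup G) ∧ orderOf y = 3 ∧ (cont y).ncard = 4 := by
    have hcount := cont_four_count hG R
    have hn : Nat.card (Sylow 3 G) = 220 := by
      have h := card_normalizer_mul R
      rw [← hNd, hN, hG] at h
      omega
    rw [hn] at hcount
    obtain ⟨r, hr, hr1, hr4⟩ : {r ∈ ((R : Subgroup G) : Set G) | r ≠ 1 ∧ (cont r).ncard = 4}.Nonempty := by
      rw [← Set.ncard_pos (Set.toFinite _)]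
      omega
    rcases orderOf_three_elt hG R hr hr1 with e | e
    · exact ⟨r, hr, e, hr4⟩
    · have h3 : orderOf (r ^ 3) = 3 := by
        rw [orderOf_pow' r (by norm_num), e]; norm_num
      have hr3 : r ^ 3 ∈ (R : Subgroup G) := (R : Subgroup G).pow_mem hr 3
      refine ⟨r ^ 3, hr3, h3, ?_⟩
      have hr31 : r ^ 3 ≠ 1 := fun e' => by simp [e'] at h3
      have hsub := Set.ncard_le_ncard (show cont r ⊆ cont (r ^ 3) from fun P hP => P.1.pow_mem hP 3) (Set.toFinite _)
      rcases cont_cases hG R hr3 hr31 with e' | ⟨e', -⟩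
      · omega
      · exact e'
  have hy1 : y ≠ 1 := fun e => by simp [e] at hyo
  obtain ⟨hCy, hMCw, hCw⟩ := case18_setup hG R hN hC hwo hwC hwN hwu hy hyo hy4
  set Cw := Subgroup.centralizer ({w} : Set G) with hCwd
  set Cy := Subgroup.centralizer ({y} : Set G) with hCyd
  -- uniqueness
  have huniq : ∀ x ∈ (R : Subgroup G), orderOf x = 3 → (cont x).ncard = 4 → x ∈ Subgroup.zpowers y := by
    intro x hx hxo hx4
    by_contra hxy
    obtain ⟨-, hMx, -⟩ := case18_setup hG R hN hC hwo hwC hwN hwu hx hxo hx4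
    have hle : Subgroup.zpowers y ⊔ Subgroup.zpowers x ≤ (R : Subgroup G) :=
      sup_le (Subgroup.zpowers_le.2 hy) (Subgroup.zpowers_le.2 hx)
    have hgen : Subgroup.zpowers y ⊔ Subgroup.zpowers x = (R : Subgroup G) := by
      refine Subgroup.eq_of_le_of_card_ge hle ?_
      have hd := hRc ▸ Subgroup.card_dvd_of_le hle
      have hlt : 3 < Nat.card ↥(Subgroup.zpowers y ⊔ Subgroup.zpowers x) := by
        refine lt_of_le_of_ne ?_ fun e => hxy ?_
        · have := Subgroup.card_le_of_le (le_sup_left : Subgroup.zpowers y ≤ Subgroup.zpowers y ⊔ Subgroup.zpowers x)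
          rwa [Nat.card_zpowers, hyo] at this
        · rw [Subgroup.eq_of_le_of_card_ge (le_sup_left : Subgroup.zpowers y ≤ Subgroup.zpowers y ⊔ _) (by
            rw [Nat.card_zpowers, hyo]; exact e.ge)]
          exact Subgroup.mem_sup_right (Subgroup.mem_zpowers x)
      have : ∀ j ∈ Nat.divisors 9, 3 < j → 9 ≤ j := by decide +kernel
      rw [hRc]
      exact this _ (Nat.mem_divisors.2 ⟨hd, by norm_num⟩) hlt
    have hCwN : Cw ≤ N := by
      intro g hg
      have hgy : g ∈ Subgroup.normalizer (Subgroup.zpowers y : Set G) := hMCw ▸ hg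
      have hgx : g ∈ Subgroup.normalizer (Subgroup.zpowers x : Set G) := hMx ▸ hg
      have hmap : (R : Subgroup G).map (MulAut.conj g).toMonoidHom ≤ (R : Subgroup G) := by
        rw [← hgen, Subgroup.map_sup]
        refine sup_le_sup ?_ ?_
        · rintro _ ⟨a, ha, rfl⟩
          exact (Subgroup.mem_normalizer_iff.1 hgy a).1 ha
        · rintro _ ⟨a, ha, rfl⟩
          exact (Subgroup.mem_normalizer_iff.1 hgx a).1 ha
      have heq := Subgroup.eq_of_le_of_card_ge hmap (Subgroup.card_map_of_injective (MulAut.conj g).injective).ge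
      rw [hNd, Subgroup.mem_normalizer_iff]
      intro a
      refine ⟨fun ha => hmap ⟨a, ha, rfl⟩, fun ha => ?_⟩
      rw [← heq] at ha
      obtain ⟨b, hb, hbe⟩ := ha
      exact (MulAut.conj g).injective hbe ▸ hb
    have := Subgroup.card_le_of_le hCwN
    omega
  have hCx : ∀ x ∈ (R : Subgroup G), orderOf x = 3 → x ∉ Subgroup.zpowers y →
      Subgroup.centralizer ({x} : Set G) = CR := by
    intro x hx hxo hxy
    have hx1 : x ≠ 1 := fun e => by simp [e] at hxo
    have h1 := (cont_cases hG R hx hx1).resolve_right fun h => hxy (huniq x hx hxo h.1)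
    obtain ⟨h, -⟩ := cont_ncard_mul hG R hx hx1
    rw [h1, one_mul, ← hNd] at h
    have hmul := nOrbit_ncard_mul R x
    rw [← hNd, hN, h] at hmul
    have hO := nOrbit_cases hG R hx hx1
    simp only [Finset.mem_insert, Finset.mem_singleton] at hO
    have hle : CR ≤ Subgroup.centralizer ({x} : Set G) := Subgroup.centralizer_le (Set.singleton_subset_iff.2 hx)
    refine (Subgroup.eq_of_le_of_card_ge hle ?_).symm
    rw [hC]
    rcases hO with o | o | o <;> rw [o] at hmul <;> omega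
  -- conjugates of `y` inside its centraliser
  have hconjy : ∀ g : G, g * y * g⁻¹ ∈ Cy → g * y * g⁻¹ = y ∨ g * y * g⁻¹ = y⁻¹ := by
    intro g hg
    set t := g * y * g⁻¹ with ht
    have hto : orderOf t = 3 := hyo ▸ orderOf_injective (MulAut.conj g).toMonoidHom (MulAut.conj g).injective y
    obtain ⟨P, hP⟩ : ∃ P : Sylow 3 ↥Cy, Subgroup.zpowers (⟨t, hg⟩ : ↥Cy) ≤ P :=
      IsPGroup.exists_le_sylow (IsPGroup.of_card (p := 3) (n := 1) (by
        rw [Nat.card_zpowers, ← Subgroup.orderOf_coe, pow_one]; exact hto))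
    obtain ⟨R', hR'⟩ := exists_sylow_in Cy (three_le_centralizer hG R hy) (p := 3) (n := 2)
      (by rw [hRc]; norm_num) (by rw [hCy]; norm_num)
    obtain ⟨⟨c, hc⟩, hcP⟩ := exists_smul_eq ↥Cy P R'
    have hmem : (⟨c, hc⟩ : ↥Cy) * ⟨t, hg⟩ * (⟨c, hc⟩ : ↥Cy)⁻¹ ∈ (R' : Subgroup ↥Cy) := by
      rw [← hcP]
      exact Subgroup.smul_mem_pointwise_smul (⟨t, hg⟩ : ↥Cy) (MulAut.conj (⟨c, hc⟩ : ↥Cy)) _
        (hP (Subgroup.mem_zpowers _))
    rw [hR', Subgroup.mem_subgroupOf] at hmem
    change c * t * c⁻¹ ∈ (R : Subgroup G) at hmem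
    rw [ht, show c * (g * y * g⁻¹) * c⁻¹ = (c * g) * y * (c * g)⁻¹ by group] at hmem
    obtain ⟨⟨k, hk⟩, hk'⟩ := fusion hG R hy hmem
    have hkm : k ∈ Subgroup.normalizer (Subgroup.zpowers y : Set G) := hMCw ▸ hwN hk
    have hz : k * y * k⁻¹ ∈ Subgroup.zpowers y :=
      (Subgroup.mem_normalizer_iff.1 hkm y).1 (Subgroup.mem_zpowers y)
    have hz' : c * t * c⁻¹ ∈ Subgroup.zpowers y := by
      rw [ht, show c * (g * y * g⁻¹) * c⁻¹ = (c * g) * y * (c * g)⁻¹ by group, ← hk']
      exact hz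
    have ht1 : c * t * c⁻¹ ≠ 1 := fun e => by
      have : t = 1 := by simpa using e
      rw [this, orderOf_one] at hto
      omega
    have hcy : c * y = y * c := Subgroup.mem_centralizer_singleton_iff.1 hc
    have hte : t = c⁻¹ * (c * t * c⁻¹) * c := by group
    rcases mem_zpowers_three hyo hz' ht1 with e | e <;> rw [e] at hte
    · exact Or.inl (hte.trans (by rw [mul_assoc, ← hcy, inv_mul_cancel_left]))
    · refine Or.inr (hte.trans ?_)
      rw [mul_assoc, ((show Commute c y from hcy).inv_right).eq.symm, inv_mul_cancel_left]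
  -- the class of `w`
  set W := cls w with hWd
  set D := {u ∈ W | w * u = u * w ∧ u ≠ w} with hDd
  have hW55 : W.ncard = 55 := by
    have h := ncard_cls_mul w
    rw [← hCwd, hCw, hG, ← hWd] at h
    omega
  have hWsq : ∀ a ∈ W, a * a = 1 := by
    rintro _ ⟨g, rfl⟩
    show g * w * g⁻¹ * (g * w * g⁻¹) = 1
    rw [show g * w * g⁻¹ * (g * w * g⁻¹) = g * (w * w) * g⁻¹ by group, hw2]; group
  have hinvsq : ∀ a ∈ W, a⁻¹ = a := fun a ha => inv_eq_of_mul_eq_one_right (hWsq a ha)
  have hyw : y * w = w * y := Subgroup.mem_centralizer_iff.1 hwC y hy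
  have hDinv : ∀ u ∈ D, u * y * u = y⁻¹ := by
    rintro u ⟨huW, huw, hune⟩
    have huM : u ∈ Subgroup.normalizer (Subgroup.zpowers y : Set G) :=
      hMCw ▸ Subgroup.mem_centralizer_singleton_iff.2 huw.symm
    have hz := (Subgroup.mem_normalizer_iff.1 huM y).1 (Subgroup.mem_zpowers y)
    have hne1 : u * y * u⁻¹ ≠ 1 := fun e => hy1 (by simpa using e)
    rcases mem_zpowers_three hyo hz hne1 with e | e
    · exfalso
      obtain ⟨h, rfl⟩ := huW
      have hy' : h⁻¹ * y * h ∈ Cw := by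
        rw [hCwd, Subgroup.mem_centralizer_singleton_iff]
        have h1 : h * w * h⁻¹ * y = y * (h * w * h⁻¹) := mul_inv_eq_iff_eq_mul.1 e
        calc h⁻¹ * y * h * w = h⁻¹ * (y * (h * w * h⁻¹)) * h := by group
          _ = h⁻¹ * (h * w * h⁻¹ * y) * h := by rw [h1]
          _ = w * (h⁻¹ * y * h) := by group
      set t := h⁻¹ * y * h with htd
      have hto : orderOf t = 3 := by
        rw [htd, ← hyo]
        simpa using orderOf_injective (MulAut.conj h⁻¹).toMonoidHom (MulAut.conj h⁻¹).injective y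
      have htM : t ∈ Subgroup.normalizer (Subgroup.zpowers y : Set G) := hMCw ▸ hy'
      have hcomm := commute_of_small hto htM (by rw [Nat.card_zpowers, hyo]) y (Subgroup.mem_zpowers y)
      have hh : h⁻¹ * y * h⁻¹⁻¹ ∈ Cy := by
        rw [inv_inv, hCyd]
        exact Subgroup.mem_centralizer_singleton_iff.2 hcomm
      have hhy := hconjy h⁻¹ hh
      have hhM : h⁻¹ ∈ Cw := hMCw ▸ mem_normalizer_zpowers (by
        rcases hhy with e' | e' <;> rw [e']
        · exact Subgroup.mem_zpowers y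
        · exact Subgroup.inv_mem _ (Subgroup.mem_zpowers y))
      have h2 := Subgroup.mem_centralizer_singleton_iff.1 (Cw.inv_mem hhM)
      rw [inv_inv] at h2
      refine hune ?_
      show h * w * h⁻¹ = w
      rw [h2, mul_inv_cancel_right]
    · rwa [hinvsq u huW] at e
  have hDfree : ∀ x ∈ (R : Subgroup G), ∀ u ∈ D, x * u = u * x → x = 1 := by
    intro x hx u hu hxu
    by_contra hx1
    obtain ⟨x', hx', hx'o, hx'u⟩ : ∃ x' ∈ (R : Subgroup G), orderOf x' = 3 ∧ x' * u = u * x' := by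
      rcases orderOf_three_elt hG R hx hx1 with e | e
      · exact ⟨x, hx, e, hxu⟩
      · exact ⟨x ^ 3, (R : Subgroup G).pow_mem hx 3, by rw [orderOf_pow' x (by norm_num), e]; norm_num,
          (show Commute x u from hxu).pow_left 3⟩
    by_cases hxy : x' ∈ Subgroup.zpowers y
    · have hcy : u * y = y * u := by
        have hx'1 : x' ≠ 1 := fun e => by simp [e] at hx'o
        rcases mem_zpowers_three hyo hxy hx'1 with e | e <;> rw [e] at hx'u
        · exact hx'u.symm
        · exact (Commute.inv_left_iff.1 (show Commute y⁻¹ u from hx'u)).eq.symm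
      have h := hDinv u hu
      rw [hcy, mul_assoc, hWsq u hu.1, mul_one] at h
      have h2 : orderOf y ∣ 2 := orderOf_dvd_of_pow_eq_one (by rw [pow_two]; nth_rw 1 [h]; simp)
      rw [hyo] at h2
      omega
    · have huC : u ∈ CR := hCx x' hx' hx'o hxy ▸ Subgroup.mem_centralizer_singleton_iff.2 hx'u.symm
      rcases hwu u huC (hWsq u hu.1) with e | e
      · obtain ⟨⟨g, hg⟩, -, -⟩ := hu
        exact hw1 (by simpa [← hg] using e)
      · exact hu.2.2 e
  have hRwcomm : ∀ x ∈ (R : Subgroup G), x * w = w * x := Subgroup.mem_centralizer_iff.1 hwC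
  have hDconj : ∀ c : G, c * w = w * c → ∀ a ∈ D, c * a * c⁻¹ ∈ D := by
    rintro c hcw a ⟨haW, haw, hane⟩
    have hcwc : c * w * c⁻¹ = w := by rw [hcw, mul_inv_cancel_right]
    refine ⟨conj_mem_cls c haW, ?_, fun e => hane ?_⟩
    · calc w * (c * a * c⁻¹) = (c * w * c⁻¹) * (c * a * c⁻¹) := by rw [hcwc]
        _ = c * (w * a) * c⁻¹ := by group
        _ = c * (a * w) * c⁻¹ := by rw [haw]
        _ = c * a * c⁻¹ * (c * w * c⁻¹) := by group
        _ = c * a * c⁻¹ * w := by rw [hcwc]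
    · rw [← hcwc] at e
      simpa using e
  have h9D : 9 ∣ D.ncard := by
    rw [← hRc]
    exact dvd_of_free _ D (fun x hx a ha => hDconj x (hRwcomm x hx) a ha) hDfree
  set N0 := {a ∈ W | w * a ≠ a * w} with hN0
  have hpart : D.ncard + N0.ncard = 54 := by
    have h : W = insert w (D ∪ N0) := by
      ext a
      constructor
      · intro ha
        by_cases h1 : a = w
        · exact Or.inl h1
        · by_cases h2 : w * a = a * w
          · exact Or.inr (Or.inl ⟨ha, h2, h1⟩)
          · exact Or.inr (Or.inr ⟨ha, h2⟩)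
      · rintro (rfl | h | h)
        · exact self_mem_cls a
        · exact h.1
        · exact h.1
    have hd : Disjoint D N0 := Set.disjoint_left.2 fun a ha hb => hb.2 ha.2.1
    rw [h, Set.ncard_insert_of_notMem (by
      rintro (h' | h')
      · exact h'.2.2 rfl
      · exact h'.2 rfl) (Set.toFinite _), Set.ncard_union_eq hd (Set.toFinite _) (Set.toFinite _)] at hW55
    omega
  have h4N : 4 ∣ N0.ncard := four_dvd_noncommuting hG hw2
  -- pairs
  set Y := cls y with hYd
  have hY : Y.ncard = 110 := by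
    have h := ncard_cls_mul y
    rw [← hCyd, hCy, hG, ← hYd] at h
    omega
  set F : G → Set G := fun g => {a ∈ W | a * g * a = g⁻¹} with hFd
  have hFy : F y = D := by
    ext a
    refine ⟨fun ⟨haW, ha⟩ => ⟨haW, ?_, ?_⟩, fun h => ⟨h.1, hDinv a h⟩⟩
    · have hm : a ∈ Subgroup.normalizer (Subgroup.zpowers y : Set G) := mem_normalizer_zpowers (by
        rw [hinvsq a haW, ha]; exact Subgroup.inv_mem _ (Subgroup.mem_zpowers y))
      rw [hMCw] at hm
      exact (Subgroup.mem_centralizer_singleton_iff.1 hm).symm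
    · rintro rfl
      rw [← hyw, mul_assoc, hw2, mul_one] at ha
      have h2 : orderOf y ∣ 2 := orderOf_dvd_of_pow_eq_one (by rw [pow_two]; nth_rw 1 [ha]; simp)
      rw [hyo] at h2
      omega
  have hFconj : ∀ g ∈ Y, (F g).ncard = D.ncard := by
    rintro _ ⟨h, rfl⟩
    rw [← hFy]
    have : F (h * y * h⁻¹) = (fun a => h * a * h⁻¹) '' F y := by
      ext a
      constructor
      · rintro ⟨haW, ha⟩
        refine ⟨h⁻¹ * a * h, ⟨by simpa using conj_mem_cls h⁻¹ haW, ?_⟩, by group⟩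
        calc h⁻¹ * a * h * y * (h⁻¹ * a * h) = h⁻¹ * (a * (h * y * h⁻¹) * a) * h := by group
          _ = h⁻¹ * (h * y * h⁻¹)⁻¹ * h := by rw [ha]
          _ = y⁻¹ := by group
      · rintro ⟨b, ⟨hbW, hb⟩, rfl⟩
        refine ⟨conj_mem_cls h hbW, ?_⟩
        calc h * b * h⁻¹ * (h * y * h⁻¹) * (h * b * h⁻¹) = h * (b * y * b) * h⁻¹ := by group
          _ = h * y⁻¹ * h⁻¹ := by rw [hb]
          _ = (h * y * h⁻¹)⁻¹ := by group
    rw [this, Set.ncard_image_of_injective _ fun a b e => by simpa using e]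
  set Dom := {p : G × G | p.1 ∈ Y ∧ p.2 ∈ F p.1} with hDom
  have hDomc : Dom.ncard = 110 * D.ncard := by rw [hDom, ncard_pairs Y F D.ncard hFconj, hY]
  set F2 : G → Set G := fun a => {b ∈ W | a * b ≠ b * a} with hF2d
  set Cod := {p : G × G | p.1 ∈ W ∧ p.2 ∈ F2 p.1} with hCod
  have hF2 : ∀ a ∈ W, (F2 a).ncard = N0.ncard := by
    rintro _ ⟨h, rfl⟩
    have : F2 (h * w * h⁻¹) = (fun a => h * a * h⁻¹) '' N0 := by
      ext b
      constructor
      · rintro ⟨hbW, hb⟩
        refine ⟨h⁻¹ * b * h, ⟨by simpa using conj_mem_cls h⁻¹ hbW, fun e => hb ?_⟩, by group⟩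
        calc h * w * h⁻¹ * b = h * (w * (h⁻¹ * b * h)) * h⁻¹ := by group
          _ = h * (h⁻¹ * b * h * w) * h⁻¹ := by rw [e]
          _ = b * (h * w * h⁻¹) := by group
      · rintro ⟨c, ⟨hcW, hc⟩, rfl⟩
        refine ⟨conj_mem_cls h hcW, fun e => hc ?_⟩
        have e' := congrArg (fun t => h⁻¹ * t * h) e
        simpa [mul_assoc] using e'
    rw [this, Set.ncard_image_of_injective _ fun a b e => by simpa using e]
  have hCodc : Cod.ncard = 55 * N0.ncard := by rw [hCod, ncard_pairs W F2 N0.ncard hF2, hW55]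
  set Φ : G × G → G × G := fun p => (p.2, p.2 * p.1) with hΦ
  have hΦinj : Function.Injective Φ := by
    intro p q e
    simp only [hΦ, Prod.mk.injEq] at e
    obtain ⟨e1, e2⟩ := e
    rw [e1] at e2
    exact Prod.ext (mul_left_cancel e2) e1
  have hY3 : ∀ g ∈ Y, orderOf g = 3 := by
    rintro _ ⟨h, rfl⟩
    exact hyo ▸ orderOf_injective (MulAut.conj h).toMonoidHom (MulAut.conj h).injective y
  have himg : Φ '' Dom ⊆ Cod := by
    rintro _ ⟨⟨g, a⟩, ⟨hg, haW, ha⟩, rfl⟩
    simp only [hΦ] at *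
    have hg3 : g * g * g = 1 := by
      rw [← pow_two, ← pow_succ]
      show g ^ 3 = 1
      rw [← hY3 g hg, pow_orderOf_eq_one]
    have hga : g * a = a * g⁻¹ := by
      calc g * a = (a * a) * (g * a) := by rw [hWsq a haW, one_mul]
        _ = a * (a * g * a) := by group
        _ = a * g⁻¹ := by rw [ha]
    refine ⟨haW, ?_, ?_⟩
    · have : g * a * g⁻¹ = a * g := by
        rw [hga]
        calc a * g⁻¹ * g⁻¹ = a * g⁻¹ * g⁻¹ * (g * g * g) := by rw [hg3, mul_one]
          _ = a * g := by group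
      exact this ▸ conj_mem_cls g haW
    · intro e
      rw [← mul_assoc, hWsq a haW, one_mul, ha] at e
      have h2 : orderOf g ∣ 2 := orderOf_dvd_of_pow_eq_one (by rw [pow_two]; nth_rw 1 [e]; simp)
      rw [hY3 g hg] at h2
      omega
  have hineq := Set.ncard_le_ncard himg (Set.toFinite _)
  rw [Set.ncard_image_of_injective _ hΦinj, hDomc, hCodc] at hineq
  have hD18 : D.ncard = 18 := by omega
  have heq : Φ '' Dom = Cod := Set.eq_of_subset_of_ncard_le himg (by
    rw [Set.ncard_image_of_injective _ hΦinj, hDomc, hCodc]; omega) (Set.toFinite _)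
  have hprod : ∀ a ∈ W, ∀ b ∈ W, a * b ≠ b * a → a * b ∈ Y := by
    intro a ha b hb hab
    have hm : (a, b) ∈ Cod := ⟨ha, hb, hab⟩
    rw [← heq] at hm
    obtain ⟨⟨g, c⟩, ⟨hg, -⟩, he⟩ := hm
    simp only [hΦ, Prod.mk.injEq] at he
    obtain ⟨rfl, rfl⟩ := he
    rw [← mul_assoc, hWsq c ha, one_mul]
    exact hg
  obtain ⟨u, hu⟩ : D.Nonempty := (Set.ncard_pos (Set.toFinite _)).1 (by omega)
  have hzy : ¬ (R : Subgroup G) ≤ Subgroup.zpowers y := fun h => by
    have := Subgroup.card_le_of_le h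
    rw [hRc, Nat.card_zpowers, hyo] at this
    omega
  obtain ⟨x, hx, hxy⟩ := SetLike.not_le_iff_exists.1 hzy
  set u' := x * u * x⁻¹ with hu'
  have hu'D : u' ∈ D := hDconj x (hRwcomm x hx) u hu
  have hydist : ∀ i : G, i ∈ Subgroup.zpowers y → u' ≠ i * u * i⁻¹ := by
    intro i hi e
    have hiR : i ∈ (R : Subgroup G) := Subgroup.zpowers_le.2 hy hi
    have hc : (i⁻¹ * x) * u = u * (i⁻¹ * x) := by
      calc (i⁻¹ * x) * u = i⁻¹ * (x * u * x⁻¹) * x := by group
        _ = i⁻¹ * (i * u * i⁻¹) * x := by rw [← e]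
        _ = u * (i⁻¹ * x) := by group
    have h1 := hDfree _ ((R : Subgroup G).mul_mem ((R : Subgroup G).inv_mem hiR) hx) u hu hc
    exact hxy (inv_mul_eq_one.1 h1 ▸ hi)
  have hmove : ∀ v ∈ D, v * y = y * v → False := by
    intro v hv hvy
    have h := hDinv v hv
    rw [hvy, mul_assoc, hWsq v hv.1, mul_one] at h
    have h2 : orderOf y ∣ 2 := orderOf_dvd_of_pow_eq_one (by rw [pow_two]; nth_rw 1 [h]; simp)
    rw [hyo] at h2
    omega
  have hpair : ∀ i ∈ Subgroup.zpowers y, (i * u * i⁻¹) * u' = u' * (i * u * i⁻¹) := by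
    intro i hi
    by_contra hne
    set v := i * u * i⁻¹ with hv
    have hiy : i * y = y * i := by
      obtain ⟨j, rfl⟩ := Subgroup.mem_zpowers_iff.1 hi
      exact ((Commute.refl y).zpow_left j).eq
    have hiw : i * w = w * i := hRwcomm i (Subgroup.zpowers_le.2 hy hi)
    have hvD : v ∈ D := hDconj i hiw u hu
    obtain ⟨g, hg⟩ := hprod v hvD.1 u' hu'D.1 hne
    have hcy : v * u' ∈ Cy := by
      rw [hCyd, Subgroup.mem_centralizer_singleton_iff]
      have e1 := hDinv v hvD
      have e2 := hDinv u' hu'D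
      have e3 : u' * y = y⁻¹ * u' := by
        calc u' * y = u' * y * (u' * u') := by rw [hWsq u' hu'D.1, mul_one]
          _ = (u' * y * u') * u' := by group
          _ = y⁻¹ * u' := by rw [e2]
      have e4 : v * y⁻¹ = y * v := by
        calc v * y⁻¹ = v * (v * y * v) := by rw [e1]
          _ = (v * v) * y * v := by group
          _ = y * v := by rw [hWsq v hvD.1, one_mul]
      rw [mul_assoc, e3, ← mul_assoc, e4, mul_assoc]
    have hgC : g * y * g⁻¹ ∈ Cy := by
      rw [show g * y * g⁻¹ = v * u' from hg]; exact hcy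
    obtain ⟨j, hj, hje⟩ : ∃ j ∈ Subgroup.zpowers y, v * u' = j := by
      rcases hconjy g hgC with e | e
      · exact ⟨y, Subgroup.mem_zpowers y, hg.symm.trans e⟩
      · exact ⟨y⁻¹, Subgroup.inv_mem _ (Subgroup.mem_zpowers y), hg.symm.trans e⟩
    have hju : u' = v * j := by rw [← hje, ← mul_assoc, hWsq v hvD.1, one_mul]
    obtain ⟨a, ha⟩ := Subgroup.mem_zpowers_iff.1 hi
    obtain ⟨b, hb⟩ := Subgroup.mem_zpowers_iff.1 hj
    refine hydist (y ^ (a + b)) (Subgroup.zpow_mem _ (Subgroup.mem_zpowers y) _) ?_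
    have hy3 : y ^ (3 : ℤ) = 1 := by rw [zpow_ofNat, ← hyo, pow_orderOf_eq_one]
    have hcv : ∀ c : ℤ, v * y ^ c = y ^ (-c) * v := by
      intro c
      have e1 := hDinv v hvD
      have hz : v * y ^ c * v⁻¹ = y ^ (-c) := by
        rw [← conj_zpow, hinvsq v hvD.1, e1, inv_zpow, zpow_neg]
      rw [← hz, inv_mul_cancel_right]
    rw [hju, ← hb]
    calc v * y ^ b = v * (y ^ (-b) * y ^ (-b)) := by
          rw [← zpow_add]
          conv_rhs => rw [show -b + -b = b + 3 * (-b) by ring, zpow_add, zpow_mul, hy3, one_zpow, mul_one]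
      _ = y ^ b * v * y ^ (-b) := by rw [← mul_assoc, hcv, neg_neg]
      _ = y ^ (a + b) * u * (y ^ (a + b))⁻¹ := by
          rw [hv, ← ha, add_comm a b, zpow_add]; group
  have h0 : u * u' = u' * u := by simpa using hpair 1 (Subgroup.one_mem _)
  have h1 := hpair y (Subgroup.mem_zpowers y)
  refine hmove u' hu'D ?_
  have e1 := hDinv u hu
  have e1' : y * u = u * y⁻¹ := by
    calc y * u = u * u * (y * u) := by rw [hWsq u hu.1, one_mul]
      _ = u * (u * y * u) := by group
      _ = u * y⁻¹ := by rw [e1]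
  have hy3 : y * y * y = 1 := by
    rw [← pow_two, ← pow_succ]
    show y ^ 3 = 1
    rw [← hyo, pow_orderOf_eq_one]
  have hc : y * u * y⁻¹ = u * y := by
    rw [e1']
    calc u * y⁻¹ * y⁻¹ = u * y⁻¹ * y⁻¹ * (y * y * y) := by rw [hy3, mul_one]
      _ = u * y := by group
  rw [hc, mul_assoc] at h1
  calc u' * y = u * (u * u') * y := by rw [← mul_assoc, hWsq u hu.1, one_mul]
    _ = u * (u' * (u * y)) := by rw [h0, mul_assoc, mul_assoc]
    _ = u * (u * (y * u')) := by rw [← h1]
    _ = y * u' := by rw [← mul_assoc, hWsq u hu.1, one_mul]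

end Cfsg.Lib.MathieuEleven
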