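import Cfsg.Agent.Recognition.MathieuEleven.ThreeCount

/-!
Fifty-five Sylow three-subgroups in a simple group of order 7920.
-/

set_option autoImplicit false

namespace Cfsg.Lib.MathieuEleven

open MulAction Cfsg.Lib.Small
open scoped Pointwise IsMulCommutative

variable {G : Type*} [Group G] [Finite G]

local instance fact_five'' : Fact (Nat.Prime 5) := ⟨by norm_num⟩

theorem mem_normalizer_of_conj_le {g : G} {X : Subgroup G} (h : ∀ a ∈ X, g * a * g⁻¹ ∈ X) :
    g ∈ Subgroup.normalizer (X : Set G) := by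
  have hmap : X.map (MulAut.conj g).toMonoidHom ≤ X := by
    rintro _ ⟨a, ha, rfl⟩
    exact h a ha
  have heq := Subgroup.eq_of_le_of_card_ge hmap (Subgroup.card_map_of_injective (MulAut.conj g).injective).ge
  rw [Subgroup.mem_normalizer_iff]
  refine fun a => ⟨h a, fun ha => ?_⟩
  rw [← heq] at ha
  obtain ⟨b, hb, hbe⟩ := ha
  exact (MulAut.conj g).injective hbe ▸ hb

/-- An involution normalising an abelian subgroup of odd order without fixed points inverts it. -/
theorem eq_inv_of_fpf {u : G} (hu : u * u = 1) {R : Subgroup G} (hR : IsMulCommutative ↥R)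
    (hn : ∀ a ∈ R, u * a * u ∈ R) (hf : ∀ a ∈ R, u * a = a * u → a = 1) {a : G} (ha : a ∈ R) :
    u * a * u = a⁻¹ := by
  have hc : u * a * u * a = a * (u * a * u) :=
    congrArg Subtype.val (hR.is_comm.comm ⟨u * a * u, hn a ha⟩ ⟨a, ha⟩)
  have h1 := hf (u * a * u * a) (R.mul_mem (hn a ha) ha) (by
    calc u * (u * a * u * a) = (u * u) * (a * u * a) := by group
      _ = a * u * a := by rw [hu, one_mul]
      _ = a * (u * a) * (u * u) := by rw [hu, mul_one, mul_assoc]
      _ = (a * (u * a * u)) * u := by group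
      _ = u * a * u * a * u := by rw [← hc])
  exact eq_inv_of_mul_eq_one_left h1

/-- Two involutions of a subgroup with a normal abelian subgroup of index two act alike on it. -/
theorem act_alike {u t : G} {H R : Subgroup G} (hle : R ≤ H) (hidx : (R.subgroupOf H).index = 2)
    (hab : IsMulCommutative ↥R) (hu : u ∈ H) (ht : t ∈ H) (huR : u ∉ R) (htR : t ∉ R) (ht2 : t * t = 1)
    (hn : ∀ a ∈ R, t * a * t ∈ R) {a : G} (ha : a ∈ R) : u * a * u⁻¹ = t * a * t := by
  have h := (Subgroup.mul_mem_iff_of_index_two hidx (a := ⟨u, hu⟩) (b := ⟨t, ht⟩)).2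
    ⟨fun h => absurd h huR, fun h => absurd h htR⟩
  have hr : u * t ∈ R := h
  have hc : u * t * (t * a * t) = t * a * t * (u * t) :=
    congrArg Subtype.val (hab.is_comm.comm ⟨u * t, hr⟩ ⟨t * a * t, hn a ha⟩)
  have e1 : u * a * u⁻¹ = (u * t) * (t * a * t) * (u * t)⁻¹ := by
    calc u * a * u⁻¹ = u * (t * t) * a * u⁻¹ := by rw [ht2, mul_one]
      _ = (u * t) * (t * a * t) * (u * t)⁻¹ := by group
  rw [e1, hc, mul_inv_cancel_right]

/-- Powers of an inverted element. -/
theorem pow_inverts {g x : G} (hg : g * x * g⁻¹ = x⁻¹) :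
    ∀ n : ℕ, g ^ (2 * n + 1) * x * (g ^ (2 * n + 1))⁻¹ = x⁻¹ := by
  intro n
  induction n with
  | zero => simpa using hg
  | succ n ih =>
    have h2 : g * x⁻¹ * g⁻¹ = x := by rw [← conj_inv, hg, inv_inv]
    calc g ^ (2 * (n + 1) + 1) * x * (g ^ (2 * (n + 1) + 1))⁻¹
        = g * (g * (g ^ (2 * n + 1) * x * (g ^ (2 * n + 1))⁻¹) * g⁻¹) * g⁻¹ := by
          rw [show 2 * (n + 1) + 1 = 2 + (2 * n + 1) by ring, pow_add, pow_two]; group
      _ = x⁻¹ := by rw [ih, h2, hg]

variable [IsSimpleGroup G]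

theorem four_not_dvd_five (hG : Nat.card G = 7920) {q : G} (hq : orderOf q = 5) :
    ¬ 4 ∣ Nat.card ↥(Subgroup.centralizer ({q} : Set G)) := by
  intro h4
  obtain ⟨Q, hQ⟩ := exists_sylow_five hG hq
  set N := Subgroup.normalizer ((Q : Subgroup G) : Set G)
  set C := Subgroup.centralizer ((Q : Subgroup G) : Set G) with hC
  have hCq : C = Subgroup.centralizer ({q} : Set G) := by
    rw [hC, hQ, Subgroup.zpowers_eq_closure, Subgroup.centralizer_closure]
  have h1 := card_inf_mul_relIndex C N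
  rw [inf_eq_right.2 (Subgroup.centralizer_le_normalizer _), five_sylow hG Q] at h1
  have hd : C.relIndex N ∣ 4 := relIndex_centralizer_dvd (card_five hG Q) le_rfl
  have hne : C.relIndex N ≠ 1 := fun e =>
    not_normalizer_le_centralizer (hnc hG) (dvd_card hG (by norm_num)) Q (Subgroup.relIndex_eq_one.1 e)
  have : ∀ j ∈ Nat.divisors 4, j ≠ 1 → j = 2 ∨ j = 4 := by decide +kernel
  rw [← hCq] at h4
  rw [← hC] at h1
  rcases this _ (Nat.mem_divisors.2 ⟨hd, by norm_num⟩) hne with e | e <;> rw [e] at h1 <;> omega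

theorem case9_subB_local (hG : Nat.card G = 7920) (R : Sylow 3 G)
    (hodd : ∀ v : G, v ≠ 1 → v * v = 1 → ¬ 9 ∣ Nat.card ↥(Subgroup.centralizer ({v} : Set G)))
    (hC : Nat.card ↥(Subgroup.centralizer ((R : Subgroup G) : Set G)) = 9)
    {u : G} (hu : orderOf u = 2) (huN : u ∈ Subgroup.normalizer ((R : Subgroup G) : Set G))
    (huinv : ∀ a ∈ (R : Subgroup G), u * a * u = a⁻¹)
    {x : G} (hx : x ∈ (R : Subgroup G)) (hxo : orderOf x = 3)
    (hk : Nat.card ↥(Subgroup.normalizer ((R : Subgroup G) : Set G) ⊓ Subgroup.centralizer ({x} : Set G)) = 9)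
    (h4 : (cont x).ncard = 4) : ∃ h : G, h * x * h⁻¹ * u = u * (h * x * h⁻¹) := by
  classical
  have hRc := card_three hG R
  have hx1 : x ≠ 1 := fun e => by simp [e] at hxo
  have hu2 : u * u = 1 := by rw [← pow_two, ← hu, pow_orderOf_eq_one]
  have huinv' : u⁻¹ = u := inv_eq_of_mul_eq_one_right hu2
  have hu1 : u ≠ 1 := fun e => by simp [e] at hu
  set N := Subgroup.normalizer ((R : Subgroup G) : Set G) with hNd
  set Cx := Subgroup.centralizer ({x} : Set G) with hCxd
  have hRCx : (R : Subgroup G) ≤ Cx := three_le_centralizer hG R hx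
  have hCx : Nat.card ↥Cx = 36 := by
    have h := (cont_ncard_mul hG R hx hx1).1
    rw [h4, ← hNd, ← hCxd, hk] at h
    exact h.symm
  set M := Subgroup.normalizer (Subgroup.zpowers x : Set G) with hMd
  have hCxM : Cx ≤ M := centralizer_le_normalizer_zpowers x
  have hMc : Nat.card ↥M = 72 := by
    have h1 := (centralizer_le_seventy_two hG R hx hx1).1
    rw [← hCxd, ← hMd, hCx] at h1
    have h2 : Cx.relIndex M ∣ 2 := by
      have := relIndex_centralizer_dvd (p := 3) (P := Subgroup.zpowers x) (by rw [Nat.card_zpowers, hxo])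
        (T := M) le_rfl
      rwa [Subgroup.zpowers_eq_closure, Subgroup.centralizer_closure] at this
    have h3 := card_inf_mul_relIndex Cx M
    rw [inf_eq_right.2 hCxM, hCx] at h3
    have := Nat.le_of_dvd (by norm_num) h2
    nlinarith
  have huM : u ∈ M := mem_normalizer_zpowers (by
    rw [huinv', huinv x hx]; exact Subgroup.inv_mem _ (Subgroup.mem_zpowers x))
  have huCx : u ∉ Cx := fun h => by
    have e := huinv x hx
    rw [hCxd, Subgroup.mem_centralizer_singleton_iff] at h
    rw [h, mul_assoc, hu2, mul_one] at e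
    have h2 : orderOf x ∣ 2 := orderOf_dvd_of_pow_eq_one (by rw [pow_two]; nth_rw 1 [e]; simp)
    rw [hxo] at h2
    omega
  have hCxn : ∀ g ∈ M, ∀ c ∈ Cx, g * c * g⁻¹ ∈ Cx := by
    intro g hg c hc
    have h1 := (Subgroup.mem_normalizer_iff''.1 hg x).1 (Subgroup.mem_zpowers x)
    obtain ⟨i, hi⟩ := Subgroup.mem_zpowers_iff.1 h1
    have hc' : c * (g⁻¹ * x * g) = g⁻¹ * x * g * c := by
      rw [← hi]
      exact ((show Commute c x from Subgroup.mem_centralizer_singleton_iff.1 hc).zpow_right i).eq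
    rw [hCxd, Subgroup.mem_centralizer_singleton_iff]
    calc g * c * g⁻¹ * x = g * (c * (g⁻¹ * x * g)) * g⁻¹ := by group
      _ = g * (g⁻¹ * x * g * c) * g⁻¹ := by rw [hc']
      _ = x * (g * c * g⁻¹) := by group
  -- the normal complement `V`
  have hRN : (R : Subgroup G) ≤ N := Subgroup.le_normalizer
  have hinf : N ⊓ Cx = (R : Subgroup G) :=
    (Subgroup.eq_of_le_of_card_ge (le_inf hRN hRCx) (by rw [hRc, hk])).symm
  obtain ⟨R', hR'⟩ := exists_sylow_in Cx hRCx (p := 3) (n := 2) (by rw [hRc]; norm_num) (by rw [hCx]; norm_num)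
  have hcen : Subgroup.normalizer ((R' : Subgroup ↥Cx) : Set ↥Cx) ≤
      Subgroup.centralizer ((R' : Subgroup ↥Cx) : Set ↥Cx) := by
    rw [hR', ← Subgroup.subgroupOf_normalizer_eq hRCx]
    intro a ha
    have haR : (a : G) ∈ (R : Subgroup G) := hinf ▸ ⟨ha, a.2⟩
    refine Subgroup.mem_centralizer_iff.2 fun b hb => Subtype.ext ?_
    have hc := congrArg Subtype.val ((isMulCommutative_three hG R).is_comm.comm ⟨(b : G), hb⟩ ⟨(a : G), haR⟩)
    simpa using hc
  obtain ⟨K0, -, hK0c, hK0⟩ := exists_complement R' hcen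
  rw [show Nat.card ↥(R' : Subgroup ↥Cx) = 9 by
    rw [hR', Nat.card_congr (Subgroup.subgroupOfEquivOfLe hRCx).toEquiv, hRc], hCx] at hK0c
  set V := K0.map Cx.subtype with hVd
  have hVc : Nat.card ↥V = 4 := by
    rw [hVd, Subgroup.card_map_of_injective Cx.subtype_injective]; omega
  have hVCx : V ≤ Cx := Subgroup.map_subtype_le K0
  have hVord : ∀ a ∈ V, (orderOf a).Coprime 3 := fun a ha =>
    Nat.Coprime.coprime_dvd_left (hVc ▸ Subgroup.orderOf_dvd_natCard V ha) (by norm_num)
  have hVmem : ∀ a ∈ Cx, (orderOf a).Coprime 3 → a ∈ V := fun a ha ho =>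
    ⟨⟨a, ha⟩, hK0 _ (by rw [← Subgroup.orderOf_coe]; exact ho), rfl⟩
  have hVn : ∀ g ∈ M, ∀ a ∈ V, g * a * g⁻¹ ∈ V := fun g hg a ha =>
    hVmem _ (hCxn g hg a (hVCx ha)) (by
      rw [show orderOf (g * a * g⁻¹) = orderOf a from
        orderOf_injective (MulAut.conj g).toMonoidHom (MulAut.conj g).injective a]
      exact hVord a ha)
  have hzx : ¬ (R : Subgroup G) ≤ Subgroup.zpowers x := fun h => by
    have := Subgroup.card_le_of_le h
    rw [hRc, Nat.card_zpowers, hxo] at this
    omega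
  obtain ⟨z, hz, hzx⟩ := SetLike.not_le_iff_exists.1 hzx
  have hgen : Subgroup.zpowers x ⊔ Subgroup.zpowers z = (R : Subgroup G) := by
    have hle : Subgroup.zpowers x ⊔ Subgroup.zpowers z ≤ (R : Subgroup G) :=
      sup_le (Subgroup.zpowers_le.2 hx) (Subgroup.zpowers_le.2 hz)
    refine Subgroup.eq_of_le_of_card_ge hle ?_
    have hd := hRc ▸ Subgroup.card_dvd_of_le hle
    have hlt : 3 < Nat.card ↥(Subgroup.zpowers x ⊔ Subgroup.zpowers z) := by
      refine lt_of_le_of_ne ?_ fun e => hzx ?_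
      · have := Subgroup.card_le_of_le (le_sup_left : Subgroup.zpowers x ≤ Subgroup.zpowers x ⊔ Subgroup.zpowers z)
        rwa [Nat.card_zpowers, hxo] at this
      · rw [Subgroup.eq_of_le_of_card_ge (le_sup_left : Subgroup.zpowers x ≤ Subgroup.zpowers x ⊔ _) (by
          rw [Nat.card_zpowers, hxo]; exact e.ge)]
        exact Subgroup.mem_sup_right (Subgroup.mem_zpowers z)
    have : ∀ j ∈ Nat.divisors 9, 3 < j → 9 ≤ j := by decide +kernel
    rw [hRc]
    exact this _ (Nat.mem_divisors.2 ⟨hd, by norm_num⟩) hlt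
  have hzM : z ∈ M := hCxM (hRCx hz)
  have hzfix : ∀ a ∈ V, z * a = a * z → a = 1 := by
    intro a ha haz
    have haC : a ∈ Subgroup.centralizer ((R : Subgroup G) : Set G) := by
      have hle : (R : Subgroup G) ≤ Subgroup.centralizer ({a} : Set G) := by
        rw [← hgen]
        refine sup_le (Subgroup.zpowers_le.2 ?_) (Subgroup.zpowers_le.2 (Subgroup.mem_centralizer_singleton_iff.2 haz))
        exact Subgroup.mem_centralizer_singleton_iff.2 (Subgroup.mem_centralizer_singleton_iff.1 (hVCx ha)).symm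
      exact Subgroup.mem_centralizer_iff.2 fun b hb => Subgroup.mem_centralizer_singleton_iff.1 (hle hb)
    exact orderOf_eq_one_iff.1 (Nat.eq_one_of_dvd_coprimes (show Nat.Coprime 4 9 by norm_num)
      (hVc ▸ Subgroup.orderOf_dvd_natCard V ha) (hC ▸ Subgroup.orderOf_dvd_natCard _ haC))
  have hVset : (V : Set G).ncard = 4 := (Nat.card_coe_set_eq _).symm.trans hVc
  have hVn1 : ((V : Set G) \ {1}).ncard = 3 := by
    rw [Set.ncard_sdiff (Set.singleton_subset_iff.2 V.one_mem), Set.ncard_singleton, hVset]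
  have hVsq : ∀ a ∈ V, a * a = 1 := by
    intro a ha
    obtain ⟨⟨v, hv⟩, hvo⟩ := exists_prime_orderOf_dvd_card' (G := ↥V) 2 (by rw [hVc]; norm_num)
    rw [← Subgroup.orderOf_coe] at hvo
    change orderOf v = 2 at hvo
    have hv1 : v ≠ 1 := fun e => by simp [e] at hvo
    by_cases ha1 : a = 1
    · rw [ha1, one_mul]
    set f : G → G := fun b => z * b * z⁻¹ with hf
    have hfV : ∀ b ∈ (V : Set G) \ {1}, f b ∈ (V : Set G) \ {1} := fun b hb =>
      ⟨hVn z hzM b hb.1, fun e => hb.2 (by simpa [hf] using e)⟩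
    have hv3 : ({v, f v, f (f v)} : Set G) = (V : Set G) \ {1} := by
      have h0 : v ∈ (V : Set G) \ {1} := ⟨hv, hv1⟩
      have h1 := hfV v h0
      have h2 := hfV _ h1
      refine Set.eq_of_subset_of_ncard_le ?_ ?_ (Set.toFinite _)
      · rintro b (rfl | rfl | rfl) <;> assumption
      · have d1 : v ≠ f v := fun e => hv1 (hzfix v hv (mul_inv_eq_iff_eq_mul.1 e.symm))
        have d2 : v ≠ f (f v) := fun e => by
          have hz3 : z * z * z ∈ Subgroup.centralizer ({v} : Set G) := by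
            have hzo : z ^ 3 = 1 ∨ z ^ 9 = 1 := by
              have := hRc ▸ Subgroup.orderOf_dvd_natCard _ hz
              exact Or.inr (orderOf_dvd_iff_pow_eq_one.1 this)
            rw [Subgroup.mem_centralizer_singleton_iff]
            rcases hzo with e3 | e9
            · rw [← pow_two, ← pow_succ, e3, one_mul, mul_one]
            · have hcx : z * z * v = v * (z * z) := by
                have e' : z * z * v * (z * z)⁻¹ = v := by
                  conv_rhs => rw [e]
                  simp only [hf]; group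
                exact mul_inv_eq_iff_eq_mul.1 e'
              have hz9 : (z * z) ^ 4 * z = 1 := by rw [← pow_two, ← pow_mul, ← pow_succ]; exact e9
              have hzz : z = ((z * z) ^ 4)⁻¹ := eq_inv_of_mul_eq_one_right hz9
              have : Commute z v := by
                rw [hzz]; exact ((show Commute (z * z) v from hcx).pow_left 4).inv_left
              exact ((this.mul_left this).mul_left this).eq
          have hzz : z * z * v = v * (z * z) := by
            have e' : z * z * v * (z * z)⁻¹ = v := by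
              conv_rhs => rw [e]
              simp only [hf]; group
            exact mul_inv_eq_iff_eq_mul.1 e'
          refine hv1 (hzfix v hv ?_)
          have e3 : (z * z * z) * v = v * (z * z * z) := Subgroup.mem_centralizer_singleton_iff.1 hz3
          have : z = (z * z)⁻¹ * (z * z * z) := by group
          rw [this]
          exact ((show Commute (z * z) v from hzz).inv_left.mul_left e3).eq
        have d3 : f v ≠ f (f v) := fun e => by
          refine d1 ?_
          simp only [hf] at e ⊢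
          exact mul_left_cancel (mul_right_cancel e)
        rw [hVn1, Set.ncard_insert_of_notMem (by simp [d1, d2]), Set.ncard_pair d3]
    have hav : a ∈ ({v, f v, f (f v)} : Set G) := hv3 ▸ ⟨ha, ha1⟩
    have hvv : v * v = 1 := by rw [← pow_two, ← hvo, pow_orderOf_eq_one]
    rcases hav with rfl | rfl | rfl
    · exact hvv
    · show z * v * z⁻¹ * (z * v * z⁻¹) = 1
      rw [show z * v * z⁻¹ * (z * v * z⁻¹) = z * (v * v) * z⁻¹ by group, hvv]; group
    · show z * (z * v * z⁻¹) * z⁻¹ * (z * (z * v * z⁻¹) * z⁻¹) = 1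
      rw [show z * (z * v * z⁻¹) * z⁻¹ * (z * (z * v * z⁻¹) * z⁻¹) = z * z * (v * v) * (z * z)⁻¹ by group, hvv]
      group
  -- the action of `u`
  have huV : ∀ a ∈ V, u * a * u ∈ V := fun a ha => by
    have := hVn u huM a ha
    rwa [huinv'] at this
  have hVcomm : ∀ a ∈ V, ∀ b ∈ V, a * b = b * a := fun a ha b hb => by
    have h1 := hVsq _ (V.mul_mem ha hb)
    calc a * b = (b * b) * (a * b) * (a * a) := by rw [hVsq a ha, hVsq b hb, one_mul, mul_one]
      _ = b * (b * a) * (b * a) * a := by group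
      _ = b * ((b * a) * (b * a)) * a := by group
      _ = b * a := by rw [hVsq _ (V.mul_mem hb ha), mul_one]
  have hnotall : ∃ v1 ∈ V, u * v1 * u ≠ v1 := by
    by_contra! hall
    obtain ⟨⟨v, hv⟩, hv1⟩ : ∃ v : ↥V, v ≠ 1 :=
      have : Nontrivial ↥V := Finite.one_lt_card_iff_nontrivial.1 (by rw [hVc]; norm_num)
      exists_ne 1
    refine hv1 (Subtype.ext (hzfix v hv ?_))
    have e1 := hall _ (hVn z hzM v hv)
    have e2 := huinv z hz
    have e3 : z⁻¹ * v * z = z * v * z⁻¹ := by
      calc z⁻¹ * v * z = (u * z * u) * (u * v * u) * (u * z * u)⁻¹ := by rw [e2, hall v hv, inv_inv]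
        _ = u * (z * v * z⁻¹) * u := by rw [mul_inv_rev, mul_inv_rev, huinv']; simp [mul_assoc, ← mul_assoc u u, hu2]
        _ = z * v * z⁻¹ := e1
    have hzz : z * z * v = v * (z * z) := by
      have h' : z * (z⁻¹ * v * z) * z = z * (z * v * z⁻¹) * z := by rw [e3]
      calc z * z * v = z * (z * v * z⁻¹) * z := by group
        _ = z * (z⁻¹ * v * z) * z := h'.symm
        _ = v * (z * z) := by group
    have hz9 : (z * z) ^ 4 * z = 1 := by
      have := hRc ▸ Subgroup.orderOf_dvd_natCard _ hz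
      rw [← pow_two, ← pow_mul, ← pow_succ]; exact orderOf_dvd_iff_pow_eq_one.1 this
    have hzz' : z = ((z * z) ^ 4)⁻¹ := eq_inv_of_mul_eq_one_right hz9
    rw [hzz']
    exact ((show Commute (z * z) v from hzz).pow_left 4).inv_left.eq
  obtain ⟨v1, hv1, hv1m⟩ := hnotall
  set v0 := v1 * (u * v1 * u) with hv0
  have hv0V : v0 ∈ V := V.mul_mem hv1 (huV v1 hv1)
  have hv01 : v0 ≠ 1 := fun e => hv1m (by
    have := congrArg (v1 * ·) e
    simpa [hv0, ← mul_assoc, hVsq v1 hv1] using this)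
  have hv0u : u * v0 * u = v0 := by
    calc u * v0 * u = (u * v1 * u) * ((u * u) * v1 * (u * u)) := by
          rw [hv0, hu2, one_mul, mul_one]; simp [mul_assoc, ← mul_assoc u u, hu2]
      _ = (u * v1 * u) * v1 := by rw [hu2, one_mul, mul_one]
      _ = v0 := hVcomm _ (huV v1 hv1) _ hv1
  have hfixu : ∀ a ∈ V, u * a = a * u → a = 1 ∨ a = v0 := by
    intro a ha hau
    by_contra! hne
    have ha' : u * a * u = a := by rw [hau, mul_assoc, hu2, mul_one]
    have hm : u * v1 * u ∈ V := huV v1 hv1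
    have h3 : ({1, v0, a, v1} : Set G) ⊆ (V : Set G) := by
      rintro b (rfl | rfl | rfl | rfl)
      exacts [V.one_mem, hv0V, ha, hv1]
    have hv1n : v1 ≠ 1 := fun e => hv1m (by rw [e, mul_one, hu2])
    have hv10 : v1 ≠ v0 := fun e => hv1m (by rw [e]; exact hv0u)
    have hv1a : v1 ≠ a := fun e => hv1m (by rw [e]; exact ha')
    have h4 : ({1, v0, a, v1} : Set G).ncard = 4 := by
      rw [Set.ncard_insert_of_notMem (by simp [hv01.symm, hne.1.symm, hv1n.symm]),
        Set.ncard_insert_of_notMem (by simp [hne.2.symm, hv10.symm]), Set.ncard_pair hv1a.symm]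
    have heq := Set.eq_of_subset_of_ncard_le h3 (by rw [h4, hVset]) (Set.toFinite _)
    have hmm : u * v1 * u ∈ ({1, v0, a, v1} : Set G) := heq ▸ hm
    have huu : ∀ b : G, u * (u * b * u) * u = b := fun b => by
      simp [mul_assoc, ← mul_assoc u u, hu2]
    rcases hmm with e | e | e | e
    · exact hv1n (by rw [← huu v1, e, mul_one, hu2])
    · exact hv10 (by rw [← huu v1, e, hv0u])
    · exact hv1a (by rw [← huu v1, e, ha'])
    · exact hv1m e
  -- the Sylow two-subgroup `T` of `M`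
  let T : Subgroup G :=
    { carrier := {a | a ∈ V ∨ a * u ∈ V}
      one_mem' := Or.inl V.one_mem
      mul_mem' := by
        rintro a b (ha | ha) (hb | hb)
        · exact Or.inl (V.mul_mem ha hb)
        · exact Or.inr (by rw [mul_assoc]; exact V.mul_mem ha hb)
        · refine Or.inr ?_
          rw [show a * b * u = a * u * (u * b * u) by rw [← mul_assoc, ← mul_assoc, mul_assoc a u u, hu2, mul_one]]
          exact V.mul_mem ha (huV b hb)
        · refine Or.inl ?_
          have := V.mul_mem ha (huV _ hb)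
          rwa [show a * u * (u * (b * u) * u) = a * b by simp [mul_assoc, ← mul_assoc u u, hu2]] at this
      inv_mem' := by
        rintro a (ha | ha)
        · exact Or.inl (V.inv_mem ha)
        · refine Or.inr ?_
          have h := huV _ (V.inv_mem ha)
          rwa [mul_inv_rev, huinv', show u * (u * a⁻¹) * u = a⁻¹ * u by rw [← mul_assoc u u, hu2, one_mul]] at h }
  have huT : u ∈ T := Or.inr (hu2.symm ▸ V.one_mem)
  have hVT : V ≤ T := fun a ha => Or.inl ha
  have hTc : Nat.card ↥T = 8 := by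
    have he : (T : Set G) = (V : Set G) ∪ (fun a => a * u) '' (V : Set G) := by
      ext a
      constructor
      · rintro (ha | ha)
        · exact Or.inl ha
        · exact Or.inr ⟨a * u, ha, show a * u * u = a by rw [mul_assoc, hu2, mul_one]⟩
      · rintro (ha | ⟨b, hb, rfl⟩)
        · exact Or.inl ha
        · exact Or.inr (show b * u * u ∈ V by rw [mul_assoc, hu2, mul_one]; exact hb)
    rw [← SetLike.coe_sort_coe, Nat.card_coe_set_eq, he, Set.ncard_union_eq ?_ (Set.toFinite _) (Set.toFinite _),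
      Set.ncard_image_of_injective _ (mul_left_injective u), hVset]
    rw [Set.disjoint_left]
    rintro a ha ⟨b, hb, rfl⟩
    have : b⁻¹ * (b * u) ∈ V := V.mul_mem (V.inv_mem hb) ha
    rw [inv_mul_cancel_left] at this
    exact huCx (hVCx this)
  have hTM : T ≤ M := by
    rintro a (ha | ha)
    · exact hCxM (hVCx ha)
    · have := M.mul_mem (hCxM (hVCx ha)) huM
      rwa [mul_assoc, hu2, mul_one] at this
  -- a full Sylow two-subgroup above `T`
  have : Fact (Nat.Prime 2) := ⟨Nat.prime_two⟩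
  obtain ⟨S, hTS⟩ : ∃ S : Sylow 2 G, T ≤ (S : Subgroup G) :=
    IsPGroup.exists_le_sylow (IsPGroup.of_card (p := 2) (n := 3) (by rw [hTc]; norm_num))
  have hSc : Nat.card ↥(S : Subgroup G) = 16 := by
    simpa using card_sylow_of_factor S (a := 4) (m := 495) (by rw [hG]; norm_num) (by norm_num)
  have hTidx : (T.subgroupOf (S : Subgroup G)).index = 2 := by
    have h := (T.subgroupOf (S : Subgroup G)).index_mul_card
    rw [Nat.card_congr (Subgroup.subgroupOfEquivOfLe hTS).toEquiv, hTc, hSc] at h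
    omega
  obtain ⟨e, he, heT⟩ := SetLike.not_le_iff_exists.1 (show ¬ (S : Subgroup G) ≤ T from fun h => by
    have := Subgroup.card_le_of_le h; omega)
  have heTn : ∀ a ∈ T, e * a * e⁻¹ ∈ T := fun a ha =>
    (Subgroup.normal_of_index_eq_two hTidx).conj_mem ⟨a, hTS ha⟩ ha ⟨e, he⟩
  by_cases hex : ∃ v ∈ V, e * v * e⁻¹ ∉ V
  · obtain ⟨v, hv, hvV⟩ := hex
    have hmem : e * v * e⁻¹ * u ∈ V := (heTn v (hVT hv)).resolve_left hvV
    set v' := e * v * e⁻¹ * u with hv'
    have ht : e * v * e⁻¹ = v' * u := by rw [hv', mul_assoc _ u u, hu2, mul_one]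
    have hsq : v' * u * (v' * u) = 1 := by
      rw [← ht, show e * v * e⁻¹ * (e * v * e⁻¹) = e * (v * v) * e⁻¹ by group, hVsq v hv]; group
    have hcu : u * v' = v' * u := by
      calc u * v' = (v' * v') * (u * v') * (u * u) := by rw [hVsq v' hmem, hu2, one_mul, mul_one]
        _ = v' * (v' * u * (v' * u)) * u := by group
        _ = v' * u := by rw [hsq, mul_one]
    obtain ⟨c, hc⟩ : ∃ c : G, v' * u = c * u * c⁻¹ := by
      rcases hfixu v' hmem hcu with e0 | e0
      · exact ⟨1, by rw [e0]; simp⟩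
      · refine ⟨v1, ?_⟩
        rw [e0, hv0, inv_eq_of_mul_eq_one_right (hVsq v1 hv1)]
        calc v1 * (u * v1 * u) * u = v1 * u * v1 * (u * u) := by group
          _ = v1 * u * v1 := by rw [hu2, mul_one]
    refine ⟨c⁻¹ * e, ?_⟩
    have huv : u = (c⁻¹ * e) * v * (c⁻¹ * e)⁻¹ := by
      calc u = c⁻¹ * (c * u * c⁻¹) * c := by group
        _ = c⁻¹ * (e * v * e⁻¹) * c := by rw [← hc, ← ht]
        _ = (c⁻¹ * e) * v * (c⁻¹ * e)⁻¹ := by group
    have hxv : x * v = v * x := (Subgroup.mem_centralizer_singleton_iff.1 (hVCx hv)).symm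
    set h := c⁻¹ * e
    rw [huv]
    calc h * x * h⁻¹ * (h * v * h⁻¹) = h * (x * v) * h⁻¹ := by group
      _ = h * (v * x) * h⁻¹ := by rw [hxv]
      _ = h * v * h⁻¹ * (h * x * h⁻¹) := by group
  exfalso
  push Not at hex
  set NV := Subgroup.normalizer (V : Set G) with hNVd
  have heNV : e ∈ NV := mem_normalizer_of_conj_le hex
  have hMNV : M ≤ NV := fun g hg => mem_normalizer_of_conj_le (hVn g hg)
  have hSNV : (S : Subgroup G) ≤ NV := by
    intro s hs
    by_cases hsT : s ∈ T
    · exact hMNV (hTM hsT)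
    · have h := (Subgroup.mul_mem_iff_of_index_two hTidx (a := ⟨s, hs⟩) (b := ⟨e, he⟩)).2
        ⟨fun h => absurd h hsT, fun h => absurd h heT⟩
      have hse : s * e ∈ T := h
      have := NV.mul_mem (hMNV (hTM hse)) (NV.inv_mem heNV)
      rwa [mul_inv_cancel_right] at this
  have hNVc : Nat.card ↥NV = 144 := by
    have h1 : 144 ∣ Nat.card ↥NV := by
      have a1 : 72 ∣ Nat.card ↥NV := hMc ▸ Subgroup.card_dvd_of_le hMNV
      have a2 : 16 ∣ Nat.card ↥NV := hSc ▸ Subgroup.card_dvd_of_le hSNV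
      omega
    have h11 : ¬ 11 ∣ Nat.card ↥NV := not_eleven_dvd_normalizer hG (by omega) (by omega)
    have h5 : ¬ 5 ∣ Nat.card ↥NV := by
      intro h
      obtain ⟨⟨q, hq⟩, hqo⟩ := exists_prime_orderOf_dvd_card' 5 h
      rw [← Subgroup.orderOf_coe] at hqo
      refine four_not_dvd_five hG hqo (hVc ▸ Subgroup.card_dvd_of_le fun a ha => ?_)
      exact Subgroup.mem_centralizer_singleton_iff.2 (commute_of_small hqo hq (by omega) a ha).symm
    have hd : Nat.card ↥NV ∣ 55 * 144 := by
      rw [show 55 * 144 = Nat.card G by rw [hG]]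
      exact Subgroup.card_subgroup_dvd_card NV
    refine Nat.dvd_antisymm ((Nat.Coprime.dvd_mul_left ?_).1 hd) h1
    rw [show (55 : ℕ) = 5 * 11 from rfl]
    exact Nat.Coprime.mul_right ((Nat.Prime.coprime_iff_not_dvd (by norm_num)).2 h5).symm
      ((Nat.Prime.coprime_iff_not_dvd (by norm_num)).2 h11).symm
  set C1 := NV ⊓ Subgroup.centralizer ({v0} : Set G) with hC1
  set CV := C1 ⊓ Subgroup.centralizer ({v1} : Set G) with hCV
  have hv1n : v1 ≠ 1 := fun e' => hv1m (by rw [e', mul_one, hu2])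
  have hv10 : v1 ≠ v0 := fun e' => hv1m (by rw [e']; exact hv0u)
  have hCV24 : 24 ≤ Nat.card ↥CV := by
    have h1 := ncard_conj_orbit NV v0
    rw [← hC1, hNVc] at h1
    have o1 : (Set.range fun k : ↥NV => (k : G) * v0 * (k : G)⁻¹).ncard ≤ 3 := by
      rw [← hVn1]
      refine Set.ncard_le_ncard ?_ (Set.toFinite _)
      rintro _ ⟨k, rfl⟩
      exact ⟨(Subgroup.mem_normalizer_iff.1 k.2 v0).1 hv0V, fun e' => hv01 (by simpa using e')⟩
    have h2 := ncard_conj_orbit C1 v1
    rw [← hCV] at h2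
    have o2 : (Set.range fun k : ↥C1 => (k : G) * v1 * (k : G)⁻¹).ncard ≤ 2 := by
      have hb : (((V : Set G) \ {1}) \ {v0}).ncard = 2 := by
        rw [Set.ncard_sdiff (by simp [hv0V, hv01]), Set.ncard_singleton, hVn1]
      rw [← hb]
      refine Set.ncard_le_ncard ?_ (Set.toFinite _)
      rintro _ ⟨k, rfl⟩
      refine ⟨⟨(Subgroup.mem_normalizer_iff.1 k.2.1 v1).1 hv1, fun e' => hv1n (by simpa using e')⟩, fun e' => hv10 ?_⟩
      have hk : (k : G) * v0 * (k : G)⁻¹ = v0 :=
        mul_inv_eq_iff_eq_mul.2 (Subgroup.mem_centralizer_singleton_iff.1 k.2.2)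
      rw [Set.mem_singleton_iff] at e'
      exact mul_left_cancel (mul_right_cancel (e'.trans hk.symm))
    nlinarith
  have hCVV : ∀ g ∈ CV, ∀ a ∈ V, g * a = a * g := by
    intro g hg a ha
    have h0 : g * v0 = v0 * g := Subgroup.mem_centralizer_singleton_iff.1 hg.1.2
    have h1 : g * v1 = v1 * g := Subgroup.mem_centralizer_singleton_iff.1 hg.2
    have hV4 : ({1, v0, v1, v0 * v1} : Set G) = (V : Set G) := by
      refine Set.eq_of_subset_of_ncard_le ?_ ?_ (Set.toFinite _)
      · rintro b (rfl | rfl | rfl | rfl)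
        exacts [V.one_mem, hv0V, hv1, V.mul_mem hv0V hv1]
      · have hp1 : v0 * v1 ≠ 1 := fun e' => hv10 (by
          have := congrArg (v0 * ·) e'
          simpa [← mul_assoc, hVsq v0 hv0V] using this)
        rw [hVset, Set.ncard_insert_of_notMem (by simp [hv01.symm, hv1n.symm, hp1.symm]),
          Set.ncard_insert_of_notMem (by simp [hv10.symm, hv1n]), Set.ncard_pair (by simp [hv01])]
    have ha' : a ∈ ({1, v0, v1, v0 * v1} : Set G) := hV4 ▸ ha
    rcases ha' with rfl | rfl | rfl | rfl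
    · simp
    · exact h0
    · exact h1
    · exact ((show Commute g v0 from h0).mul_right h1).eq
  have hxCV : x ∈ CV := by
    have hcx : ∀ a ∈ V, x * a = a * x := fun a ha => (Subgroup.mem_centralizer_singleton_iff.1 (hVCx ha)).symm
    refine ⟨⟨mem_normalizer_of_conj_le fun a ha => ?_, ?_⟩, ?_⟩
    · rw [hcx a ha, mul_inv_cancel_right]; exact ha
    · exact Subgroup.mem_centralizer_singleton_iff.2 (hcx v0 hv0V)
    · exact Subgroup.mem_centralizer_singleton_iff.2 (hcx v1 hv1)
  have hVCV : V ≤ CV := fun a ha => by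
    refine ⟨⟨Subgroup.le_normalizer ha, ?_⟩, ?_⟩
    · exact Subgroup.mem_centralizer_singleton_iff.2 (hVcomm a ha v0 hv0V)
    · exact Subgroup.mem_centralizer_singleton_iff.2 (hVcomm a ha v1 hv1)
  have h9 : ¬ 9 ∣ Nat.card ↥CV := fun h =>
    hodd v0 hv01 (hVsq v0 hv0V) (h.trans (Subgroup.card_dvd_of_le (inf_le_left.trans inf_le_right)))
  have hCV144 : Nat.card ↥CV ∣ 144 := hNVc ▸ Subgroup.card_dvd_of_le (inf_le_left.trans inf_le_left)
  obtain ⟨hs, hsm⟩ := sylow_count CV (Subgroup.zpowers_le.2 hxCV) (p := 3) (n := 1)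
    (by rw [Nat.card_zpowers, hxo]; norm_num) h9
  set k := Nat.card ↥(CV ⊓ M) with hkd
  change _ * k = _ at hs
  have hk12 : 12 ∣ k := by
    have a1 : 4 ∣ k := hVc ▸ Subgroup.card_dvd_of_le (le_inf hVCV (hVCx.trans hCxM))
    have a2 : 3 ∣ k := hxo ▸ Subgroup.orderOf_dvd_natCard _
      (⟨hxCV, Subgroup.le_normalizer (Subgroup.mem_zpowers x)⟩ : x ∈ CV ⊓ M)
    omega
  -- no full Sylow two-subgroup centralises `V`
  have hnofull : ∀ (K : Subgroup G) (P : Subgroup G), K ≤ NV → P ≤ CV ⊓ K → ∀ (U : Subgroup G),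
      u ∈ U → U ≤ K → ∀ m : ℕ, Nat.card ↥P = 2 ^ m → Nat.card ↥U = 2 ^ m → ¬ 2 ^ (m + 1) ∣ Nat.card ↥K → False := by
    intro K P hK hP U huU hUK m hPm hUm hv
    obtain ⟨c, hc, hcb⟩ := exists_conj_in K hUK (hP.trans inf_le_right) hUm hPm hv
    have hp : c * u * c⁻¹ ∈ CV := (hP ((hcb u).1 huU)).1
    refine hv1m ?_
    have hcv : c * v1 * c⁻¹ ∈ V := (Subgroup.mem_normalizer_iff.1 (hK hc) v1).1 hv1
    have h := hCVV _ hp _ hcv
    have h' : u * v1 = v1 * u := by
      calc u * v1 = c⁻¹ * (c * u * c⁻¹ * (c * v1 * c⁻¹)) * c := by group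
        _ = c⁻¹ * (c * v1 * c⁻¹ * (c * u * c⁻¹)) * c := by rw [h]
        _ = v1 * u := by group
    rw [h', mul_assoc, hu2, mul_one]
  have hk : k = 12 := by
    have hkd : k ∣ 72 := hMc ▸ Subgroup.card_dvd_of_le inf_le_right
    have hk9 : ¬ 9 ∣ k := fun h => h9 (h.trans (Subgroup.card_dvd_of_le inf_le_left))
    have : ∀ j ∈ Nat.divisors 72, 12 ∣ j → ¬ 9 ∣ j → j = 12 ∨ j = 24 := by decide +kernel
    rcases this _ (Nat.mem_divisors.2 ⟨hkd, by norm_num⟩) hk12 hk9 with e' | e'
    · exact e'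
    · exfalso
      obtain ⟨P0, hP0⟩ := Sylow.exists_subgroup_card_pow_prime (G := ↥(CV ⊓ M)) 2 (n := 3) (by
        show 2 ^ 3 ∣ k
        rw [e']; norm_num)
      refine hnofull M (P0.map (CV ⊓ M).subtype) hMNV (Subgroup.map_subtype_le P0) T huT hTM 3
        (by rw [Subgroup.card_map_of_injective (CV ⊓ M).subtype_injective, hP0]) (by rw [hTc]; norm_num) ?_
      rw [hMc]; norm_num
  rw [hk] at hs
  have hd48 : Nat.card ↥CV = 48 := by
    have : ∀ j ∈ Nat.divisors 144, 24 ≤ j → ¬ 9 ∣ j → 12 ∣ j → (j / 12) % 3 = 1 → j = 48 := by decide +kernel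
    refine this _ (Nat.mem_divisors.2 ⟨hCV144, by norm_num⟩) hCV24 h9 ?_ ?_
    · exact Dvd.intro_left _ hs
    · rw [← hs, Nat.mul_div_cancel _ (by norm_num : 0 < 12)]; exact hsm
  obtain ⟨P0, hP0⟩ := Sylow.exists_subgroup_card_pow_prime (G := ↥CV) 2 (n := 4) (by rw [hd48]; norm_num)
  refine hnofull NV (P0.map CV.subtype) le_rfl
    (le_inf (Subgroup.map_subtype_le P0) ((Subgroup.map_subtype_le P0).trans (inf_le_left.trans inf_le_left)))
    (S : Subgroup G) (hTS huT) hSNV 4
    (by rw [Subgroup.card_map_of_injective CV.subtype_injective, hP0]) (by rw [hSc]; norm_num) ?_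
  rw [hNVc]; norm_num

/-- A self-centralising Sylow three-subgroup with normaliser of order 36 is impossible. -/
theorem case9 (hG : Nat.card G = 7920) (R : Sylow 3 G)
    (hN : Nat.card ↥(Subgroup.normalizer ((R : Subgroup G) : Set G)) = 36)
    (hC : Nat.card ↥(Subgroup.centralizer ((R : Subgroup G) : Set G)) = 9) : False := by
  classical
  have hRc := card_three hG R
  set N := Subgroup.normalizer ((R : Subgroup G) : Set G) with hNd
  set CR := Subgroup.centralizer ((R : Subgroup G) : Set G) with hCRd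
  have hodd : ∀ v : G, v ≠ 1 → v * v = 1 → ¬ 9 ∣ Nat.card ↥(Subgroup.centralizer ({v} : Set G)) := by
    intro v hv1 hv h9
    obtain ⟨X, hX⟩ := Sylow.exists_subgroup_card_pow_prime (G := ↥(Subgroup.centralizer ({v} : Set G))) 3 (n := 2)
      (by simpa using h9)
    set P := X.map (Subgroup.centralizer ({v} : Set G)).subtype with hP
    have hPc : Nat.card ↥P = 3 ^ 2 := by
      rw [hP, Subgroup.card_map_of_injective (Subgroup.centralizer ({v} : Set G)).subtype_injective, hX]
    obtain ⟨R', hR'⟩ : ∃ R' : Sylow 3 G, (R' : Subgroup G) = P := by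
      have hc : Nat.card ↥P = 3 ^ (Nat.card G).factorization 3 := by
        rw [hPc, hG, show (7920 : ℕ) = 3 ^ 2 * 880 by norm_num, Nat.factorization_mul (by norm_num) (by norm_num),
          Finsupp.add_apply, Nat.prime_three.factorization_pow, Finsupp.single_eq_same,
          Nat.factorization_eq_zero_of_not_dvd (by norm_num), add_zero]
      exact ⟨Sylow.ofCard P hc, Sylow.coe_ofCard _ _⟩
    obtain ⟨g, rfl⟩ := exists_smul_eq G R R'
    have hgv : g⁻¹ * v * g ∈ CR := by
      rw [hCRd, Subgroup.mem_centralizer_iff]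
      intro b hb
      have hbm : g * b * g⁻¹ ∈ P := hR' ▸ Subgroup.smul_mem_pointwise_smul b (MulAut.conj g) _ hb
      obtain ⟨⟨b', hb'⟩, -, hbe⟩ := hbm
      have hc : g * b * g⁻¹ * v = v * (g * b * g⁻¹) :=
        Subgroup.mem_centralizer_singleton_iff.1 (by rw [← hbe]; exact hb')
      calc b * (g⁻¹ * v * g) = g⁻¹ * (g * b * g⁻¹ * v) * g := by group
        _ = g⁻¹ * (v * (g * b * g⁻¹)) * g := by rw [hc]
        _ = g⁻¹ * v * g * b := by group
    have h1 : orderOf (g⁻¹ * v * g) ∣ 2 := orderOf_dvd_of_pow_eq_one (by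
      rw [pow_two, show g⁻¹ * v * g * (g⁻¹ * v * g) = g⁻¹ * (v * v) * g by group, hv]; group)
    have h2 := hC ▸ Subgroup.orderOf_dvd_natCard CR hgv
    have h3 := orderOf_eq_one_iff.1 (Nat.eq_one_of_dvd_coprimes (by norm_num) h1 h2)
    exact hv1 (by
      have := congrArg (fun t => g * t * g⁻¹) h3
      simpa [mul_assoc] using this)
  have hexp : ∀ x ∈ (R : Subgroup G), x ≠ 1 → orderOf x = 3 := by
    intro x hx hx1
    refine (orderOf_three_elt hG R hx hx1).resolve_right fun h9 => ?_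
    have : IsCyclic ↥(R : Subgroup G) :=
      isCyclic_of_orderOf_eq_card (⟨x, hx⟩ : ↥(R : Subgroup G)) (by rw [← Subgroup.orderOf_coe, hRc]; exact h9)
    have hker := Subgroup.normalizerMonoidHom_ker (H := (R : Subgroup G))
    have h := Subgroup.index_ker (R : Subgroup G).normalizerMonoidHom
    rw [hker, ← hCRd] at h
    have hd : (CR.subgroupOf N).index ∣ 6 := by
      rw [h]
      refine (Subgroup.card_subgroup_dvd_card _).trans ?_
      rw [IsCyclic.card_mulAut, hRc, show (9 : ℕ) = 3 ^ 2 from rfl, Nat.totient_prime_pow Nat.prime_three (by norm_num)]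
      norm_num
    have hle : CR ≤ N := Subgroup.centralizer_le_normalizer _
    have h2 := (CR.subgroupOf N).index_mul_card
    rw [Nat.card_congr (Subgroup.subgroupOfEquivOfLe hle).toEquiv, hC, hN] at h2
    have h4 : (CR.subgroupOf N).index = 4 := by omega
    rw [h4] at hd
    omega
  have hfus : ∀ u : G, orderOf u = 2 → ∀ x₁ ∈ (R : Subgroup G), ∀ x₂ ∈ (R : Subgroup G), x₁ ≠ 1 → x₂ ≠ 1 →
      ∀ g₁ g₂ : G, g₁ * x₁ * g₁⁻¹ * u = u * (g₁ * x₁ * g₁⁻¹) → g₂ * x₂ * g₂⁻¹ * u = u * (g₂ * x₂ * g₂⁻¹) →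
      x₂ ∈ nOrbit R x₁ ∨ x₂⁻¹ ∈ nOrbit R x₁ := by
    intro u hu x₁ hx₁ x₂ hx₂ h₁ h₂ g₁ g₂ e₁ e₂
    set C := Subgroup.centralizer ({u} : Set G) with hCd
    have ha : g₁ * x₁ * g₁⁻¹ ∈ C := Subgroup.mem_centralizer_singleton_iff.2 e₁
    have hb : g₂ * x₂ * g₂⁻¹ ∈ C := Subgroup.mem_centralizer_singleton_iff.2 e₂
    have hoa : orderOf (g₁ * x₁ * g₁⁻¹) = 3 := (orderOf_injective (MulAut.conj g₁).toMonoidHom
      (MulAut.conj g₁).injective x₁).trans (hexp x₁ hx₁ h₁)
    have hob : orderOf (g₂ * x₂ * g₂⁻¹) = 3 := (orderOf_injective (MulAut.conj g₂).toMonoidHom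
      (MulAut.conj g₂).injective x₂).trans (hexp x₂ hx₂ h₂)
    obtain ⟨c, hc, hcb⟩ := exists_conj_in C (Subgroup.zpowers_le.2 ha) (Subgroup.zpowers_le.2 hb) (p := 3) (n := 1)
      (by rw [Nat.card_zpowers, hoa]; norm_num) (by rw [Nat.card_zpowers, hob]; norm_num)
      (hodd u (fun e => by simp [e] at hu) (by rw [← pow_two, ← hu, pow_orderOf_eq_one]))
    have hm := (hcb _).1 (Subgroup.mem_zpowers _)
    have hne : c * (g₁ * x₁ * g₁⁻¹) * c⁻¹ ≠ 1 := fun e => h₁ (by simpa using e)
    set g := g₂⁻¹ * c * g₁ with hgd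
    rcases mem_zpowers_three hob hm hne with e | e
    · refine Or.inl ?_
      have : g * x₁ * g⁻¹ = x₂ := by
        calc g * x₁ * g⁻¹ = g₂⁻¹ * (c * (g₁ * x₁ * g₁⁻¹) * c⁻¹) * g₂ := by rw [hgd]; group
          _ = x₂ := by rw [e]; group
      exact this ▸ fusion hG R hx₁ (this ▸ hx₂)
    · refine Or.inr ?_
      have : g * x₁ * g⁻¹ = x₂⁻¹ := by
        calc g * x₁ * g⁻¹ = g₂⁻¹ * (c * (g₁ * x₁ * g₁⁻¹) * c⁻¹) * g₂ := by rw [hgd]; group
          _ = x₂⁻¹ := by rw [e]; group
      exact this ▸ fusion hG R hx₁ (this ▸ (R : Subgroup G).inv_mem hx₂)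
  have hRN : (R : Subgroup G) ≤ N := Subgroup.le_normalizer
  have hnotR : ∀ a : G, orderOf a = 2 → a ∉ (R : Subgroup G) := fun a ha haR => by
    have h := hRc ▸ Subgroup.orderOf_dvd_natCard _ haR
    rw [ha] at h
    omega
  by_cases hA : ∃ x ∈ (R : Subgroup G), x ≠ 1 ∧ (cont x).ncard = 4 ∧ (nOrbit R x).ncard = 2
  · -- an axis
    obtain ⟨x, hx, hx1, hx4, hx2⟩ := hA
    set Cx := Subgroup.centralizer ({x} : Set G) with hCxd
    have hmul := nOrbit_ncard_mul R x
    rw [hx2, ← hNd, ← hCxd, hN] at hmul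
    have hk : Nat.card ↥(N ⊓ Cx) = 18 := by omega
    have hCx : Nat.card ↥Cx = 72 := by
      have h := (cont_ncard_mul hG R hx hx1).1
      rw [hx4, ← hNd, hk] at h
      exact h.symm
    have hidx : ((R : Subgroup G).subgroupOf (N ⊓ Cx)).index = 2 := by
      have h := ((R : Subgroup G).subgroupOf (N ⊓ Cx)).index_mul_card
      rw [Nat.card_congr (Subgroup.subgroupOfEquivOfLe (le_inf hRN (three_le_centralizer hG R hx))).toEquiv,
        hRc, hk] at h
      omega
    obtain ⟨⟨s, hs⟩, hso⟩ := exists_prime_orderOf_dvd_card' (G := ↥(N ⊓ Cx)) 2 (by rw [hk]; norm_num)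
    rw [← Subgroup.orderOf_coe] at hso
    change orderOf s = 2 at hso
    have hs2 : s * s = 1 := by rw [← pow_two, ← hso, pow_orderOf_eq_one]
    have hsinv : s⁻¹ = s := inv_eq_of_mul_eq_one_right hs2
    have hsR : ∀ a ∈ (R : Subgroup G), s * a * s ∈ (R : Subgroup G) := fun a ha => by
      have := (Subgroup.mem_normalizer_iff.1 hs.1 a).1 ha
      rwa [hsinv] at this
    have hsx : s * x * s = x := by
      rw [Subgroup.mem_centralizer_singleton_iff.1 hs.2, mul_assoc, hs2, mul_one]
    obtain ⟨r, hr, hrs⟩ : ∃ r ∈ (R : Subgroup G), s * r * s ≠ r := by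
      by_contra! hall
      have hsC : s ∈ CR := Subgroup.mem_centralizer_iff.2 fun b hb => by
        have h := hall b hb
        calc b * s = s * b * s * s := by rw [h]
          _ = s * b := by rw [mul_assoc, hs2, mul_one]
      have h := hC ▸ Subgroup.orderOf_dvd_natCard CR hsC
      rw [hso] at h
      omega
    set z := r⁻¹ * (s * r * s) with hzd
    have hz : z ∈ (R : Subgroup G) := (R : Subgroup G).mul_mem ((R : Subgroup G).inv_mem hr) (hsR r hr)
    have hz1 : z ≠ 1 := fun e => hrs (inv_mul_eq_one.1 e).symm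
    have habR := isMulCommutative_three hG R
    have hcomm : ∀ a ∈ (R : Subgroup G), ∀ b ∈ (R : Subgroup G), a * b = b * a := fun a ha b hb =>
      congrArg Subtype.val (habR.is_comm.comm ⟨a, ha⟩ ⟨b, hb⟩)
    have hzs : s * z * s = z⁻¹ := by
      calc s * z * s = (s * r⁻¹ * s) * r * (s * s) := by rw [hzd]; group
        _ = z⁻¹ := by
          rw [hs2, mul_one, hzd, mul_inv_rev, inv_inv, mul_inv_rev, mul_inv_rev, hsinv, mul_assoc s]
    let I : Subgroup G :=
      { carrier := {a | a ∈ (R : Subgroup G) ∧ s * a * s = a⁻¹}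
        one_mem' := ⟨(R : Subgroup G).one_mem, by simp [hs2]⟩
        mul_mem' := by
          rintro a b ⟨ha, ha'⟩ ⟨hb, hb'⟩
          refine ⟨(R : Subgroup G).mul_mem ha hb, ?_⟩
          calc s * (a * b) * s = (s * a * (s * s) * b * s) := by rw [hs2, mul_one]; group
            _ = (s * a * s) * (s * b * s) := by group
            _ = (a * b)⁻¹ := by
              rw [ha', hb', mul_inv_rev]
              exact hcomm _ ((R : Subgroup G).inv_mem ha) _ ((R : Subgroup G).inv_mem hb)
        inv_mem' := by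
          rintro a ⟨ha, ha'⟩
          refine ⟨(R : Subgroup G).inv_mem ha, ?_⟩
          have := congrArg (·⁻¹) ha'
          simpa [mul_inv_rev, hsinv, mul_assoc] using this }
    have hI3 : Nat.card ↥I ≤ 3 := by
      have hle : I ≤ (R : Subgroup G) := fun a ha => ha.1
      have hd := hRc ▸ Subgroup.card_dvd_of_le hle
      have hne : Nat.card ↥I ≠ 9 := fun e => by
        have hxI : x ∈ I := by rw [Subgroup.eq_of_le_of_card_ge hle (by rw [e, hRc])]; exact hx
        have h' : s * x * s = x⁻¹ := hxI.2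
        rw [hsx] at h'
        have h2 : orderOf x ∣ 2 := orderOf_dvd_of_pow_eq_one (by rw [pow_two]; nth_rw 1 [h']; simp)
        rw [hexp x hx hx1] at h2
        omega
      have : ∀ j ∈ Nat.divisors 9, j ≠ 9 → j ≤ 3 := by decide +kernel
      exact this _ (Nat.mem_divisors.2 ⟨hd, by norm_num⟩) hne
    have hOx : nOrbit R x = {x, x⁻¹} := by
      have hne : x ≠ x⁻¹ := fun e => by
        have h2 : orderOf x ∣ 2 := orderOf_dvd_of_pow_eq_one (by rw [pow_two]; nth_rw 1 [e]; simp)
        rw [hexp x hx hx1] at h2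
        omega
      refine (Set.eq_of_subset_of_ncard_le ?_ ?_ (Set.toFinite _)).symm
      · rintro a (rfl | rfl)
        · exact self_mem_nOrbit R a
        · exact inv_mem_nOrbit hG R hx hx1
      · rw [hx2, Set.ncard_pair hne]
    have hzI : ∀ a ∈ nOrbit R z, a ∈ (I : Set G) \ {1} := by
      rintro _ ⟨⟨n, hn⟩, rfl⟩
      refine ⟨⟨(Subgroup.mem_normalizer_iff.1 hn z).1 hz, ?_⟩, fun e => hz1 (by simpa using e)⟩
      show s * (n * z * n⁻¹) * s = (n * z * n⁻¹)⁻¹
      set t := n * s * n⁻¹ with htd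
      have htN : t ∈ N := N.mul_mem (N.mul_mem hn hs.1) (N.inv_mem hn)
      have htx : t ∈ Cx := by
        have h1 : n⁻¹ * x * n ∈ ({x, x⁻¹} : Set G) := by
          rw [← hOx]
          simpa using conj_mem_nOrbit R (N.inv_mem hn) (self_mem_nOrbit R x)
        have hc : s * (n⁻¹ * x * n) = n⁻¹ * x * n * s := by
          rcases h1 with e | e <;> rw [e]
          · exact Subgroup.mem_centralizer_singleton_iff.1 hs.2
          · exact (show Commute s x from Subgroup.mem_centralizer_singleton_iff.1 hs.2).inv_right.eq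
        rw [hCxd, Subgroup.mem_centralizer_singleton_iff]
        calc t * x = n * (s * (n⁻¹ * x * n)) * n⁻¹ := by rw [htd]; group
          _ = n * (n⁻¹ * x * n * s) * n⁻¹ := by rw [hc]
          _ = x * t := by rw [htd]; group
      have hto : orderOf t = 2 := hso ▸ orderOf_injective (MulAut.conj n).toMonoidHom (MulAut.conj n).injective s
      have hal := act_alike (u := t) (t := s) (le_inf hRN (three_le_centralizer hG R hx)) hidx habR ⟨htN, htx⟩ hs
        (hnotR t hto) (hnotR s hso) hs2 hsR (a := n * z * n⁻¹) ((Subgroup.mem_normalizer_iff.1 hn z).1 hz)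
      rw [← hal, htd]
      calc n * s * n⁻¹ * (n * z * n⁻¹) * (n * s * n⁻¹)⁻¹ = n * (s * z * s⁻¹) * n⁻¹ := by group
        _ = n * z⁻¹ * n⁻¹ := by rw [hsinv, hzs]
        _ = (n * z * n⁻¹)⁻¹ := by group
    have hLz : (nOrbit R z).ncard = 2 := by
      have h1 := Set.ncard_le_ncard hzI (Set.toFinite _)
      rw [Set.ncard_sdiff (Set.singleton_subset_iff.2 I.one_mem), Set.ncard_singleton] at h1
      rw [show ((I : Set G)).ncard = Nat.card ↥I from (Nat.card_coe_set_eq _).symm] at h1
      have h2 := nOrbit_cases hG R hz hz1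
      simp only [Finset.mem_insert, Finset.mem_singleton] at h2
      omega
    have hmulz := nOrbit_ncard_mul R z
    rw [hLz, ← hNd, hN] at hmulz
    obtain ⟨⟨t, ht⟩, hto⟩ := exists_prime_orderOf_dvd_card' (G := ↥(N ⊓ Subgroup.centralizer ({z} : Set G))) 2
      (by rw [show Nat.card ↥(N ⊓ Subgroup.centralizer ({z} : Set G)) = 18 by omega]; norm_num)
    rw [← Subgroup.orderOf_coe] at hto
    change orderOf t = 2 at hto
    have ht2 : t * t = 1 := by rw [← pow_two, ← hto, pow_orderOf_eq_one]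
    have htinv : t⁻¹ = t := inv_eq_of_mul_eq_one_right ht2
    have htnx : t ∉ Cx := by
      intro htx
      have hal := act_alike (u := t) (t := s) (le_inf hRN (three_le_centralizer hG R hx)) hidx habR ⟨ht.1, htx⟩ hs
        (hnotR t hto) (hnotR s hso) hs2 hsR (a := z) hz
      rw [hzs, mul_inv_eq_iff_eq_mul.2 (Subgroup.mem_centralizer_singleton_iff.1 ht.2)] at hal
      have h2 : orderOf z ∣ 2 := orderOf_dvd_of_pow_eq_one (by rw [pow_two]; nth_rw 1 [hal]; simp)
      rw [hexp z hz hz1] at h2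
      omega
    set M := Subgroup.normalizer (Subgroup.zpowers x : Set G) with hMd
    have hCxM : Cx ≤ M := centralizer_le_normalizer_zpowers x
    have htM : t ∈ M := mem_normalizer_zpowers (by
      have h1 : t * x * t⁻¹ ∈ ({x, x⁻¹} : Set G) := hOx ▸ conj_mem_nOrbit R ht.1 (self_mem_nOrbit R x)
      rcases h1 with e | e <;> rw [e]
      · exact Subgroup.mem_zpowers x
      · exact Subgroup.inv_mem _ (Subgroup.mem_zpowers x))
    have hMc : Nat.card ↥M = 144 := by
      have h1 := (centralizer_le_seventy_two hG R hx hx1).1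
      have h2 := Nat.le_of_dvd (by norm_num) (normalizer_zpowers_dvd hG R hx hx1)
      rw [← hCxd, ← hMd, hCx] at h1
      rw [← hMd] at h2
      omega
    have : Fact (Nat.Prime 2) := ⟨Nat.prime_two⟩
    obtain ⟨S0, hS0⟩ : ∃ S0 : Sylow 2 ↥M, Subgroup.zpowers (⟨t, htM⟩ : ↥M) ≤ S0 :=
      IsPGroup.exists_le_sylow (IsPGroup.of_card (p := 2) (n := 1) (by
        rw [Nat.card_zpowers, ← Subgroup.orderOf_coe, pow_one]; exact hto))
    set S := (S0 : Subgroup ↥M).map M.subtype with hSd
    have hSc : Nat.card ↥S = 16 := by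
      rw [hSd, Subgroup.card_map_of_injective M.subtype_injective]
      simpa using card_sylow_of_factor S0 (a := 4) (m := 9) (by rw [hMc]; norm_num) (by norm_num)
    have hSM : S ≤ M := Subgroup.map_subtype_le _
    have htS : t ∈ S := ⟨⟨t, htM⟩, hS0 (Subgroup.mem_zpowers _), rfl⟩
    set T := S ⊓ Cx with hTd
    have hTc : Nat.card ↥T = 8 := by
      have hr : Cx.relIndex S ∣ 2 := by
        have := relIndex_centralizer_dvd (p := 3) (P := Subgroup.zpowers x) (by rw [Nat.card_zpowers, hexp x hx hx1])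
          (T := S) hSM
        rwa [Subgroup.zpowers_eq_closure, Subgroup.centralizer_closure] at this
      have hmul2 := card_inf_mul_relIndex Cx S
      rw [← hTd, hSc] at hmul2
      have h72 : Nat.card ↥T ∣ 72 := hCx ▸ Subgroup.card_dvd_of_le inf_le_right
      rcases (Nat.dvd_prime Nat.prime_two).1 hr with e | e <;> rw [e] at hmul2
      · exfalso
        rw [show Nat.card ↥T = 16 by omega] at h72
        omega
      · omega
    have hTidx : T.index = 2 * 495 := by
      have h := T.index_mul_card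
      rw [hTc, hG] at h
      omega
    obtain ⟨g, hg⟩ := exists_conj_mem (hnc hG) T (by decide) hTidx hto
    have hgc : g⁻¹ * t * g * x = x * (g⁻¹ * t * g) := Subgroup.mem_centralizer_singleton_iff.1 hg.2
    have e1 : g * x * g⁻¹ * t = t * (g * x * g⁻¹) := by
      calc g * x * g⁻¹ * t = g * (x * (g⁻¹ * t * g)) * g⁻¹ := by group
        _ = g * (g⁻¹ * t * g * x) * g⁻¹ := by rw [hgc]
        _ = t * (g * x * g⁻¹) := by group
    have e2 : (1 : G) * z * (1 : G)⁻¹ * t = t * ((1 : G) * z * (1 : G)⁻¹) := by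
      simpa using (Subgroup.mem_centralizer_singleton_iff.1 ht.2).symm
    have hzx : z ∉ ({x, x⁻¹} : Set G) := by
      have key : s * z * s = z → False := fun h => by
        rw [hzs] at h
        have h2 : orderOf z ∣ 2 := orderOf_dvd_of_pow_eq_one (by rw [pow_two]; nth_rw 2 [← h]; simp)
        rw [hexp z hz hz1] at h2
        omega
      rintro (e | e) <;> refine key ?_ <;> rw [e]
      · exact hsx
      · have := congrArg (·⁻¹) hsx
        simpa [mul_inv_rev, hsinv, mul_assoc] using this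
    rcases hfus t hto x hx z hz hx1 hz1 g 1 e1 e2 with h | h <;> rw [hOx] at h
    · exact hzx h
    · refine hzx ?_
      rcases h with e | e
      · exact Or.inr (by rw [Set.mem_singleton_iff, ← e, inv_inv])
      · exact Or.inl (inv_injective e)
  · -- no axis: all orbits have size four
    push Not at hA
    have hL : ∀ r ∈ (R : Subgroup G), r ≠ 1 → (cont r).ncard = 4 → (nOrbit R r).ncard = 4 := by
      intro r hr hr1 h4
      have h := nOrbit_cases hG R hr hr1
      have h2 := hA r hr hr1 h4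
      have hmul := nOrbit_ncard_mul R r
      obtain ⟨c, hc⟩ : 9 ∣ Nat.card ↥(N ⊓ Subgroup.centralizer ({r} : Set G)) :=
        hRc ▸ Subgroup.card_dvd_of_le (le_inf hRN (three_le_centralizer hG R hr))
      rw [← hNd, hN, hc] at hmul
      simp only [Finset.mem_insert, Finset.mem_singleton] at h
      rcases h with e | e | e <;> rw [e] at hmul <;> omega
    set S4 := {r ∈ ((R : Subgroup G) : Set G) | r ≠ 1 ∧ (cont r).ncard = 4} with hS4
    have hm : S4.ncard % 3 = 2 := by
      have h := cont_four_count hG R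
      have hn : Nat.card (Sylow 3 G) = 220 := by
        have h' := card_normalizer_mul R
        rw [← hNd, hN, hG] at h'
        omega
      rw [hn, ← hS4] at h
      omega
    have hsub : ∀ r ∈ S4, nOrbit R r ⊆ S4 := by
      rintro r ⟨hr, hr1, hr4⟩ a ha
      refine ⟨nOrbit_subset R hr ha, ?_, ?_⟩ <;> obtain ⟨k, rfl⟩ := ha
      · exact fun e => hr1 (by simpa using e)
      · show (cont _).ncard = 4
        rw [cont_conj, hr4]
    obtain ⟨x₁, hx₁⟩ : S4.Nonempty := (Set.ncard_pos (Set.toFinite _)).1 (by omega)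
    have hL1 := hL x₁ hx₁.1 hx₁.2.1 hx₁.2.2
    obtain ⟨x₂, hx₂, hx₂n⟩ : ∃ x₂ ∈ S4, x₂ ∉ nOrbit R x₁ := by
      by_contra! hall
      have h := Set.eq_of_subset_of_ncard_le (hsub x₁ hx₁) (Set.ncard_le_ncard hall (Set.toFinite _)) (Set.toFinite _)
      rw [← h, hL1] at hm
      omega
    have hS8 : S4 = ((R : Subgroup G) : Set G) \ {1} := by
      have hd : Disjoint (nOrbit R x₁) (nOrbit R x₂) := Set.disjoint_left.2 fun a ha hb => hx₂n (by
        obtain ⟨k, rfl⟩ := ha
        obtain ⟨k', hk'⟩ := hb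
        exact ⟨k'⁻¹ * k, by
          show ((k'⁻¹ * k : ↥N) : G) * x₁ * ((k'⁻¹ * k : ↥N) : G)⁻¹ = x₂
          simp only [Subgroup.coe_mul, Subgroup.coe_inv]
          calc (k' : G)⁻¹ * k * x₁ * ((k' : G)⁻¹ * k)⁻¹ = (k' : G)⁻¹ * ((k : G) * x₁ * (k : G)⁻¹) * k' := by group
            _ = x₂ := by simp only at hk'; rw [← hk']; group⟩)
      refine Set.eq_of_subset_of_ncard_le (fun r hr => ⟨hr.1, hr.2.1⟩) ?_ (Set.toFinite _)
      have h := Set.ncard_le_ncard (Set.union_subset (hsub x₁ hx₁) (hsub x₂ hx₂)) (Set.toFinite _)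
      rw [Set.ncard_union_eq hd (Set.toFinite _) (Set.toFinite _), hL1, hL x₂ hx₂.1 hx₂.2.1 hx₂.2.2] at h
      rw [Set.ncard_sdiff (Set.singleton_subset_iff.2 (R : Subgroup G).one_mem), Set.ncard_singleton,
        show ((R : Subgroup G) : Set G).ncard = 9 from (Nat.card_coe_set_eq _).symm.trans hRc]
      omega
    have hall : ∀ r ∈ (R : Subgroup G), r ≠ 1 → (cont r).ncard = 4 ∧
        Nat.card ↥(N ⊓ Subgroup.centralizer ({r} : Set G)) = 9 := by
      intro r hr hr1
      have hr4 : r ∈ S4 := hS8 ▸ ⟨hr, hr1⟩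
      refine ⟨hr4.2.2, ?_⟩
      have hmul := nOrbit_ncard_mul R r
      rw [hL r hr hr1 hr4.2.2, ← hNd, hN] at hmul
      omega
    obtain ⟨⟨u, huN⟩, huo⟩ := exists_prime_orderOf_dvd_card' (G := ↥N) 2 (by rw [hN]; norm_num)
    rw [← Subgroup.orderOf_coe] at huo
    change orderOf u = 2 at huo
    have hu2 : u * u = 1 := by rw [← pow_two, ← huo, pow_orderOf_eq_one]
    have huinv : u⁻¹ = u := inv_eq_of_mul_eq_one_right hu2
    have huR : ∀ a ∈ (R : Subgroup G), u * a * u = a⁻¹ := fun a ha => by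
      refine eq_inv_of_fpf hu2 (isMulCommutative_three hG R) (fun b hb => ?_) (fun b hb hub => ?_) ha
      · have := (Subgroup.mem_normalizer_iff.1 huN b).1 hb
        rwa [huinv] at this
      · by_contra hb1
        have h := (hall b hb hb1).2 ▸ Subgroup.orderOf_dvd_natCard _
          (⟨huN, Subgroup.mem_centralizer_singleton_iff.2 hub⟩ : u ∈ N ⊓ Subgroup.centralizer ({b} : Set G))
        rw [huo] at h
        omega
    obtain ⟨g₁, e₁⟩ := case9_subB_local hG R hodd hC huo huN huR hx₁.1 (hexp x₁ hx₁.1 hx₁.2.1)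
      (hall x₁ hx₁.1 hx₁.2.1).2 (hall x₁ hx₁.1 hx₁.2.1).1
    obtain ⟨g₂, e₂⟩ := case9_subB_local hG R hodd hC huo huN huR hx₂.1 (hexp x₂ hx₂.1 hx₂.2.1)
      (hall x₂ hx₂.1 hx₂.2.1).2 (hall x₂ hx₂.1 hx₂.2.1).1
    rcases hfus u huo x₁ hx₁.1 x₂ hx₂.1 hx₁.2.1 hx₂.2.1 g₁ g₂ e₁ e₂ with h | h
    · exact hx₂n h
    · obtain ⟨k, hk⟩ := inv_mem_nOrbit hG R hx₁.1 hx₁.2.1
      obtain ⟨j, hj⟩ := h
      refine hx₂n ⟨j * k, ?_⟩
      simp only [Subgroup.coe_mul] at hk hj ⊢
      calc (j : G) * k * x₁ * ((j : G) * k)⁻¹ = (j : G) * ((k : G) * x₁ * (k : G)⁻¹) * (j : G)⁻¹ := by group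
        _ = ((j : G) * x₁ * (j : G)⁻¹)⁻¹ := by rw [hk]; group
        _ = x₂ := by rw [hj, inv_inv]

/-- The normaliser of a Sylow three-subgroup has order 144. -/
theorem three_normalizer (hG : Nat.card G = 7920) (R : Sylow 3 G) :
    Nat.card ↥(Subgroup.normalizer ((R : Subgroup G) : Set G)) = 144 := by
  refine (three_normalizer_cases hG R).resolve_right fun hN => ?_
  have hRc := card_three hG R
  obtain ⟨⟨x, hx⟩, hxo⟩ := exists_prime_orderOf_dvd_card' (G := ↥(R : Subgroup G)) 3 (by rw [hRc]; norm_num)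
  rw [← Subgroup.orderOf_coe] at hxo
  have hx1 : x ≠ 1 := fun e => by simp [e] at hxo
  set CR := Subgroup.centralizer ((R : Subgroup G) : Set G) with hCR
  have h9 : 9 ∣ Nat.card ↥CR := hRc ▸ Subgroup.card_dvd_of_le
    (Subgroup.le_centralizer_iff_isMulCommutative.2 (isMulCommutative_three hG R))
  have hle : CR ≤ Subgroup.normalizer ((R : Subgroup G) : Set G) ⊓ Subgroup.centralizer ({x} : Set G) :=
    le_inf (Subgroup.centralizer_le_normalizer _) (Subgroup.centralizer_le (Set.singleton_subset_iff.2 hx))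
  have hd := Subgroup.card_dvd_of_le hle
  have hmul := nOrbit_ncard_mul R x
  rw [hN] at hmul
  have hO := nOrbit_cases hG R hx hx1
  simp only [Finset.mem_insert, Finset.mem_singleton] at hO
  set k := Nat.card ↥(Subgroup.normalizer ((R : Subgroup G) : Set G) ⊓ Subgroup.centralizer ({x} : Set G))
  have hk18 : k ∣ 18 := by
    rcases hO with o | o | o <;> rw [o] at hmul
    · exact Dvd.intro 1 (by omega)
    · exact Dvd.intro 2 (by omega)
    · omega
  have : ∀ j ∈ Nat.divisors 18, 9 ∣ j → j = 9 ∨ j = 18 := by decide +kernel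
  rcases this _ (Nat.mem_divisors.2 ⟨hd.trans hk18, by norm_num⟩) h9 with e | e
  · exact case9 hG R hN e
  · exact case18 hG R hN e

end Cfsg.Lib.MathieuEleven
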