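import Cfsg.Agent.Recognition.MathieuEleven.ThreeNine

/-!
A Sylow three-subgroup of a simple group of order 7920 is elementary abelian, self-centralising, a trivial
intersection set, and its normaliser is transitive on its non-identity elements.
-/

set_option autoImplicit false

namespace Cfsg.Lib.MathieuEleven

open MulAction Cfsg.Lib.Small
open scoped Pointwise IsMulCommutative

variable {G : Type*} [Group G] [Finite G] [IsSimpleGroup G]

omit [IsSimpleGroup G] in
theorem mem_three_of_normalizer (R : Sylow 3 G) {g : G}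
    (hg : g ∈ Subgroup.normalizer ((R : Subgroup G) : Set G)) {k : ℕ} (h : g ^ 3 ^ k = 1) :
    g ∈ (R : Subgroup G) := by
  have hp : IsPGroup 3 ↥(Subgroup.zpowers g) := by
    rintro ⟨a, ha⟩
    obtain ⟨i, rfl⟩ := Subgroup.mem_zpowers_iff.1 ha
    refine ⟨k, Subtype.ext ?_⟩
    push_cast
    rw [← zpow_natCast, ← zpow_mul, mul_comm, zpow_mul, zpow_natCast, h, one_zpow]
  obtain ⟨P, hP⟩ := hp.exists_le_sylow
  have h2 : g ∈ (P : Subgroup G) ⊓ (R : Subgroup G) := by
    rw [← P.2.inf_normalizer_sylow R]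
    exact ⟨hP (Subgroup.mem_zpowers g), hg⟩
  exact h2.2

theorem pow_nine (hG : Nat.card G = 7920) (R : Sylow 3 G) {x : G} (hx : x ∈ (R : Subgroup G)) :
    x ^ 3 ^ 2 = 1 := orderOf_dvd_iff_pow_eq_one.1 (by
  have := Subgroup.orderOf_dvd_natCard _ hx
  rwa [card_three hG R] at this)

theorem eq_of_mem (hG : Nat.card G = 7920) {P R : Sylow 3 G} {x : G} (hP : x ∈ (P : Subgroup G))
    (hR : x ∈ (R : Subgroup G)) (h1 : x ≠ 1) : P = R := by
  obtain ⟨a, ha⟩ := Set.ncard_eq_one.1 (cont_one_of_card hG R (three_normalizer hG R) hR h1)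
  have e1 : P ∈ cont x := hP
  have e2 : R ∈ cont x := hR
  rw [ha, Set.mem_singleton_iff] at e1 e2
  exact e1.trans e2.symm

theorem centralizer_le_normalizer (hG : Nat.card G = 7920) (R : Sylow 3 G) {x : G}
    (hx : x ∈ (R : Subgroup G)) (h1 : x ≠ 1) :
    Subgroup.centralizer ({x} : Set G) ≤ Subgroup.normalizer ((R : Subgroup G) : Set G) := by
  obtain ⟨h, -⟩ := cont_ncard_mul hG R hx h1
  rw [cont_one_of_card hG R (three_normalizer hG R) hx h1, one_mul] at h
  rw [← Subgroup.eq_of_le_of_card_ge (inf_le_right : Subgroup.normalizer ((R : Subgroup G) : Set G) ⊓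
    Subgroup.centralizer ({x} : Set G) ≤ _) h.ge]
  exact inf_le_left

omit [IsSimpleGroup G] in
/-- A non-trivial `2`-invariant subgroup contains an involution centralised by the `2`-group. -/
theorem exists_fixed_involution {S C : Subgroup G} (hS : IsPGroup 2 ↥S)
    (hn : ∀ s ∈ S, ∀ a ∈ C, s * a * s⁻¹ ∈ C) {i : G} (hiS : i ∈ S) (hiC : i ∈ C) (hi : i ≠ 1) :
    ∃ w ∈ C, orderOf w = 2 ∧ ∀ s ∈ S, s * w = w * s := by
  have : Fact (Nat.Prime 2) := ⟨Nat.prime_two⟩
  let _ : MulAction ↥S G := MulAction.compHom G ((ConjAct.toConjAct : G ≃* ConjAct G).toMonoidHom.comp S.subtype)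
  have he : ∀ (k : S) (a : G), k • a = (k : G) * a * (k : G)⁻¹ := fun k a => ConjAct.toConjAct_smul _ a
  let W : SubMulAction ↥S G :=
    { carrier := ((S ⊓ C : Subgroup G) : Set G)
      smul_mem' := fun k a ha => (he k a).symm ▸
        ⟨S.mul_mem (S.mul_mem k.2 ha.1) (S.inv_mem k.2), hn k k.2 a ha.2⟩ }
  have hW : Nat.card ↥W = Nat.card ↥(S ⊓ C) := rfl
  have h2 : 2 ∣ Nat.card ↥W := by
    obtain ⟨n, hn'⟩ := hS.exists_card_eq
    obtain ⟨j, -, hj⟩ := (Nat.dvd_prime_pow Nat.prime_two).1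
      (hn' ▸ Subgroup.card_dvd_of_le (inf_le_left : S ⊓ C ≤ S))
    rw [hW, hj]
    rcases j with _ | j
    · exfalso
      have hb := Subgroup.card_eq_one.1 (hj.trans (pow_zero 2))
      exact hi ((Subgroup.eq_bot_iff_forall _).1 hb i ⟨hiS, hiC⟩)
    · exact dvd_pow_self 2 (Nat.succ_ne_zero j)
  have hfix : (⟨1, show (1 : G) ∈ ((S ⊓ C : Subgroup G) : Set G) from one_mem _⟩ : ↥W) ∈ fixedPoints ↥S ↥W := fun k => Subtype.ext (by
    show k • (1 : G) = 1
    rw [he]; group)
  obtain ⟨⟨a, ha⟩, hafix, hne⟩ := hS.exists_fixed_point_of_prime_dvd_card_of_fixed_point ↥W h2 hfix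
  have ha1 : a ≠ 1 := fun e => hne (Subtype.ext e.symm)
  have hac : ∀ s ∈ S, s * a = a * s := fun s hs => mul_inv_eq_iff_eq_mul.1
    ((he ⟨s, hs⟩ a).symm.trans (congrArg Subtype.val (hafix ⟨s, hs⟩)))
  obtain ⟨n, hn'⟩ := hS.exists_card_eq
  obtain ⟨j, -, hj⟩ := (Nat.dvd_prime_pow Nat.prime_two).1 (hn' ▸ Subgroup.orderOf_dvd_natCard S ha.1)
  rcases j with _ | j
  · exact absurd (orderOf_eq_one_iff.1 (hj.trans (pow_zero 2))) ha1
  refine ⟨a ^ 2 ^ j, C.pow_mem ha.2 _, ?_, fun s hs => ((show Commute s a from hac s hs).pow_right _).eq⟩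
  rw [orderOf_pow' a (pow_ne_zero j (by norm_num)), hj, pow_succ,
    Nat.gcd_mul_right_left, Nat.mul_div_cancel_left _ (pow_pos (by norm_num) j)]

theorem three_self_centralizing (hG : Nat.card G = 7920) (R : Sylow 3 G) :
    Subgroup.centralizer ((R : Subgroup G) : Set G) = (R : Subgroup G) := by
  classical
  have hRc := card_three hG R
  set N := Subgroup.normalizer ((R : Subgroup G) : Set G) with hNd
  set CR := Subgroup.centralizer ((R : Subgroup G) : Set G) with hCRd
  have hN : Nat.card ↥N = 144 := three_normalizer hG R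
  have hRC : (R : Subgroup G) ≤ CR :=
    Subgroup.le_centralizer_iff_isMulCommutative.2 (isMulCommutative_three hG R)
  by_contra hne
  have hCN : CR ≤ N := Subgroup.centralizer_le_normalizer _
  have h2 : 2 ∣ Nat.card ↥CR := by
    have h9 : 9 ∣ Nat.card ↥CR := hRc ▸ Subgroup.card_dvd_of_le hRC
    have h144 : Nat.card ↥CR ∣ 144 := hN ▸ Subgroup.card_dvd_of_le hCN
    have hne9 : Nat.card ↥CR ≠ 9 := fun e => hne (Subgroup.eq_of_le_of_card_ge hRC (by rw [hRc, e])).symm
    have : ∀ j ∈ Nat.divisors 144, 9 ∣ j → j ≠ 9 → 2 ∣ j := by decide +kernel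
    exact this _ (Nat.mem_divisors.2 ⟨h144, by norm_num⟩) h9 hne9
  have : Fact (Nat.Prime 2) := ⟨Nat.prime_two⟩
  obtain ⟨⟨i, hiC⟩, hio⟩ := exists_prime_orderOf_dvd_card' (G := ↥CR) 2 h2
  rw [← Subgroup.orderOf_coe] at hio
  change orderOf i = 2 at hio
  obtain ⟨S0, hS0⟩ : ∃ S0 : Sylow 2 ↥N, Subgroup.zpowers (⟨i, hCN hiC⟩ : ↥N) ≤ S0 :=
    IsPGroup.exists_le_sylow (IsPGroup.of_card (p := 2) (n := 1) (by
      rw [Nat.card_zpowers, ← Subgroup.orderOf_coe, pow_one]; exact hio))
  set S := (S0 : Subgroup ↥N).map N.subtype with hSd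
  have hSc : Nat.card ↥S = 16 := by
    rw [hSd, Subgroup.card_map_of_injective N.subtype_injective]
    simpa using card_sylow_of_factor S0 (a := 4) (m := 9) (by rw [hN]; norm_num) (by norm_num)
  have hSN : S ≤ N := Subgroup.map_subtype_le _
  have hiS : i ∈ S := ⟨⟨i, hCN hiC⟩, hS0 (Subgroup.mem_zpowers _), rfl⟩
  have hSn : ∀ s ∈ S, ∀ a ∈ CR, s * a * s⁻¹ ∈ CR := by
    intro s hs a ha
    rw [hCRd, Subgroup.mem_centralizer_iff]
    intro b hb
    have h1 := Subgroup.mem_centralizer_iff.1 ha _ ((Subgroup.mem_normalizer_iff''.1 (hSN hs) b).1 hb)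
    calc b * (s * a * s⁻¹) = s * ((s⁻¹ * b * s) * a) * s⁻¹ := by group
      _ = s * (a * (s⁻¹ * b * s)) * s⁻¹ := by rw [h1]
      _ = s * a * s⁻¹ * b := by group
  obtain ⟨w, hwC, hwo, hwS⟩ := exists_fixed_involution
    (IsPGroup.of_card (p := 2) (n := 4) (by rw [hSc]; norm_num)) hSn hiS hiC (fun e => by simp [e] at hio)
  have hw1 : w ≠ 1 := fun e => by simp [e] at hwo
  have hw2 : w * w = 1 := by rw [← pow_two, ← hwo, pow_orderOf_eq_one]
  set Cw := Subgroup.centralizer ({w} : Set G) with hCwd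
  have hRw : (R : Subgroup G) ≤ Cw := fun a ha =>
    Subgroup.mem_centralizer_singleton_iff.2 (Subgroup.mem_centralizer_iff.1 hwC a ha)
  have hSw : S ≤ Cw := fun s hs => Subgroup.mem_centralizer_singleton_iff.2 (hwS s hs)
  have hNw : N ≤ Cw := by
    have h144 : 144 ≤ Nat.card ↥(N ⊓ Cw) := by
      have a9 : 9 ∣ Nat.card ↥(N ⊓ Cw) := hRc ▸ Subgroup.card_dvd_of_le (le_inf Subgroup.le_normalizer hRw)
      have a16 : 16 ∣ Nat.card ↥(N ⊓ Cw) := hSc ▸ Subgroup.card_dvd_of_le (le_inf hSN hSw)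
      exact Nat.le_of_dvd Nat.card_pos (by omega)
    rw [← Subgroup.eq_of_le_of_card_ge (inf_le_left : N ⊓ Cw ≤ N) (by rw [hN]; exact h144)]
    exact inf_le_right
  have hCw : Nat.card ↥Cw = 144 := by
    have h144 : 144 ∣ Nat.card ↥Cw := hN ▸ Subgroup.card_dvd_of_le hNw
    have h11 : ¬ 11 ∣ Nat.card ↥Cw := not_eleven_dvd_centralizer hG hw1 (by rw [hwo]; norm_num)
    have hd : Nat.card ↥Cw ∣ 11 * 720 := by
      rw [show 11 * 720 = Nat.card G by rw [hG]]
      exact Subgroup.card_subgroup_dvd_card Cw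
    have h720 : Nat.card ↥Cw ∣ 720 := by
      refine (Nat.Coprime.dvd_mul_left ?_).1 hd
      exact ((Nat.Prime.coprime_iff_not_dvd (by norm_num)).2 h11).symm
    obtain ⟨hs, hsm⟩ := sylow_count Cw hRw (p := 3) (n := 2) (by rw [hRc]; norm_num) (fun h => by
      have := h.trans h720; omega)
    rw [inf_eq_right.2 hNw, hN] at hs
    have : ∀ j ∈ Nat.divisors 720, 144 ∣ j → j = 144 ∨ j = 720 := by decide +kernel
    rcases this _ (Nat.mem_divisors.2 ⟨h720, by norm_num⟩) h144 with e | e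
    · exact e
    · rw [e] at hs; omega
  have hCwN : Cw = N := (Subgroup.eq_of_le_of_card_ge hNw (by rw [hN, hCw])).symm
  set W := cls w with hWd
  set D := {u ∈ W | w * u = u * w ∧ u ≠ w} with hDd
  have hW55 : W.ncard = 55 := by
    have h := ncard_cls_mul w
    rw [← hCwd, hCw, hG, ← hWd] at h
    omega
  have hWsq : ∀ a ∈ W, a * a = 1 := by
    rintro _ ⟨g, rfl⟩
    show g * w * g⁻¹ * (g * w * g⁻¹) = 1
    rw [show g * w * g⁻¹ * (g * w * g⁻¹) = g * (w * w) * g⁻¹ by group, hw2]; group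
  have hWinv : ∀ a ∈ W, a⁻¹ = a := fun a ha => inv_eq_of_mul_eq_one_right (hWsq a ha)
  have hfpf : ∀ u ∈ D, ∀ a ∈ (R : Subgroup G), u * a = a * u → a = 1 := by
    intro u hu a ha hau
    obtain ⟨huW, -, hune⟩ := hu
    obtain ⟨h, rfl⟩ := huW
    by_contra ha1
    have hb : h⁻¹ * a * h ∈ Cw := by
      rw [hCwd, Subgroup.mem_centralizer_singleton_iff]
      have h1 : h * w * h⁻¹ * a = a * (h * w * h⁻¹) := hau
      calc h⁻¹ * a * h * w = h⁻¹ * (a * (h * w * h⁻¹)) * h := by group
        _ = h⁻¹ * (h * w * h⁻¹ * a) * h := by rw [h1]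
        _ = w * (h⁻¹ * a * h) := by group
    have hbR : h⁻¹ * a * h ∈ (R : Subgroup G) := mem_three_of_normalizer R (k := 2) (hCwN.le hb) (by
      have := pow_nine hG R ha
      rw [show h⁻¹ * a * h = h⁻¹ * a * h⁻¹⁻¹ by rw [inv_inv], conj_pow, this]; group)
    have haR : a ∈ ((h • R : Sylow 3 G) : Subgroup G) := by
      have := Subgroup.smul_mem_pointwise_smul _ (MulAut.conj h) _ hbR
      rwa [MulAut.smul_def, MulAut.conj_apply, show h * (h⁻¹ * a * h) * h⁻¹ = a by group] at this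
    have hhN : h ∈ N := Sylow.smul_eq_iff_mem_normalizer.1 (eq_of_mem hG haR ha ha1)
    refine hune ?_
    show h * w * h⁻¹ = w
    rw [Subgroup.mem_centralizer_singleton_iff.1 (hNw hhN), mul_inv_cancel_right]
  have hDN : ∀ u ∈ D, u ∈ N := fun u hu => hCwN ▸ Subgroup.mem_centralizer_singleton_iff.2 hu.2.1.symm
  have hinv : ∀ u ∈ D, ∀ a ∈ (R : Subgroup G), u * a * u = a⁻¹ := fun u hu a ha =>
    eq_inv_of_fpf (hWsq u hu.1) (isMulCommutative_three hG R) (fun b hb => by
      have := (Subgroup.mem_normalizer_iff.1 (hDN u hu) b).1 hb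
      rwa [hWinv u hu.1] at this) (hfpf u hu) ha
  have hDconj : ∀ c : G, c * w = w * c → ∀ a ∈ D, c * a * c⁻¹ ∈ D := by
    rintro c hcw a ⟨haW, haw, hane⟩
    have hcwc : c * w * c⁻¹ = w := by rw [hcw, mul_inv_cancel_right]
    refine ⟨conj_mem_cls c haW, ?_, fun e => hane ?_⟩
    · calc w * (c * a * c⁻¹) = (c * w * c⁻¹) * (c * a * c⁻¹) := by rw [hcwc]
        _ = c * (w * a) * c⁻¹ := by group
        _ = c * (a * w) * c⁻¹ := by rw [haw]
        _ = c * a * c⁻¹ * (c * w * c⁻¹) := by group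
        _ = c * a * c⁻¹ * w := by rw [hcwc]
    · rw [← hcwc] at e
      simpa using e
  have h9D : 9 ∣ D.ncard := by
    rw [← hRc]
    exact dvd_of_free _ D (fun x hx a ha => hDconj x (Subgroup.mem_centralizer_iff.1 hwC x hx) a ha)
      fun x hx u hu hxu => hfpf u hu x hx hxu.symm
  set N0 := {a ∈ W | w * a ≠ a * w} with hN0
  have hpart : D.ncard + N0.ncard = 54 := by
    have h : W = insert w (D ∪ N0) := by
      ext a
      constructor
      · intro ha
        by_cases h1 : a = w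
        · exact Or.inl h1
        · by_cases h2 : w * a = a * w
          · exact Or.inr (Or.inl ⟨ha, h2, h1⟩)
          · exact Or.inr (Or.inr ⟨ha, h2⟩)
      · rintro (rfl | h | h)
        · exact self_mem_cls a
        · exact h.1
        · exact h.1
    have hd : Disjoint D N0 := Set.disjoint_left.2 fun a ha hb => hb.2 ha.2.1
    rw [h, Set.ncard_insert_of_notMem (by
      rintro (h' | h')
      · exact h'.2.2 rfl
      · exact h'.2 rfl) (Set.toFinite _), Set.ncard_union_eq hd (Set.toFinite _) (Set.toFinite _)] at hW55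
    omega
  have h4N : 4 ∣ N0.ncard := four_dvd_noncommuting hG hw2
  set F2 : G → Set G := fun a => {b ∈ W | a * b ≠ b * a} with hF2d
  set Cod := {p : G × G | p.1 ∈ W ∧ p.2 ∈ F2 p.1} with hCod
  have hF2 : ∀ a ∈ W, (F2 a).ncard = N0.ncard := by
    rintro _ ⟨h, rfl⟩
    have : F2 (h * w * h⁻¹) = (fun a => h * a * h⁻¹) '' N0 := by
      ext b
      constructor
      · rintro ⟨hbW, hb⟩
        refine ⟨h⁻¹ * b * h, ⟨by simpa using conj_mem_cls h⁻¹ hbW, fun e => hb ?_⟩, by group⟩
        calc h * w * h⁻¹ * b = h * (w * (h⁻¹ * b * h)) * h⁻¹ := by group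
          _ = h * (h⁻¹ * b * h * w) * h⁻¹ := by rw [e]
          _ = b * (h * w * h⁻¹) := by group
      · rintro ⟨c, ⟨hcW, hc⟩, rfl⟩
        refine ⟨conj_mem_cls h hcW, fun e => hc ?_⟩
        have e' := congrArg (fun t => h⁻¹ * t * h) e
        simpa [mul_assoc] using e'
    rw [this, Set.ncard_image_of_injective _ fun a b e => by simpa using e]
  have hCodc : Cod.ncard = 55 * N0.ncard := by rw [hCod, ncard_pairs W F2 N0.ncard hF2, hW55]
  have hchoice : ∀ P : Sylow 3 G, ∃ g : G, g • R = P := fun P => MulAction.exists_smul_eq G R P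
  choose gP hgP using hchoice
  set Φ : Sylow 3 G × ↥(((R : Subgroup G) : Set G) \ {1}) × ↥D → G × G := fun p =>
    (gP p.1 * p.2.2.1 * (gP p.1)⁻¹, gP p.1 * (p.2.2.1 * p.2.1.1) * (gP p.1)⁻¹) with hΦ
  have hΦinj : Function.Injective Φ := by
    rintro ⟨P, ⟨r, hr⟩, ⟨d, hd⟩⟩ ⟨P', ⟨r', hr'⟩, ⟨d', hd'⟩⟩ e
    simp only [hΦ, Prod.mk.injEq] at e
    obtain ⟨e1, e2⟩ := e
    have e3 : gP P * r * (gP P)⁻¹ = gP P' * r' * (gP P')⁻¹ := by
      calc gP P * r * (gP P)⁻¹ = (gP P * d * (gP P)⁻¹)⁻¹ * (gP P * (d * r) * (gP P)⁻¹) := by group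
        _ = (gP P' * d' * (gP P')⁻¹)⁻¹ * (gP P' * (d' * r') * (gP P')⁻¹) := by rw [e1, e2]
        _ = gP P' * r' * (gP P')⁻¹ := by group
    have hm : gP P * r * (gP P)⁻¹ ∈ ((gP P • R : Sylow 3 G) : Subgroup G) :=
      Subgroup.smul_mem_pointwise_smul r (MulAut.conj (gP P)) _ hr.1
    have hm' : gP P' * r' * (gP P')⁻¹ ∈ ((gP P' • R : Sylow 3 G) : Subgroup G) :=
      Subgroup.smul_mem_pointwise_smul r' (MulAut.conj (gP P')) _ hr'.1
    rw [hgP] at hm hm'
    have hPP : P = P' := eq_of_mem hG hm (e3 ▸ hm') fun e => hr.2 (by simpa using e)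
    subst hPP
    have hr2 : r = r' := mul_left_cancel (mul_right_cancel e3)
    have hd2 : d = d' := mul_left_cancel (mul_right_cancel e1)
    subst hr2 hd2
    rfl
  have himg : Set.range Φ ⊆ Cod := by
    rintro _ ⟨⟨P, ⟨r, hr, hr1⟩, ⟨d, hd⟩⟩, rfl⟩
    simp only [hΦ]
    have hdd := hWsq d hd.1
    have e1 := hinv d hd r hr
    have hne : d * (d * r) ≠ (d * r) * d := fun e => by
      rw [← mul_assoc, hdd, one_mul, e1] at e
      have h2 : orderOf r ∣ 2 := orderOf_dvd_of_pow_eq_one (by rw [pow_two]; nth_rw 1 [e]; simp)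
      rcases orderOf_three_elt hG R hr hr1 with o | o <;> rw [o] at h2 <;> omega
    have hmemW : d * r ∈ W := by
      have h9 : r ^ 9 = 1 := pow_nine hG R hr
      have h4 : d * r ^ 4 = (r ^ 4)⁻¹ * d := by
        calc d * r ^ 4 = d * r ^ 4 * (d * d) := by rw [hdd, mul_one]
          _ = (d * r ^ 4 * d⁻¹) * d := by rw [hWinv d hd.1]; group
          _ = (r ^ 4)⁻¹ * d := by rw [← conj_pow, hWinv d hd.1, e1, inv_pow]
      have hc : r ^ 4 * d * (r ^ 4)⁻¹ = d * r := by
        calc r ^ 4 * d * (r ^ 4)⁻¹ = r ^ 4 * ((r ^ 4)⁻¹ * (r ^ 4)) * d * (r ^ 4)⁻¹ := by group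
          _ = r ^ 4 * (r ^ 4)⁻¹ * ((r ^ 4) * d) * (r ^ 4)⁻¹ := by group
          _ = (r ^ 4 * d) * (r ^ 4)⁻¹ := by group
          _ = (d * (r ^ 4)⁻¹) * (r ^ 4)⁻¹ := by
            congr 1
            calc r ^ 4 * d = r ^ 4 * (d * r ^ 4) * (r ^ 4)⁻¹ := by group
              _ = r ^ 4 * ((r ^ 4)⁻¹ * d) * (r ^ 4)⁻¹ := by rw [h4]
              _ = d * (r ^ 4)⁻¹ := by group
          _ = d * (r ^ 4)⁻¹ * (r ^ 4)⁻¹ * r ^ 9 := by rw [h9, mul_one]
          _ = d * r := by group
      exact hc ▸ conj_mem_cls _ hd.1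
    refine ⟨conj_mem_cls _ hd.1, conj_mem_cls _ hmemW, fun e => hne ?_⟩
    calc d * (d * r) = (gP P)⁻¹ * (gP P * d * (gP P)⁻¹ * (gP P * (d * r) * (gP P)⁻¹)) * gP P := by group
      _ = (gP P)⁻¹ * (gP P * (d * r) * (gP P)⁻¹ * (gP P * d * (gP P)⁻¹)) * gP P := by rw [e]
      _ = (d * r) * d := by group
  have hineq := Set.ncard_le_ncard himg (Set.toFinite _)
  rw [← Nat.card_coe_set_eq (Set.range Φ), Nat.card_range_of_injective hΦinj, hCodc, Nat.card_prod, Nat.card_prod,
    Nat.card_coe_set_eq, Nat.card_coe_set_eq, Set.ncard_sdiff (Set.singleton_subset_iff.2 (R : Subgroup G).one_mem),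
    Set.ncard_singleton, show ((R : Subgroup G) : Set G).ncard = 9 from (Nat.card_coe_set_eq _).symm.trans hRc] at hineq
  have hn55 : Nat.card (Sylow 3 G) = 55 := by
    have h := card_normalizer_mul R
    rw [← hNd, hN, hG] at h
    omega
  rw [hn55] at hineq
  omega

theorem not_nine_dvd_centralizer_involution (hG : Nat.card G = 7920) {v : G} (hv : orderOf v = 2) :
    ¬ 9 ∣ Nat.card ↥(Subgroup.centralizer ({v} : Set G)) := by
  intro h9
  obtain ⟨X, hX⟩ := Sylow.exists_subgroup_card_pow_prime (G := ↥(Subgroup.centralizer ({v} : Set G))) 3 (n := 2)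
    (by simpa using h9)
  set P := X.map (Subgroup.centralizer ({v} : Set G)).subtype with hP
  have hPc : Nat.card ↥P = 3 ^ (Nat.card G).factorization 3 := by
    rw [hP, Subgroup.card_map_of_injective (Subgroup.centralizer ({v} : Set G)).subtype_injective, hX, hG,
      show (7920 : ℕ) = 3 ^ 2 * 880 by norm_num, Nat.factorization_mul (by norm_num) (by norm_num),
      Finsupp.add_apply, Nat.prime_three.factorization_pow, Finsupp.single_eq_same,
      Nat.factorization_eq_zero_of_not_dvd (by norm_num), add_zero]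
  set R := Sylow.ofCard P hPc with hR
  have hmem : v ∈ Subgroup.centralizer ((R : Subgroup G) : Set G) := by
    rw [hR, Sylow.coe_ofCard, Subgroup.mem_centralizer_iff]
    intro b hb
    obtain ⟨b', -, rfl⟩ := hb
    exact Subgroup.mem_centralizer_singleton_iff.1 b'.2
  rw [three_self_centralizing hG R] at hmem
  have h := card_three hG R ▸ Subgroup.orderOf_dvd_natCard _ hmem
  rw [hv] at h
  omega

theorem exponent_three (hG : Nat.card G = 7920) (R : Sylow 3 G) {x : G} (hx : x ∈ (R : Subgroup G))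
    (h1 : x ≠ 1) : orderOf x = 3 := by
  refine (orderOf_three_elt hG R hx h1).resolve_right fun h9 => ?_
  have hRc := card_three hG R
  have hz : Subgroup.zpowers x = (R : Subgroup G) :=
    Subgroup.eq_of_le_of_card_ge (Subgroup.zpowers_le.2 hx) (by rw [hRc, Nat.card_zpowers, h9])
  have hC : Subgroup.centralizer ({x} : Set G) = (R : Subgroup G) := by
    rw [← three_self_centralizing hG R, ← hz, Subgroup.zpowers_eq_closure, Subgroup.centralizer_closure]
  have h := nOrbit_ncard_mul R x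
  rw [three_normalizer hG R, hC, inf_eq_right.2 Subgroup.le_normalizer, hRc] at h
  have := nOrbit_ncard_le hG R hx h1
  omega

theorem zpowers_sup_eq (hG : Nat.card G = 7920) (R : Sylow 3 G) {x z : G} (hx : x ∈ (R : Subgroup G))
    (h1 : x ≠ 1) (hz : z ∈ (R : Subgroup G)) (hzx : z ∉ Subgroup.zpowers x) :
    Subgroup.zpowers x ⊔ Subgroup.zpowers z = (R : Subgroup G) := by
  have hRc := card_three hG R
  have hle : Subgroup.zpowers x ⊔ Subgroup.zpowers z ≤ (R : Subgroup G) :=
    sup_le (Subgroup.zpowers_le.2 hx) (Subgroup.zpowers_le.2 hz)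
  refine Subgroup.eq_of_le_of_card_ge hle ?_
  have hd := hRc ▸ Subgroup.card_dvd_of_le hle
  have hlt : 3 < Nat.card ↥(Subgroup.zpowers x ⊔ Subgroup.zpowers z) := by
    refine lt_of_le_of_ne ?_ fun e => hzx ?_
    · have := Subgroup.card_le_of_le (le_sup_left : Subgroup.zpowers x ≤ Subgroup.zpowers x ⊔ Subgroup.zpowers z)
      rwa [Nat.card_zpowers, exponent_three hG R hx h1] at this
    · rw [Subgroup.eq_of_le_of_card_ge (le_sup_left : Subgroup.zpowers x ≤ Subgroup.zpowers x ⊔ _) (by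
        rw [Nat.card_zpowers, exponent_three hG R hx h1]; exact e.ge)]
      exact Subgroup.mem_sup_right (Subgroup.mem_zpowers z)
  have : ∀ j ∈ Nat.divisors 9, 3 < j → 9 ≤ j := by decide +kernel
  rw [hRc]
  exact this _ (Nat.mem_divisors.2 ⟨hd, by norm_num⟩) hlt

theorem nOrbit_eight (hG : Nat.card G = 7920) (R : Sylow 3 G) {x : G} (hx : x ∈ (R : Subgroup G))
    (h1 : x ≠ 1) : (nOrbit R x).ncard = 8 ∧
      Nat.card ↥(Subgroup.centralizer ({x} : Set G)) = 18 := by
  have hRc := card_three hG R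
  set N := Subgroup.normalizer ((R : Subgroup G) : Set G) with hNd
  set Cx := Subgroup.centralizer ({x} : Set G) with hCxd
  have hN : Nat.card ↥N = 144 := three_normalizer hG R
  have hCN : Cx ≤ N := centralizer_le_normalizer hG R hx h1
  have hxo := exponent_three hG R hx h1
  obtain ⟨z, hz, hzx⟩ := SetLike.not_le_iff_exists.1 (show ¬ (R : Subgroup G) ≤ Subgroup.zpowers x from fun h => by
    have := Subgroup.card_le_of_le h
    rw [hRc, Nat.card_zpowers, hxo] at this
    omega)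
  have hgen := zpowers_sup_eq hG R hx h1 hz hzx
  have hRCx := three_le_centralizer hG R hx
  have hstab : Cx ⊓ Subgroup.centralizer ({z} : Set G) = (R : Subgroup G) := by
    refine le_antisymm ?_ (le_inf hRCx (three_le_centralizer hG R hz))
    intro a ha
    rw [← three_self_centralizing hG R, Subgroup.mem_centralizer_iff]
    intro b hb
    have hle : (R : Subgroup G) ≤ Subgroup.centralizer ({a} : Set G) := by
      rw [← hgen]
      refine sup_le (Subgroup.zpowers_le.2 ?_) (Subgroup.zpowers_le.2 ?_)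
      · exact Subgroup.mem_centralizer_singleton_iff.2 (Subgroup.mem_centralizer_singleton_iff.1 ha.1).symm
      · exact Subgroup.mem_centralizer_singleton_iff.2 (Subgroup.mem_centralizer_singleton_iff.1 ha.2).symm
    exact Subgroup.mem_centralizer_singleton_iff.1 (hle hb)
  set O := Set.range fun k : ↥Cx => (k : G) * z * (k : G)⁻¹ with hOd
  have horb := ncard_conj_orbit Cx z
  rw [hstab, hRc, ← hOd] at horb
  have hsub : O ⊆ ((R : Subgroup G) : Set G) \ (Subgroup.zpowers x : Set G) := by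
    rintro _ ⟨k, rfl⟩
    refine ⟨(Subgroup.mem_normalizer_iff.1 (hCN k.2) z).1 hz, fun h => hzx ?_⟩
    exact (Subgroup.mem_normalizer_iff.1 (centralizer_le_normalizer_zpowers x k.2) z).2 h
  have hO6 : O.ncard ≤ 6 := by
    have h := Set.ncard_le_ncard hsub (Set.toFinite _)
    rw [Set.ncard_sdiff (Subgroup.zpowers_le.2 hx), ← Nat.card_coe_set_eq, ← Nat.card_coe_set_eq] at h
    change _ ≤ Nat.card ↥(R : Subgroup G) - Nat.card ↥(Subgroup.zpowers x) at h
    rw [hRc, Nat.card_zpowers, hxo] at h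
    exact h
  have hmul := nOrbit_ncard_mul R x
  rw [← hNd, ← hCxd, inf_eq_right.2 hCN, hN] at hmul
  have hO8 := nOrbit_cases hG R hx h1
  simp only [Finset.mem_insert, Finset.mem_singleton] at hO8
  rcases hO8 with o | o | o
  · exfalso; rw [o] at hmul; omega
  · exfalso
    rw [o] at hmul
    have hO4 : O.ncard = 4 := by omega
    have h3dvd : 3 ∣ O.ncard := by
      -- two members differing by a power of `x` give a three-element fixing `z`
      exfalso
      have hcardC : Nat.card ↥Cx = 36 := by omega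
      -- the map to the coset of `⟨x⟩`
      have hcos : ∀ a ∈ O, z⁻¹ * a ∈ Subgroup.zpowers x ∨ z * a ∈ Subgroup.zpowers x := by
        intro a ha
        obtain ⟨haR, hax⟩ := hsub ha
        have hd : ∀ b ∈ (R : Subgroup G), b ∉ Subgroup.zpowers x →
            (∃ i ∈ Subgroup.zpowers x, b = z * i) ∨ (∃ i ∈ Subgroup.zpowers x, b = z⁻¹ * i) := by
          intro b hb hbx
          rw [← hgen] at hb
          have hcomm : ∀ u ∈ Subgroup.zpowers x, ∀ v ∈ Subgroup.zpowers z, u * v = v * u := fun u hu v hv =>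
            congrArg Subtype.val ((isMulCommutative_three hG R).is_comm.comm
              ⟨u, Subgroup.zpowers_le.2 hx hu⟩ ⟨v, Subgroup.zpowers_le.2 hz hv⟩)
          obtain ⟨u, hu, v, hv, rfl⟩ : ∃ u ∈ Subgroup.zpowers x, ∃ v ∈ Subgroup.zpowers z, u * v = b := by
            have hset : (b : G) ∈ ((Subgroup.zpowers x : Set G) * (Subgroup.zpowers z : Set G)) := by
              rw [← SetLike.mem_coe, Subgroup.coe_mul_of_left_le_normalizer_right _ _ (fun u hu =>
                mem_normalizer_of_conj_le fun v hv => by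
                  rw [hcomm u hu v hv, mul_inv_cancel_right]; exact hv)] at hb
              exact hb
            exact Set.mem_mul.1 hset
          have hzo := exponent_three hG R hz fun e => hzx (e ▸ Subgroup.one_mem _)
          by_cases hv1 : v = 1
          · subst hv1; exact absurd (by simpa using hu) hbx
          rcases mem_zpowers_three hzo hv hv1 with rfl | rfl
          · exact Or.inl ⟨u, hu, hcomm u hu _ hv⟩
          · exact Or.inr ⟨u, hu, hcomm u hu _ hv⟩
        rcases hd a haR hax with ⟨i, hi, rfl⟩ | ⟨i, hi, rfl⟩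
        · exact Or.inl (by rwa [inv_mul_cancel_left])
        · exact Or.inr (by rwa [mul_inv_cancel_left])
      have key : ∀ a ∈ O, ∀ b ∈ O, a⁻¹ * b ∈ Subgroup.zpowers x → a = b := by
        rintro _ ⟨⟨k, hk⟩, rfl⟩ _ ⟨⟨l, hl⟩, rfl⟩ hab
        simp only at hab ⊢
        set g := k⁻¹ * l with hg
        have hgC : g ∈ Cx := Cx.mul_mem (Cx.inv_mem hk) hl
        have hi : z⁻¹ * (g * z * g⁻¹) ∈ Subgroup.zpowers x := by
          have h := (Subgroup.mem_normalizer_iff''.1 (centralizer_le_normalizer_zpowers x hk) _).1 hab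
          rwa [show k⁻¹ * ((k * z * k⁻¹)⁻¹ * (l * z * l⁻¹)) * k = z⁻¹ * (g * z * g⁻¹) by rw [hg]; group] at h
        set i := z⁻¹ * (g * z * g⁻¹) with hid
        have hgi : g * i = i * g := by
          obtain ⟨j, hj⟩ := Subgroup.mem_zpowers_iff.1 hi
          rw [← hj]
          exact ((show Commute g x from Subgroup.mem_centralizer_singleton_iff.1 hgC).zpow_right j).eq
        have hgz : g * z * g⁻¹ = z * i := by rw [hid, mul_inv_cancel_left]
        have hi3 : i * i * i = 1 := by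
          rw [← pow_two, ← pow_succ]
          refine orderOf_dvd_iff_pow_eq_one.1 ?_
          have := Subgroup.orderOf_dvd_natCard _ hi
          rwa [Nat.card_zpowers, hxo] at this
        have h3 : g ^ 3 * z * (g ^ 3)⁻¹ = z := by
          have e1 : g * i * g⁻¹ = i := by rw [hgi, mul_inv_cancel_right]
          have e2 : g * (z * i) * g⁻¹ = z * i * i := by
            calc g * (z * i) * g⁻¹ = (g * z * g⁻¹) * (g * i * g⁻¹) := by group
              _ = z * i * i := by rw [hgz, e1]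
          calc g ^ 3 * z * (g ^ 3)⁻¹ = g * (g * (g * z * g⁻¹) * g⁻¹) * g⁻¹ := by rw [pow_succ, pow_two]; group
            _ = g * (z * i * i) * g⁻¹ := by rw [hgz, e2]
            _ = (g * (z * i) * g⁻¹) * (g * i * g⁻¹) := by group
            _ = z * i * i * i := by rw [e2, e1]
            _ = z * (i * i * i) := by group
            _ = z := by rw [hi3, mul_one]
        have hg3 : g ^ 3 ∈ (R : Subgroup G) := hstab ▸
          ⟨Cx.pow_mem hgC 3, Subgroup.mem_centralizer_singleton_iff.2 (mul_inv_eq_iff_eq_mul.1 h3)⟩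
        have hgR : g ∈ (R : Subgroup G) := mem_three_of_normalizer R (k := 3) (hCN hgC) (by
          rw [show (3 : ℕ) ^ 3 = 3 * 9 from rfl, pow_mul]; exact pow_nine hG R hg3)
        have hgz' : g * z = z * g :=
          Subgroup.mem_centralizer_singleton_iff.1 (three_le_centralizer hG R hz hgR)
        calc k * z * k⁻¹ = k * (g * z * g⁻¹) * k⁻¹ := by rw [hgz', mul_inv_cancel_right]
          _ = l * z * l⁻¹ := by rw [hg]; group
      have hle2 : O.ncard ≤ 2 := by
        have : O = {a ∈ O | z⁻¹ * a ∈ Subgroup.zpowers x} ∪ {a ∈ O | z * a ∈ Subgroup.zpowers x} := by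
          ext a
          exact ⟨fun ha => (hcos a ha).imp (fun h => ⟨ha, h⟩) fun h => ⟨ha, h⟩, fun h => h.elim And.left And.left⟩
        rw [this]
        refine (Set.ncard_union_le _ _).trans (show _ + _ ≤ 1 + 1 from Nat.add_le_add ?_ ?_) <;>
          refine (Set.ncard_le_one (Set.toFinite _)).2 fun a ha b hb => key a ha.1 b hb.1 ?_
        · have := (Subgroup.zpowers x).mul_mem ((Subgroup.zpowers x).inv_mem ha.2) hb.2
          rwa [show (z⁻¹ * a)⁻¹ * (z⁻¹ * b) = a⁻¹ * b by group] at this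
        · have := (Subgroup.zpowers x).mul_mem ((Subgroup.zpowers x).inv_mem ha.2) hb.2
          rwa [show (z * a)⁻¹ * (z * b) = a⁻¹ * b by group] at this
      omega
    omega
  · refine ⟨o, ?_⟩
    rw [o] at hmul
    omega

end Cfsg.Lib.MathieuEleven
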